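import Cfsg.Agent.Lib.A12.Defs2
/-! Package AMAL of `blueprint/A12/README.md`. -/
set_option autoImplicit false
namespace H24.T12
open Subgroup H1.A10 H45 H69 Gold Cfsg

variable {G : Type} [Group G] [Finite G] {ι : M →* G} {π : G → B} {g k : G}

namespace AMAL

variable {A X : Type} [Group A] [Group X] {t s b : A} {φ : A → X} {σ : X}

theorem mc {x y : A} : x ∈ 𝐂[y] ↔ x * y = y * x := mem_centralizer_singleton_iff

/-- `g` moves `t` to a neighbour -/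
def Ad (t g : A) : Prop := g * t * g⁻¹ ≠ t ∧ g * t * g⁻¹ ∈ 𝐂[t]

/-- the value on the double coset -/
def Mu (t s : A) (φ : A → X) (σ : X) (g : A) (y : X) : Prop :=
  ∃ c ∈ 𝐂[t], ∃ c' ∈ 𝐂[t], g = c * s * c' ∧ y = φ c * σ * φ c'

theorem cjc {c : A} (h : c ∈ 𝐂[t]) : c * t * c⁻¹ = t := by rw [mc.1 h, mul_inv_cancel_right]

theorem of_cj {a g : A} (h : a * t * a⁻¹ = g * t * g⁻¹) : a⁻¹ * g ∈ 𝐂[t] := by
  rw [mc]
  calc a⁻¹ * g * t = a⁻¹ * (g * t * g⁻¹) * g := by group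
    _ = t * (a⁻¹ * g) := by rw [← h]; group

theorem adj_iff {a g : A} : (a * t * a⁻¹ ≠ g * t * g⁻¹ ∧ a * t * a⁻¹ ∈ 𝐂[g * t * g⁻¹]) ↔ Ad t (g⁻¹ * a) := by
  have e : g⁻¹ * a * t * (g⁻¹ * a)⁻¹ = g⁻¹ * (a * t * a⁻¹) * g := by group
  unfold Ad
  rw [e, mc, mc]
  generalize a * t * a⁻¹ = d
  refine and_congr (not_congr ⟨fun h => by rw [h]; group, fun h => by rw [← h]; group⟩) ⟨fun h => ?_, fun h => ?_⟩
  · calc g⁻¹ * d * g * t = g⁻¹ * (d * (g * t * g⁻¹)) * g := by group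
      _ = _ := by rw [h]; group
  · calc d * (g * t * g⁻¹) = g * (g⁻¹ * d * g * t) * g⁻¹ := by group
      _ = _ := by rw [h]; group

theorem Ad.inv {g : A} (h : Ad t g) : Ad t g⁻¹ := by
  have k : Ad t (g⁻¹ * 1) := adj_iff.1 ⟨by simpa using h.1.symm, by simpa [mc] using (mc.1 h.2).symm⟩
  rwa [mul_one] at k

theorem Ad.cc {g c c' : A} (h : Ad t g) (hc : c ∈ 𝐂[t]) (hc' : c' ∈ 𝐂[t]) : Ad t (c * g * c') := by
  have e : c * g * c' * t * (c * g * c')⁻¹ = c * (g * t * g⁻¹) * c⁻¹ := by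
    calc _ = c * g * (c' * t * c'⁻¹) * g⁻¹ * c⁻¹ := by group
      _ = _ := by rw [cjc hc']; group
  unfold Ad
  rw [e]
  refine ⟨fun k => h.1 ?_, mul_mem (mul_mem hc h.2) (inv_mem hc)⟩
  calc g * t * g⁻¹ = c⁻¹ * (c * (g * t * g⁻¹) * c⁻¹) * c := by group
    _ = t := by rw [k]; simpa using cjc (inv_mem hc)

variable (h : Am t s b φ σ)
include h

theorem si : s⁻¹ = s := inv_eq_of_mul_eq_one_right h.ss

theorem one : φ 1 = 1 := by
  have := h.mul 1 (one_mem _) 1 (one_mem _)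
  rw [mul_one] at this
  exact mul_left_cancel (this.symm.trans (mul_one _).symm)

theorem ads : Ad t s := ⟨h.ne, h.cm⟩

theorem ex_mu {g : A} (k : Ad t g) : ∃ y, Mu t s φ σ g y := by
  obtain ⟨x, hx, e⟩ := h.tr1 _ (isConj_iff.2 ⟨g, rfl⟩) k.1 k.2
  refine ⟨_, x, hx, (x * s)⁻¹ * g, of_cj ?_, by group, rfl⟩
  rw [← e]; group

theorem mu_uq {g : A} {y y' : X} (k : Mu t s φ σ g y) (k' : Mu t s φ σ g y') : y = y' := by
  obtain ⟨c, hc, c', hc', rfl, rfl⟩ := k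
  obtain ⟨e, he, e', he', f, rfl⟩ := k'
  have hv : c' * e'⁻¹ ∈ 𝐂[t] := mul_mem hc' (inv_mem he')
  have f' : s * (c' * e'⁻¹) * s⁻¹ = c⁻¹ * e := by
    calc _ = c⁻¹ * (c * s * c') * e'⁻¹ * s⁻¹ := by group
      _ = _ := by rw [f]; group
  have hw : c⁻¹ * e ∈ 𝐂[t] := mul_mem (inv_mem hc) he
  have hv' : c' * e'⁻¹ ∈ 𝐂[s * t * s⁻¹] := by
    have := mc.1 hw
    rw [← f'] at this
    rw [mc]
    generalize c' * e'⁻¹ = v at this ⊢
    rw [si h] at this ⊢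
    calc v * (s * t * s) = s * (s * v * s * t) * s := by simp only [← mul_assoc, h.ss, one_mul]
      _ = s * t * s * v * (s * s) := by rw [this]; group
      _ = _ := by rw [h.ss, mul_one]
  have a := h.act _ hv hv'
  rw [f'] at a
  have a1 : φ e = φ c * φ (c⁻¹ * e) := by rw [← h.mul _ hc _ hw]; congr 1; group
  have a2 : φ c' = φ (c' * e'⁻¹) * φ e' := by rw [← h.mul _ hv _ he']; congr 1; group
  rw [a1, a2, ← a]; group

omit h in
open Classical in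
/-- the value as a function -/
noncomputable def mu (t s : A) (φ : A → X) (σ : X) (g : A) : X :=
  if k : ∃ y, Mu t s φ σ g y then k.choose else 1

theorem mu_eq {g : A} {y : X} (k : Mu t s φ σ g y) : mu t s φ σ g = y := by
  have e : ∃ y, Mu t s φ σ g y := ⟨y, k⟩
  rw [mu, dif_pos e]
  exact mu_uq h e.choose_spec k

theorem mu_val {c c' : A} (hc : c ∈ 𝐂[t]) (hc' : c' ∈ 𝐂[t]) : mu t s φ σ (c * s * c') = φ c * σ * φ c' :=
  mu_eq h ⟨c, hc, c', hc', rfl, rfl⟩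

theorem mu_l {g c : A} (k : Ad t g) (hc : c ∈ 𝐂[t]) : mu t s φ σ (c * g) = φ c * mu t s φ σ g := by
  obtain ⟨_, a, ha, a', ha', rfl, -⟩ := ex_mu h k
  rw [← mul_assoc, ← mul_assoc, mu_val h (mul_mem hc ha) ha', mu_val h ha ha', h.mul _ hc _ ha]; group

theorem mu_s {g : A} (k : Ad t g) (k' : Ad t (s * g)) : mu t s φ σ (s * g) = σ * mu t s φ σ g := by
  have a := adj_iff.2 (show Ad t (s⁻¹ * g) by rwa [si h])
  obtain ⟨x, hx, hx', e⟩ := h.tr2 _ (isConj_iff.2 ⟨g, rfl⟩) k.1 k.2 a.1 a.2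
  have hc : (x * b * s)⁻¹ * g ∈ 𝐂[t] := of_cj (by rw [← e]; group)
  have f : g = x * b * s * ((x * b * s)⁻¹ * g) := by group
  generalize (x * b * s)⁻¹ * g = c at hc f
  have hy : s * x * s⁻¹ ∈ 𝐂[t] := by
    have := mc.1 hx'
    rw [mc]
    rw [si h] at this ⊢
    calc s * x * s * t = s * (x * (s * t * s)) * s := by simp only [mul_assoc, h.ss, mul_one]
      _ = (s * s) * t * (s * x * s) := by rw [this]; group
      _ = _ := by rw [h.ss, one_mul]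
  have f' : s * g = (s * x * s⁻¹ * b) * s * (b * c) := by
    calc s * g = s * x * s⁻¹ * (s * b * s) * c := by rw [f]; group
      _ = _ := by rw [h.br]; group
  rw [f', f, mu_val h (mul_mem hy h.bt) (mul_mem h.bt hc), mu_val h (mul_mem hx h.bt) hc, h.mul _ hy _ h.bt,
    h.mul _ h.bt _ hc, h.mul _ hx _ h.bt, ← h.act x hx hx']
  calc _ = σ * φ x * σ⁻¹ * (φ b * σ * φ b) * φ c := by group
    _ = _ := by rw [← h.br']; group

theorem tri {g g' : A} (k : Ad t g) (k' : Ad t g') (k'' : Ad t (g * g')) :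
    mu t s φ σ (g * g') = mu t s φ σ g * mu t s φ σ g' := by
  obtain ⟨_, c, hc, c', hc', rfl, -⟩ := ex_mu h k
  have a1 : Ad t (c' * g') := by simpa using k'.cc hc' (one_mem _)
  have a2 : Ad t (s * (c' * g')) := by simpa [mul_assoc] using k''.cc (inv_mem hc) (one_mem _)
  rw [show c * s * c' * g' = c * (s * (c' * g')) by group, mu_l h a2 hc, mu_s h a1 a2, mu_l h k' hc',
    mu_val h hc hc']
  group

theorem tri' {a g u : A} (k : Ad t (a⁻¹ * g)) (k' : Ad t (g⁻¹ * u)) (k'' : Ad t (a⁻¹ * u)) :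
    mu t s φ σ (a⁻¹ * u) = mu t s φ σ (a⁻¹ * g) * mu t s φ σ (g⁻¹ * u) := by
  have e : a⁻¹ * u = a⁻¹ * g * (g⁻¹ * u) := by group
  rw [e] at k'' ⊢
  exact tri h k k' k''

theorem nbr (g₁ g₂ g₃ g₄ : A) (k : Ad t (g₃⁻¹ * g₂)) :
    ∃ a, Ad t (g₁⁻¹ * a) ∧ Ad t (g₂⁻¹ * a) ∧ Ad t (g₃⁻¹ * a) ∧ Ad t (g₄⁻¹ * a) := by
  have k' := adj_iff.2 k
  obtain ⟨d, hd, h1, h2, h3, h4⟩ := h.geo _ _ _ _ (isConj_iff.2 ⟨g₁, rfl⟩) (isConj_iff.2 ⟨g₂, rfl⟩)
    (isConj_iff.2 ⟨g₃, rfl⟩) (isConj_iff.2 ⟨g₄, rfl⟩) k'.1 k'.2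
  obtain ⟨a, rfl⟩ := isConj_iff.1 hd
  exact ⟨a, adj_iff.1 h1, adj_iff.1 h2, adj_iff.1 h3, adj_iff.1 h4⟩

omit h in
theorem sw {a g : A} (k : Ad t (g⁻¹ * a)) : Ad t (a⁻¹ * g) := by simpa using k.inv

theorem two (g : A) : ∃ a, Ad t a ∧ Ad t (a⁻¹ * g) := by
  obtain ⟨a, h1, -, h3, -⟩ := nbr h g s 1 1 (by simpa using ads h)
  exact ⟨a, by simpa using h3, sw h1⟩

theorem wd {g a a' : A} (k : Ad t a) (l : Ad t (a⁻¹ * g)) (k' : Ad t a') (l' : Ad t (a'⁻¹ * g)) :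
    mu t s φ σ a * mu t s φ σ (a⁻¹ * g) = mu t s φ σ a' * mu t s φ σ (a'⁻¹ * g) := by
  obtain ⟨d, h1, h2, h3, h4⟩ := nbr h g a 1 a' (by simpa using k)
  have h3' : Ad t d := by simpa using h3
  have key : ∀ {a : A}, Ad t a → Ad t (a⁻¹ * g) → Ad t (a⁻¹ * d) →
      mu t s φ σ a * mu t s φ σ (a⁻¹ * g) = mu t s φ σ d * mu t s φ σ (d⁻¹ * g) := by
    intro a k l m
    rw [tri' h m (sw h1) l, ← mul_assoc, ← tri h k m (by simpa using h3')]
    simp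
  rw [key k l h2, key k' l' h4]

/-- the extension -/
noncomputable def Ph (g : A) : X := mu t s φ σ (two h g).choose * mu t s φ σ ((two h g).choose⁻¹ * g)

theorem Ph_eq {g a : A} (k : Ad t a) (l : Ad t (a⁻¹ * g)) : Ph h g = mu t s φ σ a * mu t s φ σ (a⁻¹ * g) :=
  wd h (two h g).choose_spec.1 (two h g).choose_spec.2 k l

theorem Ph_step (g : A) {u : A} (k : Ad t u) : Ph h (g * u) = Ph h g * mu t s φ σ u := by
  obtain ⟨d, h1, h2, h3, -⟩ := nbr h 1 (g * u) g 1 (by simpa using k)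
  have h1' : Ad t d := by simpa using h1
  rw [Ph_eq h h1' (sw h2), Ph_eq h h1' (sw h3), tri' h (sw h3) (by simpa using k) (sw h2)]
  simp [mul_assoc]

theorem Ph_mul (g u : A) : Ph h (g * u) = Ph h g * Ph h u := by
  obtain ⟨a, k, l⟩ := two h u
  rw [Ph_eq h k l, show g * u = g * a * (a⁻¹ * u) by group, Ph_step h _ l, Ph_step h _ k, mul_assoc]

theorem mu_one : mu t s φ σ s = σ := by simpa [one h] using mu_val h (one_mem 𝐂[t]) (one_mem 𝐂[t])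

theorem Ph_c {c : A} (hc : c ∈ 𝐂[t]) : Ph h c = φ c := by
  have e : s⁻¹ * c = 1 * s * c := by rw [si h, one_mul]
  rw [Ph_eq h (ads h) (e ▸ (ads h).cc (one_mem _) hc), e, mu_val h (one_mem _) hc, mu_one h, one h, one_mul,
    ← mul_assoc, h.sq, one_mul]

end AMAL

theorem amal {A X : Type} [Group A] [Group X] {t s b : A} {φ : A → X} {σ : X} (h : Am t s b φ σ) :
    ∃ Φ : A →* X, (∀ x ∈ 𝐂[t], Φ x = φ x) ∧ Φ s = σ := by
  refine ⟨MonoidHom.mk' (AMAL.Ph h) (AMAL.Ph_mul h), fun x hx => AMAL.Ph_c h hx, ?_⟩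
  have e := AMAL.Ph_step h 1 (AMAL.ads h)
  rwa [one_mul, AMAL.Ph_c h (one_mem _), AMAL.one h, one_mul, AMAL.mu_one h] at e

end H24.T12
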