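import Cfsg.Agent.Lib.A12.OB
import Cfsg.Agent.Lib.AutCl.ClOOut
import Cfsg.Agent.S0814
import Cfsg.Agent.S0301
/-! Package AUT5 of `blueprint/A12/README.md`. -/
set_option autoImplicit false
namespace H24.T12
open Subgroup H1.A10 H45 H69 Gold Cfsg H67 Matrix

variable {G : Type} [Group G] [Finite G] {ι : M →* G} {π : G → B} {F : Type} [Field F] [Fintype F]
  {H L : Subgroup G} {ψ : GL (Fin 6) F → G} {σ : G} {n : ℕ}
  {J : Type} [Fintype J] [DecidableEq J] {Q : QuadraticForm F (J → F)} {θ : L →* GL J F}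

namespace AUT5

omit [Fintype F] in
theorem om_congr {q : (J → F) → F} {J₀ : Type} [Fintype J₀] [DecidableEq J₀] {q' : (J₀ → F) → F}
    (Ψ : (J₀ → F) ≃ₗ[F] (J → F)) {ν : F} (hν : ν ≠ 0) (h : ∀ v, q (Ψ v) = ν * q' v) :
    Nonempty (Omega F q' ≃* Omega F q) := by
  have hm : (omJ q').range.map (glCongr Ψ).toMonoidHom = (omJ q).range := by
    rw [range_omJ, range_omJ]
    refine le_antisymm ?_ fun g hg => ⟨(glCongr Ψ).symm g, ?_, by simp⟩
    · rintro _ ⟨g, hg, rfl⟩
      refine map_mem_omegaGL _ (fun g hg => H12.mem_isometryGroup.2 fun v => ?_) hg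
      obtain ⟨v, rfl⟩ := Ψ.surjective v
      show q ((glCongr Ψ g).val *ᵥ _) = _
      rw [glCongr_act, h, h, H12.mem_isometryGroup.1 hg]
    · refine map_mem_omegaGL (glCongr Ψ).symm.toMonoidHom
        (fun g hg => H12.mem_isometryGroup.2 fun v => mul_left_cancel₀ hν ?_) hg
      show ν * q' (((glCongr Ψ).symm g).val *ᵥ v) = _
      rw [← h, ← glCongr_act, MulEquiv.apply_symm_apply, H12.mem_isometryGroup.1 hg, h]
  exact ⟨((MonoidHom.ofInjective omJ_inj).trans
    ((glCongr Ψ).subgroupMap _)).trans ((MulEquiv.subgroupCongr hm).trans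
    (MonoidHom.ofInjective omJ_inj).symm)⟩

/-- the order of the group of automorphisms induced by semisimilarities -/
theorem card_range {q : (J → F) → F} (hq : NQ q) (h5 : 5 ≤ Fintype.card J)
    (h : ∀ α : RingAut F, ∃ s ∈ GamO q, s.right = α) :
    Nat.card (pomGam q).range =
      (ZZ (Geo.omegaGL q)).relIndex (GO q) * Nat.card (RingAut F) * Nat.card (POmega F q) := by
  let ρ : GamO q →* RingAut F := SemidirectProduct.rightHom.comp (GamO q).subtype
  have h1 : (pomInn q (GO q) le_rfl).range.comap (pomGam q) = ρ.ker := by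
    ext s
    rw [mem_comap, pomGam_mem_range hq h5 le_rfl hq.center_le]
    exact ⟨fun h => h.2, fun h => ⟨inl_mem_GamO.1 (eq_inl_of_right h ▸ s.2), h⟩⟩
  have h2 : ρ.range = ⊤ := eq_top_iff.2 fun α _ => by
    obtain ⟨s, hs, e⟩ := h α
    exact ⟨⟨s, hs⟩, e⟩
  have h3 : (pomInn q (GO q) le_rfl).range.relIndex (pomGam q).range = Nat.card (RingAut F) := by
    rw [← index_comap, h1, index_ker, h2, card_top]
  have l1 : Inn (POmega F q) ≤ (pomInn q (GO q) le_rfl).range := by
    rw [inn_pom_eq le_rfl (omega_le_GO q)]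
    exact map_le_range _ _
  have l2 : (pomInn q (GO q) le_rfl).range ≤ (pomGam q).range := by
    rintro _ ⟨g, rfl⟩
    exact ⟨_, (pomInn_eq le_rfl g).symm⟩
  rw [← relIndex_inn hq h5 le_rfl (omega_le_GO q), ← h3, relIndex_mul_relIndex _ _ _ l1 l2,
    ← card_inn_pom hq h5, ← card_mul_index ((Inn (POmega F q)).subgroupOf (pomGam q).range), mul_comm,
    Nat.card_congr (subgroupOfEquivOfLe (l1.trans l2)).toEquiv]
  rfl

end AUT5

theorem aut5 (q : Q8 F) : Function.Surjective (pomGam (QS F 5)) := by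
  have h2 := q.two
  have hQ : H12.Nondeg (QS F 5) := nd_QS h2
  obtain ⟨p, hp⟩ := CharP.exists F
  obtain ⟨f, pp, hF⟩ := FiniteField.card F p
  have := Fact.mk pp
  have ho : Odd (Fintype.card F) := by
    rcases q with q | q <;> exact Nat.odd_iff.2 (by omega)
  have p2 : p ≠ 2 := by
    rintro rfl
    rw [hF] at ho
    exact absurd ho (by simp [Nat.even_pow])
  have h3 : 3 ≤ p ^ (f : ℕ) := by
    rw [← hF]
    rcases q with q | q <;> omega
  obtain ⟨Φ, c, hc, hΦ⟩ := exists_sim_odd hQ (m := 2) (by simp)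
  obtain ⟨E⟩ := AUT5.om_congr (q := QS F 5) (q' := quadFormOdd 2 F) Φ hc fun v => by rw [hΦ, H12.QOdd_apply]
  obtain ⟨e⟩ := Cfsg.Agent.S0301.result ho
  let e' : POmega F (QS F 5) ≃* PSp 2 F := (quotIso E).symm.trans e
  have hg : Nat.gcd 2 (p ^ (f : ℕ) - 1) = 2 := Nat.gcd_eq_left (by
    rw [← hF]
    obtain ⟨k, hk⟩ := ho
    omega)
  have c1 := Cfsg.Agent.S0814.result (F := F) p f f.2 hF 2 le_rfl fun _ => h3
  rw [if_neg (fun h => p2 h.2), hg, one_mul, ← Nat.card_congr (MulAut.congr e').toEquiv,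
    ← Nat.card_congr e'.toEquiv] at c1
  have c2 := AUT5.card_range (q := QS F 5) ⟨_, rfl, hQ⟩ (by simp) fun α =>
    ⟨SemidirectProduct.inr α, mem_GamO.2 ⟨1, fun v => by simp [gact_inr, QS_apply]⟩, rfl⟩
  rw [relIndex_omega_GO_odd hQ (good_of_five hQ (by simp)) h2 (by decide) (by simp),
    card_ringAut (Nat.card_eq_fintype_card.trans hF), ← c1] at c2
  exact MonoidHom.range_eq_top.1 (eq_top_of_card_eq _ c2)

end H24.T12
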