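import Cfsg.Agent.Lib.A12.Defs2
import Cfsg.Agent.Lib.AutCl.ClOOut
import Cfsg.Agent.Lib.GL.Basic
import Cfsg.Agent.S0302
import Cfsg.Agent.S0303
import Cfsg.Agent.S0813
import Cfsg.Agent.S0815
/-! Package AUT6 of `blueprint/A12/README.md`. -/
set_option autoImplicit false
namespace H24.T12
open Subgroup H1.A10 H45 H69 Gold Cfsg H67 Matrix

namespace AUT6

variable {F : Type} [Field F] [Fintype F] {I J : Type} [Fintype I] [DecidableEq I] [Fintype J] [DecidableEq J]
  {q : (J → F) → F} {Q₀ : QuadraticForm F (I → F)} {Q : QuadraticForm F (J → F)}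

/-- the order of the group induced by the semisimilarities -/
theorem card_range (hq : NQ q) (h5 : 5 ≤ Fintype.card J) {t : GamL J F} (ht : t ∈ GamO q)
    (hgen : zpowers t.right = ⊤) : Nat.card (pomGam q).range =
      (ZZ (Geo.omegaGL q)).relIndex (GO q) * Nat.card (RingAut F) * Nat.card (POmega F q) := by
  let ρ : GamO q →* RingAut F := SemidirectProduct.rightHom.comp (GamO q).subtype
  have h1 : (pomInn q (GO q) le_rfl).range.comap (pomGam q) = ρ.ker := by
    ext s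
    rw [mem_comap, pomGam_mem_range hq h5 le_rfl hq.center_le]
    exact ⟨fun h => h.2, fun h => ⟨inl_mem_GamO.1 (eq_inl_of_right h ▸ s.2), h⟩⟩
  have h2 : ρ.range = ⊤ := by
    rw [eq_top_iff, ← hgen, zpowers_le]
    exact ⟨⟨t, ht⟩, rfl⟩
  have h3 : (pomInn q (GO q) le_rfl).range.relIndex (pomGam q).range = Nat.card (RingAut F) := by
    rw [← index_comap, h1, index_ker, h2, card_top]
  have h4 : Inn (POmega F q) ≤ (pomInn q (GO q) le_rfl).range := by
    rw [inn_pom_eq le_rfl (omega_le_GO q)]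
    exact map_le_range _ _
  have h5' : (pomInn q (GO q) le_rfl).range ≤ (pomGam q).range := fun _ ⟨g, e⟩ => ⟨_, (pomInn_eq _ g).symm.trans e⟩
  rw [← relIndex_inn hq h5 le_rfl (omega_le_GO q), ← h3, relIndex_mul_relIndex _ _ _ h4 h5',
    ← card_inn_pom hq h5, ← Nat.card_congr (subgroupOfEquivOfLe (h4.trans h5')).toEquiv, mul_comm]
  exact (card_mul_index _).symm

theorem trans {Ψ : (I → F) ≃ₗ[F] (J → F)} (h : ∀ v, Q (Ψ v) = Q₀ v) {t₀ : GamL I F} (ht : t₀ ∈ GamO Q₀) :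
    ∃ t ∈ GamO Q, t.right = t₀.right := by
  obtain ⟨c, hc⟩ := ht
  obtain ⟨Ψ', h'⟩ := exists_baseChange Ψ (t₀.right : F →+* F)
  obtain ⟨g, hg⟩ := (H12.glEquiv J F).surjective (Ψ'.symm.trans ((H12.glEquiv I F t₀.left).trans Ψ))
  refine ⟨⟨g, t₀.right⟩, ⟨c, fun v => ?_⟩, rfl⟩
  obtain ⟨w, rfl⟩ := Ψ.surjective v
  have : gact (⟨g, t₀.right⟩ : GamL J F) (Ψ w) = Ψ (gact t₀ w) := by
    show H12.glEquiv J F g ((t₀.right : F →+* F) ∘ Ψ w) = _
    rw [hg, ← h', LinearEquiv.trans_apply, LinearEquiv.symm_apply_apply]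
    rfl
  rw [this, h, h, hc]

theorem surj (hQ : H12.Nondeg Q) (hJ : Fintype.card J = 6) (h2 : (2 : F) ≠ 0) {Ψ : (I → F) ≃ₗ[F] (J → F)}
    (h : QT Q₀ Q (RingHom.id F) 1 Ψ) {t₀ : GamL I F} (ht : t₀ ∈ GamO Q₀) (hgen : zpowers t₀.right = ⊤)
    (hc : Nat.card (MulAut (POmega F Q₀)) = (open Classical in
      if GeneralLinearGroup.scalar I (-1 : Fˣ) ∈ Geo.omegaGL Q₀ then 8 else 4) * Nat.card (RingAut F) *
        Nat.card (POmega F Q₀)) : Function.Surjective (pomGam Q) := by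
  have h' : ∀ v, Q (Ψ v) = Q₀ v := fun v => (h.q v).trans (one_mul _)
  obtain ⟨t, ht', e⟩ := trans h' ht
  have hq : NQ (Q : (J → F) → F) := ⟨Q, rfl, hQ⟩
  have ε : POmega F Q₀ ≃* POmega F Q := H12.pcommCongr ((H12.isoEquiv Q₀ fun _ => rfl).trans
    ((H12.congrO Ψ h').trans (H12.isoEquiv Q fun _ => rfl).symm))
  haveI : Finite (MulAut (POmega F Q)) := Finite.of_injective _ DFunLike.coe_injective
  refine MonoidHom.range_eq_top.1 (eq_top_of_card_eq _ ?_)
  have hm := h.mem_omega_iff hQ (good_of_five hQ (by omega))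
    (good_of_five (h.nondeg hQ) (by rw [card_eq_of_equiv Ψ]; omega)) (fun _ h => h)
    (g := GeneralLinearGroup.scalar I (-1 : Fˣ))
  rw [glT_scalar, show Units.map ((RingHom.id F : F →+* F) : F →* F) (-1 : Fˣ) = -1 from Units.ext rfl] at hm
  rw [card_range hq (by omega) ht' (e ▸ hgen), relIndex_omega_GO_eq hq (by omega) (by rw [hJ]; decide),
    if_neg h2, ← Nat.card_congr (MulAut.congr ε).toEquiv, hc, Nat.card_congr ε.toEquiv]
  by_cases h1 : GeneralLinearGroup.scalar I (-1 : Fˣ) ∈ Geo.omegaGL Q₀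
  · rw [if_pos h1, if_pos (hm.2 h1)]
  · rw [if_neg h1, if_neg fun e => h1 (hm.1 e)]

end AUT6

variable {G : Type} [Group G] [Finite G] {ι : M →* G} {π : G → B} {F : Type} [Field F] [Fintype F]
  {H L : Subgroup G} {ψ : GL (Fin 6) F → G} {σ : G} {n : ℕ}
  {J : Type} [Fintype J] [DecidableEq J] {Q : QuadraticForm F (J → F)} {θ : L →* GL J F}

theorem aut6 (q : Q8 F) (hJ : Fintype.card J = 6) (hQ : H12.Nondeg Q) : Function.Surjective (pomGam Q) := by
  obtain ⟨p, hp, f, pp, hF⟩ := FiniteField.card' F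
  haveI := Fact.mk pp
  have hF' : Nat.card F = p ^ (f : ℕ) := Nat.card_eq_fintype_card.trans hF
  have ho : Odd (Fintype.card F) := Nat.odd_iff.2 (by unfold Q8 at q; omega)
  have h2 : (2 : F) ≠ 0 := H12.two_ne_zero_of_odd ho
  have h0 : QT Q Q (RingHom.id F) 1 (LinearEquiv.refl F _) := qt_id one_ne_zero (by simp)
  have h4 : Fintype.card F % 4 = 1 ∨ Fintype.card F % 4 = 3 := by unfold Q8 at q; omega
  by_cases hp : H66.IsPlusType Q
  · obtain ⟨Ψ, h, -⟩ := h0.exists_plus hQ (m := 3) hJ hp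
    obtain ⟨φ, -, -, hφ⟩ := exists_frob hF'
    refine AUT6.surj hQ hJ h2 h (t₀ := SemidirectProduct.inr φ)
      (by rw [H12.coe_QPlus]; exact inr_mem_plus 3 φ) hφ ?_
    rw [H12.coe_QPlus]
    obtain ⟨e⟩ := Cfsg.Agent.S0302.result (F := F)
    rw [Nat.card_congr (MulAut.congr e).toEquiv, Nat.card_congr e.toEquiv,
      Cfsg.Agent.S0813.result p f f.2 hF 4 (by omega) (by omega), card_ringAut hF', H10.card_PGL_eq_card_SL,
      ← H10.card_center_mul_card_PSL, H10.card_center_SL, Nat.card_eq_fintype_card (α := F), Fintype.card_fin]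
    simp only [neg_mem_omega_plus ho]
    obtain ⟨k, hk⟩ : ∃ k, Fintype.card F = 4 * k + Fintype.card F % 4 := ⟨_, (Nat.div_add_mod _ 4).symm⟩
    rcases h4 with h4 | h4 <;> rw [h4] at hk ⊢
    · rw [show Fintype.card F - 1 = 0 + 4 * k by omega, Nat.gcd_add_mul_left_right]
      norm_num; ring
    · rw [show Fintype.card F - 1 = 2 + 4 * k by omega, Nat.gcd_add_mul_left_right]
      norm_num [Nat.odd_iff]; ring
  · obtain ⟨ζ, hζ⟩ := H66.exists_aniso (F := F)
    obtain ⟨Ψ, h, -⟩ := h0.exists_minus hQ (m := 3) hJ hp hζ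
    obtain ⟨t, ht, hgen, -⟩ := exists_t_minus hF' hζ 2
    refine AUT6.surj hQ hJ h2 h ht hgen ?_
    show Nat.card (MulAut (POmega F (H12.QMinus 2 1 ζ))) = (open Classical in
      if GeneralLinearGroup.scalar _ (-1 : Fˣ) ∈ Geo.omegaGL (H12.QMinus 2 1 ζ) then 8 else 4) * _ *
        Nat.card (POmega F (H12.QMinus 2 1 ζ))
    rw [H12.coe_QMinus]
    haveI := Fintype.ofFinite (GaloisField p (2 * f))
    have hK : Fintype.card (GaloisField p (2 * f)) = Fintype.card F ^ 2 := by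
      rw [← Nat.card_eq_fintype_card, GaloisField.card p _ (mul_ne_zero two_ne_zero f.ne_zero), hF, mul_comm, pow_mul]
    obtain ⟨e⟩ := Cfsg.Agent.S0303.result rfl hK 1 ζ hζ
    rw [Nat.card_congr (MulAut.congr e).toEquiv, Nat.card_congr e.toEquiv,
      Cfsg.Agent.S0815.result p f f.2 hF hK 4 (by omega) (by omega), card_ringAut hF']
    simp only [neg_mem_omega_minus ho hζ]
    obtain ⟨k, hk⟩ : ∃ k, Fintype.card F = 4 * k + Fintype.card F % 4 := ⟨_, (Nat.div_add_mod _ 4).symm⟩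
    rcases h4 with h4 | h4 <;> rw [h4] at hk ⊢
    · rw [show Fintype.card F + 1 = 2 + 4 * k by omega, Nat.gcd_add_mul_left_right,
        if_neg (by decide), show Nat.gcd 4 2 = 2 from rfl]
      ring
    · rw [show Fintype.card F + 1 = 0 + 4 * (k + 1) by omega, Nat.gcd_add_mul_left_right,
        if_pos (by decide), Nat.gcd_zero_right]
      ring

end H24.T12
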