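import Cfsg.Agent.Lib.A12.Defs2
/-! Package TAB of `blueprint/A12/README.md`. -/
set_option autoImplicit false
namespace H24.T12
open Subgroup H1.A10 H45 H69 Gold Cfsg

variable {G : Type} [Group G] [Finite G] {ι : M →* G} {π : G → B} {g k : G}

namespace TAB

/-- counting coset by coset -/
theorem card_eq (A : Subgroup M) (q : M → Prop) [DecidablePred q] (h : ∀ x, x ∈ A ↔ q x) :
    Nat.card A = ∑ σ : Fin 8, cnt fun u => q ⟨u, σ⟩ := by
  have e : A ≃ Σ σ : Fin 8, {u : V | q ⟨u, σ⟩} :=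
    ⟨fun x => ⟨x.1.s, x.1.f, (h _).1 x.2⟩, fun y => ⟨⟨y.2.1, y.1⟩, (h _).2 y.2.2⟩, fun _ => rfl, fun _ => rfl⟩
  rw [Nat.card_congr e, Nat.card_sigma]
  exact Finset.sum_congr rfl fun σ _ => cnt_eq _

theorem mem_Aj' {j x : M} (h : j.s * j.s = 1) :
    x ∈ Aj j ↔ x * j = j * x ∧ (x.s = 1 ∨ x.s = j.s) := by
  refine and_congr mem_centralizer_singleton_iff ⟨?_, ?_⟩
  · rintro ⟨n, hn⟩
    have e : x.s = j.s ^ n := hn.symm
    have h2 : j.s ^ (2 : ℤ) = 1 := by rw [zpow_two, h]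
    rw [e]
    rcases Int.even_or_odd' n with ⟨i, rfl | rfl⟩
    · exact Or.inl (by rw [zpow_mul, h2, one_zpow])
    · exact Or.inr (by rw [zpow_add, zpow_mul, h2, one_zpow, one_mul, zpow_one])
  · rintro (e | e)
    · show x.s ∈ zpowers j.s
      exact e ▸ one_mem _
    · show x.s ∈ zpowers j.s
      exact e ▸ mem_zpowers _

theorem mem_A2 {x : M} : x ∈ A2 ↔ (x * c = c * x ∧ x * sg = sg * x) ∧ x ∈ R1 :=
  and_congr (and_congr mem_centralizer_singleton_iff mem_centralizer_singleton_iff) Iff.rfl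

theorem mem_A2' {x : M} : x ∈ A2' ↔ (x * m 3 1 = m 3 1 * x ∧ x * m 5 2 = m 5 2 * x) ∧ x ∈ R1 :=
  and_congr (and_congr mem_centralizer_singleton_iff mem_centralizer_singleton_iff) Iff.rfl

theorem cE : Nat.card EE = 64 := (card_eq EE (· ∈ EE) fun _ => Iff.rfl).trans (by decide +kernel)

theorem cF : Nat.card FF = 32 := (card_eq FF (· ∈ FF) fun _ => Iff.rfl).trans (by decide +kernel)

theorem cA : Nat.card (Aj c) = 32 ∧ Nat.card (Aj sg) = 32 ∧ Nat.card (Aj (c * sg)) = 32 ∧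
    Nat.card (Aj tau) = 32 ∧ Nat.card (Aj (c * tau)) = 32 ∧ Nat.card A2 = 32 ∧ Nat.card A2' = 32 :=
  ⟨(card_eq _ _ fun _ => mem_Aj' (by decide)).trans (by decide +kernel),
    (card_eq _ _ fun _ => mem_Aj' (by decide)).trans (by decide +kernel),
    (card_eq _ _ fun _ => mem_Aj' (by decide)).trans (by decide +kernel),
    (card_eq _ _ fun _ => mem_Aj' (by decide)).trans (by decide +kernel),
    (card_eq _ _ fun _ => mem_Aj' (by decide)).trans (by decide +kernel),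
    (card_eq _ _ fun _ => mem_A2).trans (by decide +kernel),
    (card_eq _ _ fun _ => mem_A2').trans (by decide +kernel)⟩

theorem four : ∀ σ τ ρ : P, σ * σ = 1 → τ * τ = 1 → σ ≠ 1 → τ ≠ 1 → σ ≠ τ → σ * τ = τ * σ →
    ρ * σ = σ * ρ → ρ * τ = τ * ρ → ρ = 1 ∨ ρ * σ = 1 ∨ ρ * τ = 1 ∨ ρ * (σ * τ) = 1 := by
  decide +kernel

theorem five : ∀ σ : P, σ * σ = 1 → σ ≠ 1 →
    p σ = c ∨ p σ = sg ∨ p σ = c * sg ∨ p σ = tau ∨ p σ = c * tau := by decide +kernel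

/-- the test for a pair of generators -/
def Ok (q : M → Prop) (j k : M) : Prop := q j ∧ q k ∧ ∀ u, j.s • u = u → k.s • u = u → q (a u)

instance (q : M → Prop) [DecidablePred q] (j k : M) : Decidable (Ok q j k) :=
  inferInstanceAs (Decidable (_ ∧ _))

theorem pairs : ∀ j : M, j * j = 1 → j.s ≠ 1 → ∀ k : M, k.s ≠ 1 → j.s ≠ k.s → k * k = 1 → j * k = k * j →
    Ok (· ∈ FF) j k ∨ Ok (fun x => (x * c = c * x ∧ x * sg = sg * x) ∧ x ∈ R1) j k ∨
      Ok (fun x => (x * m 3 1 = m 3 1 * x ∧ x * m 5 2 = m 5 2 * x) ∧ x ∈ R1) j k := by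
  decide +kernel

theorem comm {A : Subgroup M} (h : ∀ x ∈ A, x * x = 1) {x y : M} (hx : x ∈ A) (hy : y ∈ A) :
    x * y = y * x := by
  rw [← inv_eq_of_mul_eq_one_right (h _ (mul_mem hx hy)), mul_inv_rev,
    inv_eq_of_mul_eq_one_right (h _ hx), inv_eq_of_mul_eq_one_right (h _ hy)]

theorem le_of {A D : Subgroup M} (h : ∀ x ∈ A, x * x = 1) {j k : M} (hj : j ∈ A) (hk : k ∈ A)
    (j1 : j.s ≠ 1) (k1 : k.s ≠ 1) (jk : j.s ≠ k.s) {q : M → Prop} (hq : ∀ x, x ∈ D ↔ q x)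
    (o : Ok q j k) : A ≤ D := by
  have h0 : ∀ x ∈ A, x.s = 1 → x ∈ D := fun x hx e => by
    have c1 := comm h hj hx
    have c2 := comm h hk hx
    rw [eq_a e] at c1 c2 ⊢
    exact (hq _).2 (o.2.2 _ (comm_a.1 c1) (comm_a.1 c2))
  have hj' := (hq _).2 o.1
  have hk' := (hq _).2 o.2.1
  intro x hx
  rcases four j.s k.s x.s (congrArg M.s (h j hj)) (congrArg M.s (h k hk)) j1 k1 jk
    (congrArg M.s (comm h hj hk)) (congrArg M.s (comm h hx hj)) (congrArg M.s (comm h hx hk)) with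
    e | e | e | e
  · exact h0 x hx e
  · exact (D.mul_mem_cancel_right hj').1 (h0 _ (mul_mem hx hj) e)
  · exact (D.mul_mem_cancel_right hk').1 (h0 _ (mul_mem hx hk) e)
  · exact (D.mul_mem_cancel_right (mul_mem hj' hk')).1 (h0 _ (mul_mem hx (mul_mem hj hk)) e)

theorem el {A : Subgroup M} (h : ∀ x ∈ A, x * x = 1) :
    A ≤ EE ∨ A ≤ FF ∨ A ≤ Aj c ∨ A ≤ Aj sg ∨ A ≤ Aj (c * sg) ∨ A ≤ Aj tau ∨ A ≤ Aj (c * tau) ∨
      A ≤ A2 ∨ A ≤ A2' := by
  by_cases h1 : ∀ x ∈ A, x.s = 1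
  · exact Or.inl h1
  push Not at h1
  obtain ⟨j, hj, j1⟩ := h1
  have j2 : j.s * j.s = 1 := congrArg M.s (h j hj)
  by_cases h2 : ∀ x ∈ A, x.s = 1 ∨ x.s = j.s
  · have k : A ≤ Aj (p j.s) := fun x hx => (mem_Aj' (j := p j.s) j2).2 ⟨by
      rcases h2 x hx with e | e
      · have c1 := comm h hj hx
        rw [eq_a e] at c1 ⊢
        exact ((comm_a (x := p j.s)).2 ((comm_a (x := j)).1 c1)).symm
      · have := (sq_iff.1 (h x hx)).2
        rw [e] at this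
        ext
        · simp [this]
        · simp [e], h2 x hx⟩
    rcases five j.s j2 j1 with e | e | e | e | e <;> rw [e] at k <;> simp only [k, true_or, or_true]
  push Not at h2
  obtain ⟨k, hk, k1, jk⟩ := h2
  rcases pairs j (h j hj) j1 k k1 jk.symm (h k hk) (comm h hj hk) with o | o | o
  · simp only [le_of h hj hk j1 k1 jk.symm (fun _ => Iff.rfl) o, true_or, or_true]
  · simp only [le_of h hj hk j1 k1 jk.symm (fun _ => mem_A2) o, true_or, or_true]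
  · simp only [le_of h hj hk j1 k1 jk.symm (fun _ => mem_A2') o, or_true]

end TAB

theorem card_EE : Nat.card EE = 64 := by
  exact TAB.cE

theorem card_FF : Nat.card FF = 32 := by
  exact TAB.cF

theorem card_T0 : Nat.card T0 = 256 := by
  have e : T0 = (Equiv.Perm.sign.comp (sB.comp w)).ker := rfl
  have r : (Equiv.Perm.sign.comp (sB.comp w)).range = ⊤ := by
    rw [eq_top_iff]
    intro x _
    rcases Int.units_eq_one_or x with rfl | rfl
    · exact one_mem _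
    · refine ⟨dd 4 6, ?_⟩
      show Equiv.Perm.sign (w (dd 4 6)).s = -1
      rw [w_46, sw_s, Equiv.Perm.sign_swap (by decide)]
  have h := card_mul_index T0
  rw [e, index_ker, r, card_top, card_M, Nat.card_eq_fintype_card (α := ℤˣ), Fintype.card_units_int,
    ← e] at h
  omega

theorem mem_Aj {j x : M} (h : j.s * j.s = 1) : x ∈ Aj j ↔ x * j = j * x ∧ (x.s = 1 ∨ x.s = j.s) := by
  exact TAB.mem_Aj' h

theorem el64 {A : Subgroup M} (h : ∀ x ∈ A, x * x = 1) (hc : 64 ≤ Nat.card A) : A = EE := by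
  obtain ⟨c1, c2, c3, c4, c5, c6, c7⟩ := TAB.cA
  have f : ∀ D : Subgroup M, Nat.card D = 32 → ¬ A ≤ D := fun D e k => by
    have := card_le_of_le k
    omega
  rcases TAB.el h with k | k | k | k | k | k | k | k | k
  · exact eq_of_le_of_card_ge k (TAB.cE ▸ hc)
  exacts [(f _ TAB.cF k).elim, (f _ c1 k).elim, (f _ c2 k).elim, (f _ c3 k).elim, (f _ c4 k).elim,
    (f _ c5 k).elim, (f _ c6 k).elim, (f _ c7 k).elim]

theorem el32 {A : Subgroup M} (h : ∀ x ∈ A, x * x = 1) (hc : 32 ≤ Nat.card A) :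
    A ≤ EE ∨ A = FF ∨ A = Aj c ∨ A = Aj sg ∨ A = Aj (c * sg) ∨ A = Aj tau ∨ A = Aj (c * tau) ∨ A = A2 ∨ A = A2' := by
  obtain ⟨c1, c2, c3, c4, c5, c6, c7⟩ := TAB.cA
  have f : ∀ D : Subgroup M, Nat.card D = 32 → A ≤ D → A = D := fun D e k =>
    eq_of_le_of_card_ge k (e ▸ hc)
  exact (TAB.el h).imp_right (Or.imp (f _ TAB.cF) (Or.imp (f _ c1) (Or.imp (f _ c2) (Or.imp (f _ c3)
    (Or.imp (f _ c4) (Or.imp (f _ c5) (Or.imp (f _ c6) (f _ c7))))))))

theorem card_Aj : Nat.card (Aj c) = 32 ∧ Nat.card (Aj sg) = 32 ∧ Nat.card (Aj (c * sg)) = 32 ∧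
    Nat.card (Aj tau) = 32 ∧ Nat.card (Aj (c * tau)) = 32 ∧ Nat.card A2 = 32 ∧ Nat.card A2' = 32 := by
  exact TAB.cA

end H24.T12
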