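import Cfsg.Agent.Lib.A12.Defs2
import Cfsg.Agent.Lib.A12.TAB
/-! Package BAS of `blueprint/A12/README.md`. -/
set_option autoImplicit false
set_option linter.unusedSectionVars false
namespace H24.T12
open Subgroup H1.A10 H45 H69 Gold Cfsg

variable {G : Type} [Group G] [Finite G] {ι : M →* G} {π : G → B} {g k : G}

namespace BAS

theorem on_of {R : Subgroup M} (h : R.map ι ^ᶜ g ≤ ι.range) : On ι g R := fun _ hx =>
  (h (cj_mem g (mem_map_of_mem ι hx))).imp fun _ e => e.symm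

theorem sqE {x : M} (h : x ∈ EE) : x * x = 1 := by rw [eq_a h, a_sq]

theorem cE {y : M} (hy : y ∈ EE) : EE.map ι ≤ 𝐂[ι y] := map_cent fun t ht => by
  rw [eq_a ht, eq_a hy, ← a_add, ← a_add, add_comm]

end BAS

open BAS

theorem wcE (s : Sy ι) (h : On ι g EE) : g ∈ NE ι := by
  have le : EE.map ι ^ᶜ g ≤ ι.range := fun v hv => by
    obtain ⟨_, ⟨x, hx, rfl⟩, rfl⟩ := mem_cj'.1 hv
    exact (h x hx).imp fun _ e => e.eq.symm
  have e : (EE.map ι ^ᶜ g).comap ι = EE := el64 (fun x hx => by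
    obtain ⟨_, ⟨y, hy, rfl⟩, e⟩ := mem_cj'.1 (mem_comap.1 hx)
    exact s.sq (g := g) e.symm (sqE hy)) (by
      rw [← s.card, map_comap_eq_self le, card_cj, s.card, card_EE])
  refine norm_of fun x hx => ?_
  obtain ⟨y, p⟩ := h x hx
  exact ⟨y, e ▸ mem_comap.2 (p.eq ▸ cj_mem g (mem_map_of_mem ι hx)), p⟩

theorem ctlE (s : Sy ι) {X : Subgroup G} (hX : EE.map ι ≤ X) (hg : g ∈ X) {x y : M} (hx : x ∈ EE) (hy : y ∈ EE)
    (p : Cj ι g x y) : ∃ k ∈ X, k ∈ NE ι ∧ Cj ι k x y := by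
  obtain ⟨S, hS, le⟩ := exists_isSylowIn_le (s.two_map EE) (le_inf hX (cE hy))
  obtain ⟨c, hc, le'⟩ := hS.exists_cj_le (isPGroup_cj (s.two_map EE) g)
    (le_inf (cj_le_of_mem hX hg) (p.cent_cj ▸ cj_mono g (cE hx)))
  obtain ⟨u, -, hu⟩ := s.syl.exists_cj_le hS.isP le_top
  have h1 := wcE s (on_of ((cj_mono u le).trans hu))
  have h2 := wcE s (g := u * (c * g)) (on_of (by rw [← cj_cj, ← cj_cj]; exact (cj_mono u le').trans hu))
  exact ⟨c * g, mul_mem hc.1 hg, (mul_mem_cancel_left h1).1 h2, p.comp (Cj.of_cent hc.2)⟩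

theorem extE (s : Sy ι) {y : M} {u : V} (h : Fu ι y (a u)) : ∃ g u', Cj ι g y (a u') ∧ On ι g 𝐂[y] := by
  obtain ⟨g, p⟩ := h
  obtain ⟨S, hS, le⟩ := exists_isSylowIn_le (s.two_map EE) (cE (ι := ι) (a_EE u))
  obtain ⟨c, hc, le'⟩ := hS.exists_cj_le (isPGroup_cj (s.two_map 𝐂[y]) g)
    (p.cent_cj ▸ cj_mono g (map_cent fun _ ht => mem_cent1_iff.1 ht))
  obtain ⟨k, -, hk⟩ := s.syl.exists_cj_le hS.isP le_top
  obtain ⟨v, hv, q⟩ := img (wcE s (on_of ((cj_mono k le).trans hk))) (a_EE u)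
  exact ⟨k * (c * g), v.f, eq_a hv ▸ (p.comp (Cj.of_cent hc)).comp q,
    on_of (by rw [← cj_cj, ← cj_cj]; exact (cj_mono k le').trans hk)⟩

theorem nsq (s : Sy ι) (x : M) : ¬ Fu ι (x * x) z := by
  rintro ⟨g, p⟩
  obtain ⟨k, -, q, h⟩ := s.extZ le_top z_comm (mem_top g) p
  obtain ⟨y, r⟩ := h x (mul_assoc x x x).symm
  exact (by decide +kernel : ∀ y : M, y * y ≠ z) y (s.right (r.mul r) q)

theorem nf24 (s : Sy ι) : ¬ Fu ι z2 z4 := by
  rintro ⟨g, p⟩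
  obtain ⟨k, -, q, h⟩ := s.extZ le_top z2_comm (mem_top _) p.symm
  obtain ⟨x, e⟩ : ∃ x : M, x * x * (x * x) = z4 := by decide +kernel
  obtain ⟨y, r⟩ := h x (z4_comm x)
  exact (by decide +kernel : ∀ y : M, y * y * (y * y) ≠ z2) y (s.right ((r.mul r).mul (r.mul r)) (e ▸ q))

theorem nf2 (s : Sy ι) : ¬ Fu ι z2 z := by
  obtain ⟨x, e⟩ : ∃ x : M, x * x = z2 := by decide +kernel
  exact e ▸ nsq s x

theorem nf4 (s : Sy ι) : ¬ Fu ι z4 z := by
  obtain ⟨x, e⟩ : ∃ x : M, x * x = z4 := by decide +kernel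
  exact e ▸ nsq s x

theorem two_cE (s : Sy ι) (h : g ∈ 𝐂(EE.map ι)) (h2 : El2 g) : g ∈ EE.map ι := by
  have hP : IsPGroup 2 (EE.map ι ⊔ zpowers g : Subgroup G) :=
    IsPGroup.to_sup_of_normal_left' (s.two_map EE) (isPGroup_iff_mem.2 (by
      rintro _ ⟨i, rfl⟩
      exact h2.imp fun j e => by
        rw [← zpow_natCast, ← zpow_mul, mul_comm, zpow_mul, zpow_natCast, e, one_zpow]))
      (zpowers_le.2 (centralizer_le_normalizer _ h))
  obtain ⟨k, -, hk⟩ := s.syl.exists_cj_le hP le_top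
  have h1 := wcE s (on_of ((cj_mono k le_sup_left).trans hk))
  obtain ⟨t, e⟩ := hk (cj_mem k (mem_sup_right (mem_zpowers g)))
  have c : ι t ∈ 𝐂(EE.map ι) := by
    rw [e, ← cj_eq_of_mem_normalizer h1, ← cj_centralizer]
    exact cj_mem k h
  have ht : t ∈ EE := mem_EE.2 <| P.ext' _ _ fun i => by
    rw [one_smul, ← comm_a]
    exact s.inj (by rw [map_mul, map_mul, c _ (mem_map_of_mem ι (a_EE _))])
  refine (mem_normalizer_iff.1 h1 g).2 ?_
  rw [← e]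
  exact mem_map_of_mem ι ht

end H24.T12
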