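import Cfsg.Agent.Lib.A12.Defs2
import Cfsg.Agent.Lib.A12.BAS
/-! The action on `EE` of an element normalising `EE` and `R1`, in coordinates. -/
set_option autoImplicit false
namespace H38.EF
open Subgroup H1.A10 H45 H69 Gold Cfsg H24.T12

variable {G : Type} [Group G] [Finite G] {ι : M →* G} {π : G → B} {g k : G}

def sel (b : ℕ) (x : V) : V := cond (Nat.beq b 1) x 0
/-- the additive map with the given values on the basis -/
def lin (x0 x1 x2 x3 x4 x5 u : V) : V :=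
  sel (bt u.n 0) x0 + sel (bt u.n 1) x1 + sel (bt u.n 2) x2 + sel (bt u.n 3) x3 + sel (bt u.n 4) x4 + sel (bt u.n 5) x5
theorem lin_d : ∀ u, lin (d 0) (d 1) (d 2) (d 3) (d 4) (d 5) u = u := by decide +kernel

omit [Finite G] in
theorem cj_add {x y x' y' : V} (p : Cj ι g (a x) (a y)) (q : Cj ι g (a x') (a y')) : Cj ι g (a (x + x')) (a (y + y')) :=
  (p.mul q).congr (a_add _ _).symm (a_add _ _).symm

omit [Finite G] in
theorem cj_sel {x y : V} (p : Cj ι g (a x) (a y)) (b : ℕ) : Cj ι g (a (sel b x)) (a (sel b y)) := by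
  unfold sel
  cases Nat.beq b 1
  exacts [Cj.one g, p]

omit [Finite G] in
theorem cj_lin {x0 x1 x2 x3 x4 x5 : V} (h0 : Cj ι g (a (d 0)) (a x0)) (h1 : Cj ι g (a (d 1)) (a x1))
    (h2 : Cj ι g (a (d 2)) (a x2)) (h3 : Cj ι g (a (d 3)) (a x3)) (h4 : Cj ι g (a (d 4)) (a x4))
    (h5 : Cj ι g (a (d 5)) (a x5)) (u : V) : Cj ι g (a u) (a (lin x0 x1 x2 x3 x4 x5 u)) :=
  (cj_add (cj_add (cj_add (cj_add (cj_add (cj_sel h0 _) (cj_sel h1 _)) (cj_sel h2 _)) (cj_sel h3 _))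
    (cj_sel h4 _)) (cj_sel h5 _)).congr (congrArg a (lin_d u)) rfl

omit [Finite G] in
theorem cj_act {x y : V} {t t' : M} (q : Cj ι g t t') (p : Cj ι g (a x) (a y)) : Cj ι g (a (t.s • x)) (a (t'.s • y)) :=
  ((q.mul p).mul q.inv).congr (conj_a _ _) (conj_a _ _)

omit [Finite G] in
theorem imgE (h : g ∈ NE ι) (u : V) : ∃ u', Cj ι g (a u) (a u') :=
  (img h (a_EE u)).elim fun x e => ⟨x.f, e.2.congr rfl (eq_a e.1)⟩

/-- two generators of the four-group -/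
def Gen (σ τ : P) : Prop := (bt σ.n 2 = 0 ∧ σ ≠ 1) ∧ bt τ.n 2 = 0 ∧ τ ≠ 1 ∧ σ * τ ≠ 1
instance (σ τ : P) : Decidable (Gen σ τ) := inferInstanceAs (Decidable (_ ∧ _))

omit [Finite G] in
theorem data (s : Sy ι) (h : X1 ι g) : ∃ σ τ : P, ∃ x y4 y5 : V, Gen σ τ ∧ (σ • y4 = y4 ∧ τ • y4 = y4) ∧
    (σ • y5 = y5 ∧ τ • y5 = y5) ∧ y4 + y5 ≠ v 48 ∧ y4 + y5 ≠ v 63 ∧ Cj ι g (a (d 4)) (a y4) ∧ Cj ι g (a (d 5)) (a y5) ∧
    ∀ u, Cj ι g (a u) (a (lin x (σ • x) (τ • x) (σ • τ • x) y4 y5 u)) := by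
  obtain ⟨c', c1, c2⟩ := h.r1 c (by decide)
  obtain ⟨t', t1, t2⟩ := h.r1 sg (by decide)
  obtain ⟨x, hx⟩ := imgE h.ne (d 0)
  obtain ⟨y4, h4⟩ := imgE h.ne (d 4)
  obtain ⟨y5, h5⟩ := imgE h.ne (d 5)
  obtain ⟨y, m1, m2, m3⟩ := h.mv
  have e : y = a (y4 + y5) := s.right m1 ((cj_add h4 h5).congr (by decide) rfl)
  have fx : ∀ {t t' : M} {u u' : V}, Cj ι g t t' → Cj ι g (a u) (a u') → t.s • u = u → t'.s • u' = u' :=
    fun q p e => a_inj (s.right ((cj_act q p).congr (congrArg a e) rfl) p)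
  refine ⟨c'.s, t'.s, x, y4, y5, ⟨⟨c1, fun n => ?_⟩, t1, fun n => ?_, fun n => ?_⟩,
    ⟨fx c2 h4 (by decide), fx t2 h4 (by decide)⟩, ⟨fx c2 h5 (by decide), fx t2 h5 (by decide)⟩,
    fun n => m2 (by rw [e, n]; rfl), fun n => m3 (by rw [e, n]; rfl), h4, h5,
    cj_lin hx ((cj_act c2 hx).congr (by decide) rfl) ((cj_act t2 hx).congr (by decide) rfl)
      ((cj_act c2 (cj_act t2 hx)).congr (by decide) rfl) h4 h5⟩
  · exact absurd ((s.back h.ne c2).2 n) (by decide)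
  · exact absurd ((s.back h.ne t2).2 n) (by decide)
  · exact absurd ((s.back h.ne (c2.mul t2)).2 n) (by decide)

theorem lin15 : ∀ σ τ : P, Gen σ τ → ∀ x : V, x + σ • x + τ • x + σ • τ • x = 0 ∨ x + σ • x + τ • x + σ • τ • x = v 15 := by
  decide +kernel
theorem fix8 : ∀ σ τ : P, Gen σ τ → ∀ y : V, σ • y = y → τ • y = y → y ≠ 0 → y ≠ v 48 → y ≠ v 63 → y ≠ v 15 →
    y = v 16 ∨ y = v 32 ∨ y = v 31 ∨ y = v 47 := by decide +kernel

/-- the image of `z2` and `z` -/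
theorem mv4 (s : Sy ι) (h : X1 ι g) : ∃ y : V, (y = v 16 ∨ y = v 32 ∨ y = v 31 ∨ y = v 47) ∧ Cj ι g z2 (a y) ∧
    Cj ι g z (a (y + v 15)) := by
  obtain ⟨σ, τ, x, y4, y5, ge, f4, f5, n1, n2, h4, h5, hu⟩ := data s h
  have q2 : Cj ι g z2 (a (y4 + y5)) := (cj_add h4 h5).congr (by decide) rfl
  have q4 : Cj ι g z4 (a (x + σ • x + τ • x + σ • τ • x)) := (hu (v 15)).congr rfl (congrArg a (by
    show x + σ • x + τ • x + σ • τ • x + 0 + 0 = _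
    rw [add_zero, add_zero]))
  have e4 : x + σ • x + τ • x + σ • τ • x = v 15 :=
    (lin15 σ τ ge x).resolve_left fun n => s.ne1 q4 (by decide) (by rw [n]; rfl)
  rw [e4] at q4
  refine ⟨y4 + y5, fix8 σ τ ge _ (by rw [smul_add, f4.1, f5.1]) (by rw [smul_add, f4.2, f5.2])
    (fun n => s.ne1 q2 (by decide) (by rw [n]; rfl)) n1 n2 fun n => nf24 s ⟨g, q2.congr rfl (by rw [n]; rfl)⟩, q2,
    (q2.mul q4).congr (by decide) (a_add _ _).symm⟩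

end H38.EF
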