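import Cfsg.Agent.Lib.A12.Defs
/-! Package FW of `blueprint/A12/README.md`. -/
set_option autoImplicit false
set_option linter.unusedSectionVars false
namespace H24.T12
open Subgroup H1.A10 H45 H69 Gold Cfsg

variable {G : Type} [Group G] [Finite G] {ι : M →* G} {π : G → B} {g k : G}

namespace FW

/-- the preimage of `w R` in `N` -/
def pre (d : Fr ι π) {N : Subgroup G} (hN : N ≤ NF ι) (R : Subgroup M) : Subgroup G where
  carrier := {n | n ∈ N ∧ ∃ y ∈ R, π n = w y}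
  one_mem' := ⟨one_mem _, 1, one_mem _, by rw [d.toPr.one, map_one]⟩
  mul_mem' := by
    rintro x y ⟨hx, r, hr, e⟩ ⟨hy, r', hr', e'⟩
    exact ⟨mul_mem hx hy, r * r', mul_mem hr hr', by rw [d.mul _ (hN hx) _ (hN hy), e, e', map_mul]⟩
  inv_mem' := by
    rintro x ⟨hx, r, hr, e⟩
    exact ⟨inv_mem hx, r⁻¹, inv_mem hr, by rw [d.toPr.inv (hN hx), e, map_inv]⟩

theorem pi_div (d : Fr ι π) (hg : g ∈ NF ι) {y : M} (e : π g = w y) : π ((ι y)⁻¹ * g) = 1 := by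
  rw [d.mul _ (inv_mem (mem_NF y)) _ hg, d.toPr.inv (mem_NF y), d.emb, e, inv_mul_cancel]

theorem syl (d : Fr ι π) {N : Subgroup G} (hN : N ≤ NF ι) {R : Subgroup M} (hR : R.map ι ≤ N) :
    IsSylowIn 2 (R.map ι) (pre d hN R) where
  le := by
    rintro _ ⟨x, hx, rfl⟩
    exact ⟨hR ⟨x, hx, rfl⟩, x, hx, d.emb x⟩
  isP := d.sy.two_map R
  max A h1 h2 hA := le_antisymm (fun x hx => by
    obtain ⟨h3, y, hy, e⟩ := h2 hx
    have h4 : (ι y)⁻¹ * x ∈ A := mul_mem (inv_mem (h1 ⟨y, hy, rfl⟩)) hx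
    have h5 := d.ker _ (hN (h2 h4).1) (pi_div d (hN h3) e)
    obtain ⟨n, hn⟩ := hA ⟨_, h4⟩
    have h6 : orderOf ((ι y)⁻¹ * x) ∣ 2 ^ n := orderOf_dvd_of_pow_eq_one (congrArg Subtype.val hn)
    have h7 := Nat.eq_one_of_self_dvd_of_coprime h6 h5
    exact ⟨y, hy, inv_mul_eq_one.1 (orderOf_eq_one_iff.1 h7)⟩) h1
where Nat.eq_one_of_self_dvd_of_coprime {m n : ℕ} (h : m ∣ 2 ^ n) (o : Odd m) : m = 1 :=
  Nat.Coprime.eq_one_of_dvd (Nat.Coprime.pow_right n (Nat.coprime_two_right.2 o)) h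

def TB : ℕ := 0xc7e3b1b8c000000000000000000b9dcae370000000000000000000000000000000000000000000000000000000000000000000000000a7d3a9b4c000000000000000000d9ecb63b08780000fc8580000f88380000f48180000f000000000000000000000000000000000000000000000000000000000000000000000000067800013c6580001386380001346180001305b000000000000ec00001e400000000000b953000000000000cc00001a400000000000a94b000000000000ac00001640000000000099430000000000008c000012400000000000895d0000000001e8000000000ea000000000b5550000000001a8000000000ca000000000a54d000000000168000000000aa00000000095450000000001280000000008a0000000008559800007c0000000000000000003980000bc51800006c0000000000000000003180000ac49800005c00000000000000000029800009c41800004c00000000000000000021800008c1f8f87a3c1d8e872381b8d86a34198c86230178b85a2c158a85228138984a241188842200f8783a1c0d86832180b8582a14098482210078381a0c058281208038180a04018080200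

def en (x : M) : ℕ := Nat.shiftRight TB (Nat.mul 9 (Nat.add (Nat.mul 64 x.s.n) x.f.n))

def cjs (n : ℕ) : Equiv.Perm I :=
  if n = 0 then 1 else if n = 1 then Equiv.swap 0 2 else if n = 2 then Equiv.swap 0 3 else
  if n = 3 then Equiv.swap 0 4 else if n = 4 then Equiv.swap 0 5 else if n = 5 then Equiv.swap 2 4 else
  Equiv.swap 2 5

theorem tab : ∀ x : M, x * x = 1 →
    bl (cjs (Nat.mod (Nat.shiftRight (en x) 6) 8)) * (wV x.f * wP x.s) =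
      wV (v (en x)) * wP 1 * bl (cjs (Nat.mod (Nat.shiftRight (en x) 6) 8)) := by
  decide +kernel

theorem rotE : ∀ u : V, bl (Equiv.swap 0 4 * Equiv.swap 0 2 * (Equiv.swap 1 5 * Equiv.swap 1 3)) * (wV u * wP 1) =
    wV (v (Nat.add (Nat.mul 4 u.n) (Nat.shiftRight u.n 4))) * wP 1 *
      bl (Equiv.swap 0 4 * Equiv.swap 0 2 * (Equiv.swap 1 5 * Equiv.swap 1 3)) := by
  decide +kernel

theorem rotT : ∀ i : Fin 7, a (v (Nat.add (Nat.mul 4 (tt i).f.n) (Nat.shiftRight (tt i).f.n 4))) =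
    tt ((Equiv.swap 0 4 * Equiv.swap 0 2 * (Equiv.swap 1 5 * Equiv.swap 1 3) : Equiv.Perm (Fin 7)) i) := by
  decide +kernel

end FW

theorem Fr.fusN (d : Fr ι π) {N : Subgroup G} (hN : N ≤ NF ι) (h0 : g ∈ N) {R R' : Subgroup M}
    (hR : R.map ι ≤ N) (hR' : R'.map ι ≤ N) (h : ∀ x ∈ R, ∃ y ∈ R', π g * w x * (π g)⁻¹ = w y) :
    ∃ k ∈ N, π k = π g ∧ ∀ x ∈ R, ∀ y, π g * w x * (π g)⁻¹ = w y → Cj ι k x y := by
  obtain ⟨k0, ⟨h1, r, hr, e⟩, h2⟩ := (FW.syl d hN hR').exists_cj_le (isPGroup_cj (d.sy.two_map R) g) (by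
    intro y hy
    obtain ⟨_, ⟨x, hx, rfl⟩, rfl⟩ := mem_cj'.1 hy
    obtain ⟨y, hy, e⟩ := h x hx
    exact ⟨mul_mem (mul_mem h0 (hR ⟨x, hx, rfl⟩)) (inv_mem h0), y, hy, by
      rw [d.toPr.conj (hN h0) (mem_NF x), d.emb, e]⟩)
  have h3 : (ι r)⁻¹ * k0 ∈ N := mul_mem (inv_mem (hR' ⟨r, hr, rfl⟩)) h1
  have h4 : π ((ι r)⁻¹ * k0 * g) = π g := by
    rw [d.mul _ (hN h3) _ (hN h0), FW.pi_div d (hN h1) e, one_mul]
  refine ⟨_, mul_mem h3 h0, h4, fun x hx y e' => ?_⟩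
  obtain ⟨y', -, e2⟩ := h2 (cj_mem k0 (cj_mem g (mem_map_of_mem ι hx)))
  have p : Cj ι ((ι r)⁻¹ * k0 * g) x (r⁻¹ * y' * r) := by
    rw [Cj, map_mul, map_mul, map_inv, e2]; group
  have h5 := congrArg π p.eq
  rw [d.toPr.conj (hN (mul_mem h3 h0)) (mem_NF x), h4, d.emb, d.emb, e'] at h5
  exact p.congr rfl (w_inj h5).symm

theorem Fr.fusS (d : Fr ι π) {b : B} (hb : b ∈ W) {R : Subgroup M} (h : ∀ x ∈ R, ∃ y, b * w x * b⁻¹ = w y) :
    ∃ k ∈ NF ι, π k = b ∧ ∀ x ∈ R, ∀ y, b * w x * b⁻¹ = w y → Cj ι k x y := by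
  obtain ⟨g, hg, rfl⟩ := d.sur b hb
  have h1 : ∀ K : Subgroup M, K.map ι ≤ NF ι := by
    rintro K _ ⟨x, -, rfl⟩; exact mem_NF x
  exact d.fusN le_rfl hg (h1 R) (h1 ⊤) fun x hx => (h x hx).imp fun _ e => ⟨mem_top _, e⟩

theorem Fr.fus (d : Fr ι π) {b : B} (hb : b ∈ W) {x y : M} (h : b * w x * b⁻¹ = w y) :
    ∃ k ∈ NF ι, π k = b ∧ Cj ι k x y := by
  obtain ⟨k, h1, h2, h3⟩ := d.fusS hb (R := zpowers x) (by
    rintro _ ⟨n, rfl⟩
    exact ⟨y ^ n, by simp only [map_zpow]; rw [← h, conj_zpow]⟩)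
  exact ⟨k, h1, h2, h3 x (mem_zpowers x) y h⟩

theorem Fr.down (d : Fr ι π) (hg : g ∈ NF ι) {x y : M} (h : Cj ι g x y) : π g * w x * (π g)⁻¹ = w y := by
  have := congrArg π h.eq
  rwa [d.toPr.conj hg (mem_NF x), d.emb, d.emb] at this

theorem Fr.nf_le (d : Fr ι π) : NF ι ≤ 𝐂[ι z] := by
  intro g hg
  obtain ⟨y, -, p⟩ := img hg ((w_FF z).2 (by rw [w_z]; rfl))
  have := d.down hg p
  rw [w_z, z0_comm, mul_inv_cancel_right, ← w_z] at this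
  exact (p.congr rfl (w_inj this).symm).cent

theorem Fr.ker_cent (d : Fr ι π) (hg : g ∈ NF ι) (h : π g = 1) : g ∈ 𝐂(FF.map ι) := by
  refine mem_centralizer_iff_commute.2 ?_
  rintro _ ⟨x, hx, rfl⟩
  obtain ⟨y, -, p⟩ := img hg hx
  have := d.down hg p
  rw [h, one_mul, inv_one, mul_one] at this
  exact (mul_inv_eq_iff_eq_mul.1 (p.congr rfl (w_inj this).symm).eq).symm

theorem intoE (x : M) (h : x * x = 1) : ∃ b ∈ W, ∃ u, b * w x * b⁻¹ = w (a u) :=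
  ⟨bl (FW.cjs (Nat.mod (Nat.shiftRight (FW.en x) 6) 8)), bl_W _, v (FW.en x), mul_inv_eq_of_eq_mul (by
    rw [w_apply, w_apply, a_f, a_s]; exact FW.tab x h)⟩

theorem Fr.intoE (d : Fr ι π) (x : M) (h : x * x = 1) : ∃ k ∈ NF ι, ∃ u, Cj ι k x (a u) := by
  obtain ⟨b, hb, u, e⟩ := T12.intoE x h
  obtain ⟨k, h1, -, h2⟩ := d.fus hb e
  exact ⟨k, h1, u, h2⟩

theorem Fr.rot (d : Fr ι π) : ∃ k ∈ NF ι, k ∈ NE ι ∧ π k = bl (Equiv.swap 0 4 * Equiv.swap 0 2 * (Equiv.swap 1 5 * Equiv.swap 1 3)) ∧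
    PA ι k (Equiv.swap 0 4 * Equiv.swap 0 2 * (Equiv.swap 1 5 * Equiv.swap 1 3)) := by
  have h0 : ∀ x ∈ EE, bl (Equiv.swap 0 4 * Equiv.swap 0 2 * (Equiv.swap 1 5 * Equiv.swap 1 3)) * w x *
      (bl (Equiv.swap 0 4 * Equiv.swap 0 2 * (Equiv.swap 1 5 * Equiv.swap 1 3)))⁻¹ =
      w (a (v (Nat.add (Nat.mul 4 x.f.n) (Nat.shiftRight x.f.n 4)))) := fun x hx => by
    refine mul_inv_eq_of_eq_mul ?_
    rw [w_apply, w_apply, a_f, a_s, mem_EE.1 hx]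
    exact FW.rotE x.f
  obtain ⟨k, h1, h2, h3⟩ := d.fusS (bl_W _) (R := EE) fun x hx => ⟨_, h0 x hx⟩
  exact ⟨k, h1, norm_of fun x hx => ⟨_, a_EE _, h3 x hx _ (h0 x hx)⟩, h2,
    fun i => (h3 (tt i) (a_EE _) _ (h0 _ (a_EE _))).congr rfl (FW.rotT i)⟩

theorem Fr.fu_d (d : Fr ι π) (i : Fin 7) (h : i ≠ 6) : ∃ k ∈ NF ι, k ∈ NE ι ∧ Cj ι k (dd 4 6) (dd i 6) ∧ Cj ι k (tt 4) (tt i) := by
  suffices ∃ k ∈ NF ι, k ∈ NE ι ∧ Cj ι k (tt 4) (tt i) by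
    obtain ⟨k, h1, h2, p⟩ := this
    refine ⟨k, h1, h2, (p.mul (Cj.of_cent (d.nf_le h1))).congr ?_ ?_, p⟩ <;> rw [← tt6, tt_mul]
  obtain ⟨k, h1, h2, -, p⟩ := d.rot
  have p0 : Cj ι k (tt 4) (tt 0) := (p 4).congr rfl (congrArg tt (by decide))
  have p2 : Cj ι k (tt 0) (tt 2) := (p 0).congr rfl (congrArg tt (by decide))
  have q : ∀ i : Fin 7, i ≠ 6 → ∃ t, t * tt 4 * t⁻¹ = tt i ∨ t * tt 0 * t⁻¹ = tt i ∨ t * tt 2 * t⁻¹ = tt i := by
    decide +kernel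
  obtain ⟨t, e | e | e⟩ := q i h
  · exact ⟨_, mem_NF t, mem_NE t, Cj.of' e⟩
  · exact ⟨_, mul_mem (mem_NF t) h1, mul_mem (mem_NE t) h2, p0.comp (Cj.of' e)⟩
  · exact ⟨_, mul_mem (mem_NF t) (mul_mem h1 h1), mul_mem (mem_NE t) (mul_mem h2 h2),
      (p0.comp p2).comp (Cj.of' e)⟩

end H24.T12
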