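import Cfsg.Agent.Lib.A12.Defs2
import Cfsg.Agent.Lib.A12.BAS
import Cfsg.Agent.Lib.A12.FW
import Cfsg.Agent.Lib.A12.EFx
/-! Package EF of `blueprint/A12/README.md`. -/
set_option autoImplicit false
namespace H38.EF
open Subgroup H1.A10 H45 H69 Gold Cfsg H24.T12

variable {G : Type} [Group G] [Finite G] {ι : M →* G} {π : G → B} {g k : G}

theorem f54 (d : Dat ι π) : Fu ι (dd 4 6) (dd 5 6) ∧ Fu ι (tt 4) (tt 5) :=
  (d.toFr.fu_d 5 (by decide)).elim fun k h => h.2.elim fun _ h => ⟨⟨k, h.1⟩, k, h.2⟩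

theorem tz (d : Dat ι π) : Fu ι (tt 4) z := by
  obtain ⟨g, h⟩ := d.x1
  obtain ⟨y, hy, -, q⟩ := mv4 d.sy h
  rcases hy with rfl | rfl | rfl | rfl
  · exact (f54 d).2.trans ⟨_, (q.congr rfl (by decide)).symm⟩
  · exact ⟨_, (q.congr rfl (by decide)).symm⟩
  · exact absurd (d.nrm.symm.trans ⟨_, (q.congr rfl (by decide)).symm⟩) (nf2 d.sy)
  · exact absurd (d.nrm.symm.trans ((f54 d).1.trans ⟨_, (q.congr rfl (by decide)).symm⟩)) (nf2 d.sy)

/-- classes of subsets: `0` empty, `1` points and pairs, `2` other duads, `3` a pair and a point, `4`, `5` transversals,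
`6` two pairs, `7` other four-sets, `8` at least five points -/
def cl (u : V) : ℕ := Nat.mod (Nat.shiftRight 0x8886877387736331877375427452322187737452754232216331322132211110 (Nat.mul 4 u.n)) 16
theorem cl_lt (u : V) : cl u < 16 := Nat.mod_lt _ (by decide)
def rp (i : ℕ) : V := v (Nat.shiftRight 0x3fd4f5951c5c00 (Nat.mul 6 i))
def rot (u : V) : V := lin (d 2) (d 3) (d 4) (d 5) (d 0) (d 1) u
def r0 (u : V) : V := if cl u = 1 ∧ a u ∉ FF then v 16 else if cl u = 8 ∧ u ≠ v 63 then v 47 else rp (cl u)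
theorem to_r0 : ∀ u, ∃ σ : P, σ • u = r0 u ∨ σ • rot u = r0 u ∨ σ • rot (rot u) = r0 u := by decide +kernel
theorem r0_rp : ∀ u, r0 u = rp (cl u) ∨ (r0 u = v 16 ∧ rp (cl u) = v 48) ∨ (r0 u = v 47 ∧ rp (cl u) = v 63) := by
  decide +kernel

omit [Finite G] in
theorem fu_act (σ : P) (u : V) : Fu ι (a u) (a (σ • u)) := Fu.of (p σ) (conj_a _ _)

theorem fu_rot (d : Dat ι π) (u : V) : Fu ι (a u) (a (rot u)) := by
  obtain ⟨k, -, -, -, h⟩ := d.toFr.rot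
  have e := fun i => (h i).mul (h 6)
  exact ⟨k, cj_lin ((e 0).congr (by decide) (by decide)) ((e 1).congr (by decide) (by decide))
    ((e 2).congr (by decide) (by decide)) ((e 3).congr (by decide) (by decide)) ((e 4).congr (by decide) (by decide))
    ((e 5).congr (by decide) (by decide)) u⟩

theorem fu_cl (d : Dat ι π) (u : V) : Fu ι (a u) (a (rp (cl u))) := by
  have h : Fu ι (a u) (a (r0 u)) := by
    obtain ⟨σ, e | e | e⟩ := to_r0 u
    · exact e ▸ fu_act σ u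
    · exact e ▸ (fu_rot d u).trans (fu_act σ _)
    · exact e ▸ ((fu_rot d u).trans (fu_rot d _)).trans (fu_act σ _)
  rcases r0_rp u with e | ⟨e, e'⟩ | ⟨e, e'⟩
  · exact e ▸ h
  · rw [e] at h; rw [e']; exact h.trans d.nrm
  · rw [e] at h; rw [e']; exact h.trans (tz d)

/-- the pairs of classes joined by `f` -/
def ed (f : V → V) (n : ℕ) : ℕ :=
  Nat.rec 0 (fun k r => Nat.lor r (Nat.pow 2 (Nat.add (Nat.mul 16 (cl (v k))) (cl (f (v k)))))) n
theorem ed_sound (f : V → V) (n e : ℕ) (h : (ed f n).testBit e = true) : ∃ u, 16 * cl u + cl (f u) = e := by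
  induction n with
  | zero => exact absurd h (by simp [ed])
  | succ n ih =>
    have : (ed f n ||| 2 ^ (16 * cl (v n) + cl (f (v n)))).testBit e = true := h
    rw [Nat.testBit_or, Bool.or_eq_true, Nat.testBit_two_pow, decide_eq_true_iff] at this
    exact this.elim ih fun e => ⟨_, e⟩
def E (n i j : ℕ) : Bool := n.testBit (16 * i + j) || n.testBit (16 * j + i)
def pat (R : ℕ → ℕ → Prop) : Prop :=
  R 1 6 ∨ R 1 8 ∨ (R 3 1 ∧ (R 3 6 ∨ R 3 8)) ∨ (R 3 6 ∧ R 3 8) ∨ (R 2 1 ∧ (R 2 8 ∨ (R 3 2 ∧ (R 3 8 ∨ (R 3 7 ∧ R 7 8))))) ∨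
    (R 3 2 ∧ R 3 6 ∧ R 7 4 ∧ R 7 5 ∧ R 7 8) ∨
    (R 2 1 ∧ R 3 7 ∧ ((R 3 6 ∧ R 7 4 ∧ R 7 5) ∨ (R 3 4 ∧ R 5 6) ∨ (R 3 5 ∧ R 4 6)))
instance (R : ℕ → ℕ → Prop) [DecidableRel R] : Decidable (pat R) := by unfold pat; infer_instance
def gd (n : ℕ) : Bool := Nat.rec (decide (pat fun i j => E 0 i j = true)) (fun m _ => decide (pat fun i j => E (Nat.succ m) i j = true)) n
theorem gd_eq (n : ℕ) : gd n = decide (pat fun i j => E n i j = true) := by cases n <;> rfl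
theorem key : ∀ σ τ : P, Gen σ τ → ∀ y4 : V, cl y4 = 1 ∧ σ • y4 = y4 ∧ τ • y4 = y4 → ∀ y5 : V, cl y5 = 1 ∧ σ • y5 = y5 ∧ τ • y5 = y5 →
    y4 + y5 ≠ v 48 → y4 ≠ y5 → ∀ x : V, gd (ed (lin x (σ • x) (τ • x) (σ • τ • x) y4 y5) 64) = true := by
  decide +kernel

/-- fusion of classes -/
def Rl (ι : M →* G) (i j : ℕ) : Prop := Fu ι (a (rp i)) (a (rp j))
omit [Finite G] in
theorem Rl.symm {i j : ℕ} (h : Rl ι i j) : Rl ι j i := Fu.symm h
omit [Finite G] in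
theorem Rl.trans {i j l : ℕ} (h : Rl ι i j) (h' : Rl ι j l) : Rl ι i l := Fu.trans h h'
theorem n16 (s : Sy ι) : ¬ Rl ι 1 6 := nf24 s
theorem n18 (s : Sy ι) : ¬ Rl ι 1 8 := nf2 s
theorem n68 (s : Sy ι) : ¬ Rl ι 6 8 := nf4 s
omit [Finite G] in
theorem n0 (s : Sy ι) {i : ℕ} (h : a (rp i) ≠ 1) : ¬ Rl ι i 0 := fun ⟨_, p⟩ => s.ne1 p h rfl
theorem rl_of (d : Dat ι π) {u u' : V} (h : Fu ι (a u) (a u')) : Rl ι (cl u) (cl u') :=
  (fu_cl d u).symm.trans (h.trans (fu_cl d u'))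

theorem fixcl : ∀ σ τ : P, Gen σ τ → ∀ y : V, σ • y = y → τ • y = y → cl y = 0 ∨ cl y = 1 ∨ cl y = 6 ∨ cl y = 8 := by
  decide +kernel

theorem pat_mono {R S : ℕ → ℕ → Prop} (h : ∀ i j, i < 16 → j < 16 → R i j → S i j) (p : pat R) : pat S := by
  have k : ∀ {i j : ℕ}, R i j → (hi : i < 16 := by decide) → (hj : j < 16 := by decide) → S i j := fun r hi hj => h _ _ hi hj r
  rcases p with p | p | ⟨p, q | q⟩ | ⟨p, q⟩ | ⟨p, q | ⟨q, r | ⟨r, t⟩⟩⟩ | ⟨p, q, r, t, u⟩ | ⟨p, q, ⟨r, t, u⟩ | ⟨r, t⟩ | ⟨r, t⟩⟩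
  · exact .inl (k p)
  · exact .inr (.inl (k p))
  · exact .inr (.inr (.inl ⟨k p, .inl (k q)⟩))
  · exact .inr (.inr (.inl ⟨k p, .inr (k q)⟩))
  · exact .inr (.inr (.inr (.inl ⟨k p, k q⟩)))
  · exact .inr (.inr (.inr (.inr (.inl ⟨k p, .inl (k q)⟩))))
  · exact .inr (.inr (.inr (.inr (.inl ⟨k p, .inr ⟨k q, .inl (k r)⟩⟩))))
  · exact .inr (.inr (.inr (.inr (.inl ⟨k p, .inr ⟨k q, .inr ⟨k r, k t⟩⟩⟩))))
  · exact .inr (.inr (.inr (.inr (.inr (.inl ⟨k p, k q, k r, k t, k u⟩)))))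
  · exact .inr (.inr (.inr (.inr (.inr (.inr ⟨k p, k q, .inl ⟨k r, k t, k u⟩⟩)))))
  · exact .inr (.inr (.inr (.inr (.inr (.inr ⟨k p, k q, .inr (.inl ⟨k r, k t⟩)⟩)))))
  · exact .inr (.inr (.inr (.inr (.inr (.inr ⟨k p, k q, .inr (.inr ⟨k r, k t⟩)⟩)))))

theorem pat_rl (d : Dat ι π) : pat (Rl ι) := by
  obtain ⟨g, h⟩ := d.x1
  obtain ⟨σ, τ, x, y4, y5, ge, f4, f5, n1, -, h4, h5, hu⟩ := data d.sy h
  have c1 : ∀ {u y : V}, cl u = 1 → Cj ι g (a u) (a y) → σ • y = y ∧ τ • y = y → cl y = 1 := fun {u y} e p f => by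
    have r := rl_of d ⟨g, p⟩
    rw [e] at r
    rcases fixcl σ τ ge y f.1 f.2 with e | e | e | e
    · exact absurd (e ▸ r) (n0 d.sy (by decide))
    · exact e
    · exact absurd (e ▸ r) (n16 d.sy)
    · exact absurd (e ▸ r) (n18 d.sy)
  have := key σ τ ge y4 ⟨c1 (by decide) h4 f4, f4⟩ y5 ⟨c1 (by decide) h5 f5, f5⟩ n1
    (fun e => d.sy.ne' h4 h5 (by decide) (congrArg a e)) x
  rw [gd_eq, decide_eq_true_iff] at this
  refine pat_mono (fun i j hi hj e => ?_) this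
  rw [E, Bool.or_eq_true] at e
  rcases e with e | e <;> obtain ⟨u, e⟩ := ed_sound _ _ _ e <;> have r := rl_of d ⟨g, hu u⟩ <;>
    have l := cl_lt (lin x (σ • x) (τ • x) (σ • τ • x) y4 y5 u)
  · rwa [show cl u = i by omega, show cl (lin x (σ • x) (τ • x) (σ • τ • x) y4 y5 u) = j by omega] at r
  · rw [show cl u = j by omega, show cl (lin x (σ • x) (τ • x) (σ • τ • x) y4 y5 u) = i by omega] at r
    exact r.symm

theorem cl9 : ∀ u, cl u = 0 ∨ cl u = 1 ∨ cl u = 2 ∨ cl u = 3 ∨ cl u = 4 ∨ cl u = 5 ∨ cl u = 6 ∨ cl u = 7 ∨ cl u = 8 := by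
  decide +kernel
theorem cl8 : ∀ u, cl u = 8 → ∃ i, a u = tt i := by decide +kernel
theorem cl1 : ∀ u, cl u = 1 → a u * z ∉ FF → ∃ i, i ≠ 6 ∧ a u = dd i 6 := by decide +kernel
theorem cl6 : ∀ u, wt (w (a u)) = 6 → cl u = 4 ∨ cl u = 5 ∨ cl u = 7 ∨ cl u = 8 := by decide +kernel
theorem duad : ∀ u, cl u = 1 ∨ cl u = 2 → ¬ (cl (v 63 + u) = 1 ∨ cl (v 63 + u) = 2) := by decide +kernel

theorem p7_of (d : Dat ι π) (h2 : ¬ Rl ι 2 8) (h3 : ¬ Rl ι 3 8) (h4 : ¬ Rl ι 4 8) (h5 : ¬ Rl ι 5 8) (h7 : ¬ Rl ι 7 8) :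
    P7 ι := fun u h => by
  have r : Rl ι (cl u) 8 := rl_of d (u' := v 63) h
  rcases cl9 u with e | e | e | e | e | e | e | e | e <;> rw [e] at r
  exacts [absurd r.symm (n0 d.sy (by decide)), absurd r (n18 d.sy), absurd r h2, absurd r h3, absurd r h4, absurd r h5,
    absurd r (n68 d.sy), absurd r h7, cl8 u e]

theorem n78 (d : Dat ι π) (h2 : Rl ι 2 1) (h3 : ¬ Rl ι 3 1) (h4 : ¬ Rl ι 4 1) (h5 : ¬ Rl ι 5 1) : ¬ Rl ι 7 8 := fun h => by
  have c : ∀ u, Rl ι (cl u) 1 → cl u = 1 ∨ cl u = 2 := fun u r => by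
    rcases cl9 u with e | e | e | e | e | e | e | e | e <;> rw [e] at r
    exacts [absurd r.symm (n0 d.sy (by decide)), .inl e, .inr e, absurd r h3, absurd r h4, absurd r h5,
      absurd r.symm (n16 d.sy), absurd (r.symm.trans h) (n18 d.sy), absurd r.symm (n18 d.sy)]
  obtain ⟨g, p⟩ := h
  obtain ⟨k, -, hk, q⟩ := ctlE d.sy (X := ⊤) le_top (mem_top g) (a_EE _) (a_EE _) p
  obtain ⟨u1, q1⟩ := imgE hk (v 5)
  obtain ⟨u2, q2⟩ := imgE hk (v 48)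
  have e : u2 + u1 = v 63 := a_inj (d.sy.right ((cj_add q2 q1).congr (by decide) rfl) q)
  have r1 : Rl ι 2 (cl u1) := rl_of d ⟨k, q1⟩
  have r2 : Rl ι 1 (cl u2) := rl_of d ⟨k, q2⟩
  exact duad u1 (c _ (r1.symm.trans h2)) (mv.1 e ▸ c _ r2.symm)

end H38.EF

namespace H24.T12
open Subgroup H1.A10 H45 H69 Gold Cfsg H38.EF

variable {G : Type} [Group G] [Finite G] {ι : M →* G} {π : G → B} {g k : G}

theorem Dat.fz (d : Dat ι π) (i : Fin 7) : Fu ι (tt i) z := by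
  by_cases h : i = 6
  · rw [h, tt6]; exact Fu.refl _
  obtain ⟨k, -, -, -, p⟩ := d.toFr.fu_d i h
  exact Fu.trans ⟨_, p.symm⟩ (tz d)

theorem Dat.dich' (d : Dat ι π) :
    (PI ι ∧ ∀ u, Fu ι (a u) z2 → a u * z ∉ FF → ∃ i, i ≠ 6 ∧ a u = dd i 6) ∨ P7 ι := by
  have a16 := n16 d.sy
  have a18 := n18 d.sy
  have a68 := n68 d.sy
  rcases pat_rl d with p | p | ⟨p, q | q⟩ | ⟨p, q⟩ | ⟨p, q | ⟨q, r | ⟨r, t⟩⟩⟩ | ⟨p, q, r, t, u⟩ |
    ⟨p, q, ⟨r, t, u⟩ | ⟨r, t⟩ | ⟨r, t⟩⟩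
  · exact absurd p a16
  · exact absurd p a18
  · exact absurd (p.symm.trans q) a16
  · exact absurd (p.symm.trans q) a18
  · exact absurd (p.symm.trans q) a68
  · exact absurd (p.symm.trans q) a18
  · exact absurd (p.symm.trans (q.symm.trans r)) a18
  · exact absurd (p.symm.trans (q.symm.trans (r.trans t))) a18
  · refine .inl ⟨fun x h => (fu_cl d x).trans ?_, fun x h => cl1 x ?_⟩
    · rcases cl6 x h with e | e | e | e <;> rw [e]
      exacts [r.symm.trans u, t.symm.trans u, u, Fu.refl _]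
    · have h : Rl ι (cl x) 1 := rl_of d (u' := v 48) h
      rcases cl9 x with e | e | e | e | e | e | e | e | e <;> rw [e] at h
      exacts [absurd h.symm (n0 d.sy (by decide)), e, absurd (h.symm.trans (p.symm.trans q)) a16,
        absurd (h.symm.trans q) a16, absurd (h.symm.trans (r.symm.trans u)) a18,
        absurd (h.symm.trans (t.symm.trans u)) a18, absurd h.symm a16, absurd (h.symm.trans u) a18, absurd h.symm a18]
  · have n : ¬ Rl ι 7 8 := fun h => a68 (r.symm.trans (q.trans h))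
    exact .inr (p7_of d (fun h => a18 (p.symm.trans h)) (fun h => n (q.symm.trans h)) (fun h => n (t.trans h))
      (fun h => n (u.trans h)) n)
  · have n : ¬ Rl ι 7 8 := fun h => n78 d p (fun e => a18 (e.symm.trans (q.trans h)))
      (fun e => a18 (e.symm.trans (r.symm.trans (q.trans h)))) (fun e => a16 (e.symm.trans t)) h
    exact .inr (p7_of d (fun h => a18 (p.symm.trans h)) (fun h => n (q.symm.trans h))
      (fun h => n (q.symm.trans (r.trans h))) (fun h => a68 (t.symm.trans h)) n)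
  · have n : ¬ Rl ι 7 8 := fun h => n78 d p (fun e => a18 (e.symm.trans (q.trans h))) (fun e => a16 (e.symm.trans t))
      (fun e => a18 (e.symm.trans (r.symm.trans (q.trans h)))) h
    exact .inr (p7_of d (fun h => a18 (p.symm.trans h)) (fun h => n (q.symm.trans h)) (fun h => a68 (t.symm.trans h))
      (fun h => n (q.symm.trans (r.trans h))) n)

end H24.T12
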