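import Cfsg.Agent.Lib.A12.Defs2
/-! Package WW of `blueprint/A12/README.md`. -/
set_option autoImplicit false
namespace H24.T12
open Subgroup H1.A10 H45 H69 Gold Cfsg

variable {G : Type} [Group G] [Finite G] {ι : M →* G} {π : G → B} {g k : G}

namespace WW
open Equiv

theorem ex2 {i j k l : I} (h : i ≠ j) (h' : k ≠ l) : ∃ σ : Perm I, σ i = k ∧ σ j = l :=
  ⟨swap (swap i k j) l * swap i k, (by decide +kernel : ∀ i j k l : I, i ≠ j → k ≠ l →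
    (swap (swap i k j) l * swap i k) i = k ∧ (swap (swap i k j) l * swap i k) j = l) i j k l h h'⟩

theorem fb {R : Subgroup B} (hn : ∀ c ∈ W, ∀ r ∈ R, c * r * c⁻¹ ∈ R) {r : B} (hr : r ∈ R) (ne : r ≠ 1)
    (z : r ≠ z0) : FB ≤ R := by
  wlog s : r.s = 1 generalizing r
  · obtain ⟨i, j, n⟩ : ∃ i j, r * e i j ≠ e i j * r := by by_contra! a; exact s (cent_FB a)
    refine this (mul_mem hr (hn _ (e_W i j) _ (inv_mem hr))) (fun z => n ?_) (fun q => ?_) (by simp)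
    · rw [← mul_inv_eq_one, ← z]; group
    · have : r * (e i j * r⁻¹ * (e i j)⁻¹) = e (r.s i) (r.s j) * (e i j)⁻¹ := by rw [← conj_e]; group
      rw [this] at q
      exact (by decide +kernel : ∀ i j k l : I, e k l * (e i j)⁻¹ ≠ z0) _ _ _ _ q
  obtain ⟨i, hi⟩ : ∃ i, r.f i = 1 := by
    by_contra! a; exact ne (B.ext (funext fun i => (z01 _).resolve_right (a i)) s)
  obtain ⟨j, hj⟩ : ∃ i, r.f i = 0 := by
    by_contra! a; exact z (B.ext (funext fun i => (z01 _).resolve_left (a i)) s)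
  have ij : i ≠ j := fun q => by rw [q, hj] at hi; exact absurd hi (by decide)
  have m : e i j ∈ R := by
    convert mul_mem hr (hn _ (sw_W i j) _ hr) using 1
    refine B.ext (funext fun k => ?_) (by simp [s])
    by_cases ki : k = i
    · simp [s, ki, hi, hj, dl, ij]
    by_cases kj : k = j
    · simp [s, kj, hi, hj, dl, ij.symm]
    simp [s, dl, ki, kj, swap_apply_of_ne_of_ne, zz]
  refine FB_ind fun k => ?_
  by_cases k0 : 0 = k
  · exact k0 ▸ e_self 0 ▸ R.one_mem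
  obtain ⟨σ, a, b⟩ := ex2 ij k0
  simpa only [conj_e, bl_s, a, b] using hn _ (bl_W σ) _ m

theorem pr : ∀ i : I, ∃ j : I, i ≠ j ∧ (∃ u, w (a u) = e i j) ∧ ∀ k : I, (∃ u, w (a u) = e j k) → j ≠ k → k = i := by
  decide +kernel

theorem rf : ∀ i : Fin 7, i ≠ 6 → wt (w (dd i 6)) = 2 ∧ w (dd i 6) * w (dd i 6) = 1 ∧
    ∃ a b : I, a ≠ b ∧ ∀ l, (w (dd i 6)).s l = swap a b l := by decide +kernel

theorem two : ∀ i j : Fin 7, i ≠ j → i ≠ 6 → j ≠ 6 → ∀ a b : I, a ≠ b →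
    (wt (sw a b * w (dd i j)) = 2 → sw a b = w (dd i 6) ∨ sw a b = w (dd j 6)) ∧
    (wt (sw a b * e a b * w (dd i j)) = 2 → sw a b * e a b = w (dd i 6) ∨ sw a b * e a b = w (dd j 6)) := by
  decide +kernel

theorem cj {i j : Fin 7} (ij : i ≠ j) (hi : i ≠ 6) (hj : j ≠ 6) {y : B} (h : y * w (dd i j) = w (dd i j) * y) :
    y * w (dd i 6) * y⁻¹ = w (dd i 6) ∨ y * w (dd i 6) * y⁻¹ = w (dd j 6) := by
  obtain ⟨h2, h1, a, b, ne, hs⟩ := rf i hi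
  have e1 : (y * w (dd i 6) * y⁻¹).s = swap (y.s a) (y.s b) := by
    rw [mul_s, mul_s, inv_s, (Equiv.ext hs : (w (dd i 6)).s = swap a b), swap_apply_apply]
  have ne' : y.s a ≠ y.s b := y.s.injective.ne ne
  have e2 : wt (y * w (dd i 6) * y⁻¹ * w (dd i j)) = 2 := by
    rw [show y * w (dd i 6) * y⁻¹ * w (dd i j) = y * (w (dd i 6) * w (dd i j)) * y⁻¹ by
      rw [mul_assoc _ y⁻¹, ← (Commute.inv_left h).eq.symm]; group, wt_conj, ← map_mul,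
      (by decide +kernel : ∀ i j : Fin 7, dd i 6 * dd i j = dd j 6), (rf j hj).1]
  rcases refl_cases ne' e1 (by rw [conj_mul, h1, mul_one, mul_inv_cancel]) (by rw [wt_conj, h2]) with q | q
  · rw [q] at e2 ⊢; exact (two i j ij hi hj _ _ ne').1 e2
  · rw [q] at e2 ⊢; exact (two i j ij hi hj _ _ ne').2 e2

theorem tz : ∀ i : Fin 7, tt i = dd i 6 * z := by decide +kernel

theorem t0 : ∀ x ∈ [m 3 0, m 5 0, m 9 0, m 17 0, m 33 0, c, sg, tau], x ∈ T0 := by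
  have h : ∀ x ∈ [m 3 0, m 5 0, m 9 0, m 17 0, m 33 0, c, sg, tau], ∃ i j k l : I, i ≠ j ∧ k ≠ l ∧
      ∀ n, (w x).s n = (swap i j * swap k l) n := by decide +kernel
  intro x hx
  obtain ⟨i, j, k, l, h1, h2, h3⟩ := h x hx
  change Perm.sign (w x).s = 1
  rw [(Equiv.ext h3 : (w x).s = swap i j * swap k l), map_mul, Perm.sign_swap h1, Perm.sign_swap h2]
  rfl

end WW

theorem z0_mem {R : Subgroup B} (hW : R ≤ W) (hn : ∀ c ∈ W, ∀ r ∈ R, c * r * c⁻¹ ∈ R) {r : B} (hr : r ∈ R) (ne : r ≠ 1) : z0 ∈ R := by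
  by_cases z : r = z0
  · exact z ▸ hr
  · exact WW.fb hn hr ne z z0_FB

theorem FB_le {R : Subgroup B} (hW : R ≤ W) (hn : ∀ c ∈ W, ∀ r ∈ R, c * r * c⁻¹ ∈ R) {r : B} (hr : r ∈ R) (ne : r ≠ 1)
    (ne' : r ≠ z0) : FB ≤ R := WW.fb hn hr ne ne'

theorem W0_le {R : Subgroup B} (hW : R ≤ W) (hn : ∀ c ∈ W, ∀ r ∈ R, c * r * c⁻¹ ∈ R) {r : B} (hr : r ∈ R) (ne : r.s ≠ 1)
    {b : B} (hb : b ∈ W) (h : b.s ∈ alternatingGroup I) : b ∈ R := by
  have : (R.map sB).Normal := ⟨by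
    rintro _ ⟨x, hx, rfl⟩ σ
    exact ⟨_, hn _ (bl_W σ) _ hx, rfl⟩⟩
  have nt : Nontrivial (R.map sB) := (nontrivial_iff_ne_bot _).2 fun q =>
    ne (mem_bot.1 (q ▸ mem_map_of_mem sB hr))
  obtain ⟨x, hx, e⟩ := Equiv.Perm.alternatingGroup_le_of_normal (α := I) (N := R.map sB) (by simp) nt h
  have k : b * x⁻¹ ∈ FB := mem_FB.2 ⟨W.mul_mem hb (W.inv_mem (hW hx)), by
    change b.s * x.s⁻¹ = 1
    rw [← e]; exact mul_inv_cancel _⟩
  have := mul_mem (WW.fb hn hr (fun q => ne (q ▸ rfl)) (fun q => ne (q ▸ rfl)) k) hx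
  rwa [inv_mul_cancel_right] at this

theorem chi_W (χ : W →* ℤˣ) (h : χ ⟨sw 4 5, sw_W 4 5⟩ = -1) (b : W) : χ b = Equiv.Perm.sign b.1.s := by
  have cj : ∀ x y : W, χ (x * y * x⁻¹) = χ y := fun x y => by
    rw [map_mul, map_mul, map_inv, mul_comm (χ x), mul_inv_cancel_right]
  have h1 : ∀ i j, i ≠ j → χ ⟨sw i j, sw_W i j⟩ = -1 := fun i j ne => by
    obtain ⟨σ, a, b⟩ := WW.ex2 (show (4 : I) ≠ 5 by decide) ne
    rw [← h, ← cj ⟨bl σ, bl_W σ⟩ ⟨sw 4 5, sw_W 4 5⟩]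
    exact congrArg χ (Subtype.ext ((by rw [conj_sw, a, b] : sw i j = bl σ * sw 4 5 * (bl σ)⁻¹)))
  have le : W ≤ (χ.eqLocus ((Equiv.Perm.sign.comp sB).comp W.subtype)).map W.subtype := by
    refine W_ind (fun i j ne => ⟨⟨sw i j, sw_W i j⟩, ?_, rfl⟩) fun j => ⟨⟨e 0 j, e_W 0 j⟩, ?_, rfl⟩
    · exact (h1 i j ne).trans (Equiv.Perm.sign_swap ne).symm
    · refine Eq.trans (b := 1) ?_ (map_one (Equiv.Perm.sign (α := I))).symm
      by_cases j0 : 0 = j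
      · rw [← map_one χ]; exact congrArg χ (Subtype.ext (by rw [← j0]; exact e_self 0))
      obtain ⟨k, z⟩ := (by decide +kernel :
        ∀ j : I, 0 ≠ j → ∃ k, e 0 j = sw 0 j * (e 0 k * sw 0 j * (e 0 k)⁻¹)) j j0
      rw [show (⟨e 0 j, e_W 0 j⟩ : W) = ⟨sw 0 j, sw_W 0 j⟩ * (⟨e 0 k, e_W 0 k⟩ * ⟨sw 0 j, sw_W 0 j⟩ *
        (⟨e 0 k, e_W 0 k⟩ : W)⁻¹) from Subtype.ext z, map_mul, cj, h1 _ _ j0]
      rfl
  obtain ⟨x, hx, e⟩ := le b.2
  obtain rfl : x = b := Subtype.ext e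
  exact hx

theorem odd_W {X : Subgroup B} (hW : X ≤ W) (o : ∀ x ∈ X, Odd (orderOf x))
    (hn : ∀ u, ∀ x ∈ X, w (a u) * x * (w (a u))⁻¹ ∈ X) : X = ⊥ := by
  refine (eq_bot_iff_forall _).2 fun x hx => ?_
  have k : ∀ i j, i ≠ j → (∃ u, w (a u) = e i j) → x.s i = i ∨ x.s i = j := by
    rintro i j ne ⟨u, hu⟩
    have m := mul_mem hx (hu ▸ hn u _ (inv_mem hx))
    have q := (El2.of_mul_self (sq_of_s (w := x * (e i j * x⁻¹ * (e i j)⁻¹)) (by simp))).eq_one (o _ m)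
    refine comm_e ne ?_
    rw [← mul_inv_eq_one, ← q]; group
  have s2 : (x * x).s = 1 := Equiv.ext fun i => by
    obtain ⟨j, ne, hu, hj⟩ := WW.pr i
    change x.s (x.s i) = i
    rcases k i j ne hu with q | q
    · rw [q, q]
    · obtain ⟨l, ne', hu', -⟩ := WW.pr j
      obtain rfl := hj l hu' ne'
      rcases k j l ne' hu' with q' | q'
      · exact absurd (x.s.injective (q.trans q'.symm)) ne
      · rw [q, q']
  exact El2.eq_one ⟨2, by rw [← sq_of_s s2, ← sq, ← sq, ← pow_mul]; rfl⟩ (o x hx)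

theorem l3_W {i j k : Fin 7} (ij : i ≠ j) (ik : i ≠ k) (jk : j ≠ k) (hi : i ≠ 6) (hj : j ≠ 6) (hk : k ≠ 6) {y : B}
    (h1 : y * w (dd i j) = w (dd i j) * y) (h2 : y * w (dd i k) = w (dd i k) * y) : y * w (tt i) = w (tt i) * y := by
  have q : y * w (dd i 6) * y⁻¹ = w (dd i 6) := by
    rcases WW.cj ij hi hj h1 with q | q
    · exact q
    rcases WW.cj ik hi hk h2 with q' | q'
    · exact q'
    exact absurd ((by decide +kernel : ∀ j k : Fin 7, dd j 6 = dd k 6 → j = k) j k (w_inj (q.symm.trans q'))) jk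
  rw [WW.tz, map_mul, w_z, ← mul_assoc, mul_inv_eq_iff_eq_mul.1 q, mul_assoc, z0_comm, mul_assoc]

theorem ZT : ∀ x : M, (∀ y ∈ T0, x * y * x⁻¹ * y⁻¹ = 1 ∨ x * y * x⁻¹ * y⁻¹ = z) → x = 1 ∨ x = z ∨ x = z2 ∨ x = z4 :=
  fun x h => (by decide +kernel : ∀ x : M, (∀ y ∈ [m 3 0, m 5 0, m 9 0, m 17 0, m 33 0, c, sg, tau],
    x * y * x⁻¹ * y⁻¹ = 1 ∨ x * y * x⁻¹ * y⁻¹ = z) → x = 1 ∨ x = z ∨ x = z2 ∨ x = z4) x fun y hy => h y (WW.t0 y hy)

theorem refl_T {x : M} {b : B} {i : Fin 7} (h : b * w x * b⁻¹ = w (tt i)) : ∃ j, x = tt j := by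
  have e : b * w (x * z) * b⁻¹ = w (dd i 6) := by
    have := congrArg (· * z0) h
    simp only [WW.tz i, map_mul, w_z, mul_assoc, z0_sq, mul_one] at this ⊢
    rw [← this, z0_comm]
  have k : ∀ x : M, (wt (w (x * z)) = 0 ∨ (wt (w (x * z)) = 2 ∧ x * z ∉ FF)) → ∃ j, x = tt j := by decide +kernel
  have e' := wt_conj b (w (x * z))
  rw [e] at e'
  by_cases hi : i = 6
  · exact k x (Or.inl (by rw [← e', hi]; decide +kernel))
  · refine k x (Or.inr ⟨by rw [← e', (WW.rf i hi).1], fun q => ?_⟩)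
    obtain ⟨-, -, a, a', ne, hs⟩ := WW.rf i hi
    have := congrArg B.s e
    rw [mul_s, mul_s, (w_FF _).1 q, inv_s, mul_one, mul_inv_cancel] at this
    have q := hs a
    rw [← this, Equiv.swap_apply_left] at q
    exact ne q

end H24.T12
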