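import Cfsg.Agent.Lib.A12.Defs2
import Cfsg.Agent.Lib.A12.EF
import Cfsg.Agent.Lib.A12.WW
/-! Package EF2 of `blueprint/A12/README.md`. -/
set_option autoImplicit false
namespace H24.T12
open Subgroup H1.A10 H45 H69 Gold Cfsg

variable {G : Type} [Group G] [Finite G] {ι : M →* G} {π : G → B} {g k : G}

namespace EF2
open Equiv

theorem tz : ∀ i : Fin 7, tt i * z = dd i 6 := by decide +kernel
theorem tinj : ∀ i j : Fin 7, tt i = tt j → i = j := by decide +kernel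
theorem ad : ∀ i : Fin 6, a (d i) = tt i.castSucc * tt 6 := by decide +kernel

theorem mul {ρ ρ' : Perm (Fin 7)} (p : PA ι g ρ) (q : PA ι k ρ') : PA ι (g * k) (ρ * ρ') :=
  fun i => (q i).comp (p (ρ' i))

theorem inv {ρ : Perm (Fin 7)} (p : PA ι g ρ) : PA ι g⁻¹ ρ⁻¹ := fun i =>
  (p (ρ⁻¹ i)).symm.congr (by simp) rfl

theorem pow {ρ : Perm (Fin 7)} (p : PA ι g ρ) (n : ℕ) : PA ι (g ^ n) (ρ ^ n) := by
  induction n with
  | zero => rw [pow_zero, pow_zero]; exact fun i => Cj.refl _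
  | succ n ih => rw [pow_succ, pow_succ]; exact mul ih p

theorem uniq (s : Sy ι) {ρ ρ' : Perm (Fin 7)} (p : PA ι g ρ) (q : PA ι g ρ') : ρ = ρ' :=
  Equiv.ext fun i => tinj _ _ (s.right (p i) (q i))

theorem model (x : M) : ∃ ρ, Perm.sign ρ = 1 ∧ PA ι (ι x) ρ := by
  have h : ∀ σ : P, ∃ ρ ∈ [(1 : Perm (Fin 7)), swap 0 1 * swap 2 3], ∃ ρ' ∈ [(1 : Perm (Fin 7)), swap 0 2 * swap 1 3],
      ∃ ρ'' ∈ [(1 : Perm (Fin 7)), swap 0 1 * swap 4 5], ∀ i, a (σ • (pt i + v 63)) = tt ((ρ * ρ' * ρ'') i) := by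
    decide +kernel
  obtain ⟨ρ, h1, ρ', h2, ρ'', h3, e⟩ := h x.s
  refine ⟨ρ * ρ' * ρ'', ?_, fun i => Cj.of' ((conj_a x _).trans (e i))⟩
  simp only [List.mem_cons, List.not_mem_nil, or_false] at h1 h2 h3
  rcases h1 with rfl | rfl <;> rcases h2 with rfl | rfl <;> rcases h3 with rfl | rfl <;> simp

theorem ex (d : Dat ι π) (h : P7 ι) (hg : g ∈ NE ι) : ∃ ρ, PA ι g ρ := by
  have k : ∀ i, ∃ j, Cj ι g (tt i) (tt j) := fun i => by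
    obtain ⟨y, hy, p⟩ := img hg (a_EE _ : tt i ∈ EE)
    obtain ⟨j, e⟩ := h y.f (eq_a hy ▸ Fu.trans ⟨_, p.symm⟩ (d.fz i))
    exact ⟨j, p.congr rfl ((eq_a hy).trans e)⟩
  choose f hf using k
  have : Function.Injective f := fun i j e => tinj _ _ (d.sy.left (hf i) (e ▸ hf j))
  exact ⟨Equiv.ofBijective f (Finite.injective_iff_bijective.1 this), hf⟩

end EF2

theorem Dat.dich (d : Dat ι π) : PI ι ∨ P7 ι := d.dich'.imp And.left id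

theorem Dat.iso (d : Dat ι π) (hg : g ∈ 𝐂[ι z]) {u : V} (p : Cj ι g (dd 4 6) (a u)) : ∃ i, i ≠ 6 ∧ a u = dd i 6 := by
  have q : Fu ι (a u * z) z := Fu.trans ⟨_, (p.mul (Cj.of_cent hg)).symm⟩
    ((by decide : tt 4 = dd 4 6 * z) ▸ d.fz 4)
  have ne : a u ≠ 1 := d.sy.ne1 p (by decide)
  rcases d.dich' with h | h
  · refine h.2 u (Fu.trans ⟨_, p.symm⟩ d.nrm) fun k => ?_
    obtain ⟨y, e⟩ := (by decide +kernel : ∀ u, a u * z ∈ FF → a u ≠ 1 → ∃ y, y * y = a u * z) u k ne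
    exact nsq d.sy y (e ▸ q)
  · obtain ⟨i, e⟩ := h (u + v 63) ((a_add u (v 63)).symm ▸ q)
    exact (by decide +kernel : ∀ u i, a (u + v 63) = tt i → a u ≠ 1 → ∃ i, i ≠ 6 ∧ a u = dd i 6) u i e ne

theorem Dat.tr (d : Dat ι π) (i : Fin 7) : ∃ g ∈ NE ι, Cj ι g z (tt i) := by
  obtain ⟨g, p⟩ := (d.fz i).symm
  obtain ⟨k, -, hk, q⟩ := ctlE d.sy (X := ⊤) le_top (mem_top g) (a_EE _ : z ∈ EE) (a_EE _ : tt i ∈ EE) p
  exact ⟨k, hk, q⟩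

theorem Dat.pa (d : Dat ι π) (h : P7 ι) (hg : g ∈ NE ι) : ∃ ρ, Equiv.Perm.sign ρ = 1 ∧ PA ι g ρ := by
  obtain ⟨ρ, p⟩ := EF2.ex d h hg
  refine ⟨ρ, ?_, p⟩
  obtain ⟨j, n, hn, e⟩ := Nat.exists_eq_two_pow_mul_odd (orderOf_pos g).ne'
  obtain ⟨k, hk, x, -, q⟩ := d.sy.into (d.sy.sylIn (Y := NE ι) (by rintro _ ⟨x, rfl⟩; exact mem_NE x))
    (pow_mem hg n) ⟨j, by rw [← pow_mul, mul_comm, ← e, pow_orderOf_eq_one]⟩
  obtain ⟨κ, p'⟩ := EF2.ex d h hk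
  obtain ⟨ρ', s', q'⟩ := EF2.model (ι := ι) x
  have := EF2.uniq d.sy (q ▸ EF2.mul (EF2.mul p' (EF2.pow p n)) (EF2.inv p')) q'
  rw [← this, map_mul, map_mul, map_inv, mul_comm (Equiv.Perm.sign κ), mul_inv_cancel_right, map_pow] at s'
  rcases Int.units_eq_one_or (Equiv.Perm.sign ρ) with r | r
  · exact r
  · rw [r, hn.neg_one_pow] at s'
    exact absurd s' (by decide)

theorem Dat.zcl (d : Dat ι π) (h : P7 ι) {x : M} (p : Fu ι x z) : ∃ i, x = tt i := by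
  obtain ⟨g, q⟩ := p.symm
  obtain ⟨k, hk, u, r⟩ := d.intoE x (d.sy.sq q (by decide))
  obtain ⟨i, e⟩ := h u (Fu.trans ⟨_, r.symm⟩ p)
  exact refl_T (e ▸ d.down hk r)

theorem Dat.zH (d : Dat ι π) (h : P7 ι) (hg : g ∈ 𝐂[ι z]) (p : IsConj (ι z) g) :
    ∃ k ∈ 𝐂[ι z], ∃ i, k * ι (tt i) * k⁻¹ = g := by
  obtain ⟨c, rfl⟩ := isConj_iff.1 p
  obtain ⟨k, hk, x, -, q⟩ := d.sy.into (d.sy.sylIn (range_cent z_comm)) hg
    ((El2.of_mul_self (by rw [← map_mul, (by decide : z * z = 1), map_one])).conj c)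
  obtain ⟨i, rfl⟩ := d.zcl h (x := x) (Fu.symm ⟨k * c, by rw [Cj, ← q]; group⟩)
  exact ⟨k⁻¹, inv_mem hk, i, by rw [← q]; group⟩

theorem PA.ne (s : Sy ι) {ρ : Equiv.Perm (Fin 7)} (p : PA ι g ρ) : g ∈ NE ι := by
  refine norm_of fun x hx => ?_
  rw [eq_a hx]
  induction x.f using V.ind with
  | h0 => exact ⟨1, one_mem _, Cj.one g⟩
  | h u i ih =>
    obtain ⟨y, hy, q⟩ := ih
    exact ⟨_, mul_mem hy (mul_mem (a_EE _) (a_EE _)),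
      (q.mul ((p i.castSucc).mul (p 6))).congr (by rw [a_add, EF2.ad]) rfl⟩

theorem PA.pdd {ρ : Equiv.Perm (Fin 7)} (p : PA ι g ρ) (i j : Fin 7) : Cj ι g (dd i j) (dd (ρ i) (ρ j)) :=
  ((p i).mul (p j)).congr (tt_mul _ _) (tt_mul _ _)

theorem PA.mul {ρ ρ' : Equiv.Perm (Fin 7)} (p : PA ι g ρ) (q : PA ι k ρ') : PA ι (g * k) (ρ * ρ') :=
  EF2.mul p q

theorem PA.cent (p : PA ι g 1) : g ∈ 𝐂(EE.map ι) := by
  rintro _ ⟨x, hx, rfl⟩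
  have : Cj ι g x x := by
    rw [eq_a hx]
    induction x.f using V.ind with
    | h0 => exact Cj.one g
    | h u i ih =>
      rw [a_add, EF2.ad]
      exact ih.mul ((p i.castSucc).mul (p 6))
  exact (mul_inv_eq_iff_eq_mul.1 this).symm

end H24.T12
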