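import Cfsg.Agent.Lib.A12.Defs2
/-! Package OB of `blueprint/A12/README.md`. -/
set_option autoImplicit false
set_option linter.unusedSectionVars false
set_option linter.unusedVariables false
namespace H24.T12
open Subgroup H1.A10 H45 H69 Gold Cfsg H67 Matrix

variable {G : Type} [Group G] [Finite G] {ι : M →* G} {π : G → B} {F : Type} [Field F] [Fintype F]
  {H L : Subgroup G} {ψ : GL (Fin 6) F → G} {σ : G} {n : ℕ}
  {J : Type} [Fintype J] [DecidableEq J] {Q : QuadraticForm F (J → F)} {θ : L →* GL J F}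

theorem OB.polar (x y : Fin n → F) : QuadraticMap.polar (QS F n) x y = 2 * (x ⬝ᵥ y) := by
  simp only [QuadraticMap.polar, QS_apply, dotProduct, Finset.mul_sum, ← Finset.sum_sub_distrib, Pi.add_apply]
  exact Finset.sum_congr rfl fun i _ => by ring

theorem OB.ev1 (i : Fin n) : QS F n (ev i) = 1 := by
  simp [QS_apply, Pi.single_apply]

theorem OB.conj {g h : GL (Fin n) F} (hg : g ∈ isometryGroup F (QS F n)) (hh : h ∈ OG F n) :
    g * h * g⁻¹ ∈ OG F n := by
  obtain ⟨h, hh, rfl⟩ := hh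
  exact ⟨_, Normal.conj_mem inferInstance h hh ⟨g, hg⟩, rfl⟩

theorem Q8.two (q : Q8 F) : (2 : F) ≠ 0 := by
  refine Ring.two_ne_zero fun h => ?_
  have := FiniteField.even_card_iff_char_two.1 h
  rcases q with q | q <;> omega

theorem Q8.aut (q : Q8 F) (α : RingAut F) {k : ℕ} (h : α ^ 2 ^ k = 1) : α = 1 := by
  classical
  obtain ⟨j, -, hj⟩ := (Nat.dvd_prime_pow Nat.prime_two).1 (orderOf_dvd_of_pow_eq_one h)
  rcases j with _ | j
  · exact orderOf_eq_one_iff.1 hj
  have : Finite (RingAut F) := Finite.of_injective (fun a : RingAut F => (a : F → F)) DFunLike.coe_injective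
  have := Fintype.ofFinite (RingAut F)
  have e := FixedPoints.finrank_eq_card (zpowers α) F
  rw [Fintype.card_zpowers, hj] at e
  have c := Module.card_eq_pow_finrank (K := FixedPoints.subfield (zpowers α) F) (V := F)
  rw [e, pow_succ, pow_mul] at c
  generalize Fintype.card (FixedPoints.subfield (zpowers α) F) ^ 2 ^ j = r at c
  have : r ^ 2 % 8 = 0 ∨ r ^ 2 % 8 = 1 ∨ r ^ 2 % 8 = 4 := by
    rw [Nat.pow_mod]
    have : r % 8 < 8 := Nat.mod_lt _ (by norm_num)
    generalize r % 8 = s at this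
    interval_cases s <;> simp
  rcases q with q | q <;> omega

theorem nd_QS (h2 : (2 : F) ≠ 0) : H12.Nondeg (QS F n) := by
  intro v hv
  funext i
  have := hv (ev i)
  rw [OB.polar, dotProduct_single, mul_one] at this
  exact (mul_eq_zero.1 this).resolve_left h2

theorem good_QS (h2 : (2 : F) ≠ 0) (hn : 5 ≤ n) : H12.Good (QS F n) := by
  exact H12.good_of_two_ne_zero (nd_QS h2) h2

theorem polar_QS (x y : Fin n → F) : QuadraticMap.polar (QS F n) x y = 2 * (x ⬝ᵥ y) := by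
  exact OB.polar x y

theorem QS_dot (x : Fin n → F) : QS F n x = x ⬝ᵥ x := by
  simp [QS_apply, dotProduct, sq]

theorem rv_mulVec (x y : Fin n → F) : (rv x).val *ᵥ y = y - (2 * (x ⬝ᵥ y) / (x ⬝ᵥ x)) • x := by
  rw [reflGL_mulVec, polar_QS, QS_dot, dotProduct_comm y x, div_eq_inv_mul]

theorem rv_sq (x : Fin n → F) : rv x * rv x = 1 := by
  exact reflGL_mul_self x

theorem rv_smul {c : F} (hc : c ≠ 0) (x : Fin n → F) : rv (c • x) = rv x := by
  exact congrArg (oGL _) (H12.refl_smul hc x)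

theorem rf_val (i : Fin n) : (rf i : GL (Fin n) F).val = diagonal fun k => if k = i then -1 else 1 := by
  refine matrix_ext_mulVec fun y => funext fun k => ?_
  rw [rv_mulVec, mulVec_diagonal]
  by_cases h : k = i
  · subst h; simp; ring
  · simp [h]

theorem Iso.conj {g : GL (Fin n) F} (hg : Iso g) (x : Fin n → F) : g * rv x * g⁻¹ = rv (g.val *ᵥ x) := by
  obtain ⟨k, rfl⟩ := exists_oGL (H12.mem_isometryGroup.2 hg)
  rw [oGL_mulVec, rv, rv, reflGL, reflGL, ← map_inv, ← map_mul, ← map_mul, H12.refl_conj]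

theorem ga_rv {s : GamL (Fin n) F} (hs : s ∈ GS F n) (x : Fin n → F) : ga s (rv x) = rv (gact s x) := by
  exact gam_reflGL hs x

theorem rv_inj (h2 : (2 : F) ≠ 0) {x y : Fin n → F} (hx : QS F n x ≠ 0) (hy : QS F n y ≠ 0) (h : rv x = rv y) :
    ∃ c : F, c ≠ 0 ∧ y = c • x := by
  have e := rv_mulVec x y
  rw [QS_dot] at hy
  rw [h, rv_mulVec, mul_div_cancel_right₀ _ hy, sub_right_inj] at e
  have e' : y = (2⁻¹ * (2 * (x ⬝ᵥ y) / (x ⬝ᵥ x))) • x := by
    rw [mul_smul, ← e, smul_smul, inv_mul_cancel₀ h2, one_smul]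
  refine ⟨_, fun c => hy ?_, e'⟩
  rw [c, zero_smul] at e'
  rw [e', zero_dotProduct]

theorem rv_comm (h2 : (2 : F) ≠ 0) {x y : Fin n → F} (hx : QS F n x ≠ 0) (hy : QS F n y ≠ 0) :
    rv x * rv y = rv y * rv x ↔ rv x = rv y ∨ x ⬝ᵥ y = 0 := by
  have i : Iso (rv x) := H12.mem_isometryGroup.1 (reflGL_mem x)
  rw [← mul_inv_eq_iff_eq_mul, i.conj]
  refine ⟨fun h => or_iff_not_imp_right.2 fun k => ?_, fun h => ?_⟩
  · obtain ⟨c, -, e⟩ := rv_inj h2 hy ((i y).trans_ne hy) h.symm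
    rw [QS_dot] at hx
    have a0 : 2 * (x ⬝ᵥ y) / (x ⬝ᵥ x) ≠ 0 := div_ne_zero (mul_ne_zero h2 k) hx
    rw [rv_mulVec] at e
    generalize 2 * (x ⬝ᵥ y) / (x ⬝ᵥ x) = a at e a0
    have e' : x = (a⁻¹ * (1 - c)) • y := by
      rw [mul_smul, sub_smul, one_smul, ← e, sub_sub_cancel, smul_smul, inv_mul_cancel₀ a0, one_smul]
    rw [e', rv_smul]
    intro c0
    rw [c0, zero_smul] at e'
    exact hx (by rw [e', zero_dotProduct])
  · rcases h with h | h
    · rw [← i.conj, h, mul_inv_cancel_right]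
    · rw [rv_mulVec, h, mul_zero, zero_div, zero_smul, sub_zero]

theorem iso_RG {g : GL (Fin n) F} (hg : g ∈ RG F n) : Iso g := by
  refine H12.mem_isometryGroup.1 ((sup_le (omega_le_iso _) ((closure_le _).2 ?_) :
    RG F n ≤ isometryGroup F (QS F n)) hg)
  rintro _ ⟨i, rfl⟩
  exact reflGL_mem _

theorem rr_mem (h2 : (2 : F) ≠ 0) (hn : 5 ≤ n) {x y : Fin n → F} (hx : QS F n x ≠ 0) (hy : QS F n y ≠ 0) :
    rv x * rv y ∈ OG F n ↔ IsSquare (QS F n x * QS F n y) := by
  exact refl_mul_refl_mem_omega (nd_QS h2) (good_QS h2 hn) hx hy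

theorem mem_RG (h2 : (2 : F) ≠ 0) (hn : 5 ≤ n) (i : Fin n) {g : GL (Fin n) F} :
    g ∈ RG F n ↔ g ∈ OG F n ∨ g * rf i ∈ OG F n := by
  have r : (rf i : GL (Fin n) F) * rf i = 1 := rv_sq _
  have r' : (rf i : GL (Fin n) F)⁻¹ = rf i := reflGL_inv _
  have c : ∀ {h : GL (Fin n) F}, h ∈ OG F n → rf i * h * rf i ∈ OG F n := fun hh => by
    have := OB.conj (reflGL_mem (ev i)) hh
    rwa [r'] at this
  let K : Subgroup (GL (Fin n) F) :=
    { carrier := {g | g ∈ OG F n ∨ g * rf i ∈ OG F n}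
      one_mem' := .inl (one_mem _)
      mul_mem' := by
        rintro a b (ha | ha) (hb | hb)
        · exact .inl (mul_mem ha hb)
        · exact .inr (mul_assoc a b _ ▸ mul_mem ha hb)
        · refine .inr ?_
          have := mul_mem ha (c hb)
          rwa [show a * rf i * (rf i * b * rf i) = a * (rf i * rf i) * b * rf i by simp only [mul_assoc], r,
            mul_one] at this
        · refine .inl ?_
          have := mul_mem ha (c hb)
          rwa [show a * rf i * (rf i * (b * rf i) * rf i) = a * (rf i * rf i) * b * (rf i * rf i) by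
            simp only [mul_assoc], r, mul_one, mul_one] at this
      inv_mem' := by
        rintro a (ha | ha)
        · exact .inl (inv_mem ha)
        · refine .inr ?_
          have := c (inv_mem ha)
          rwa [_root_.mul_inv_rev, r', ← mul_assoc, r, one_mul] at this }
  refine ⟨fun h => (sup_le (fun _ h => .inl h) ((closure_le K).2 ?_) : RG F n ≤ K) h, fun h => ?_⟩
  · rintro _ ⟨j, rfl⟩
    refine .inr ((rr_mem h2 hn ?_ ?_).2 ?_) <;> simp [OB.ev1]
  · rcases h with h | h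
    · exact mem_sup_left h
    · rw [← mul_one g, ← r, ← mul_assoc]
      exact mul_mem (mem_sup_left h) (mem_sup_right (subset_closure ⟨i, rfl⟩))

theorem rv_RG (h2 : (2 : F) ≠ 0) (hn : 5 ≤ n) {x : Fin n → F} (hx : QS F n x = 1) : rv x ∈ RG F n := by
  refine (mem_RG h2 hn ⟨0, by omega⟩).2 (.inr ((rr_mem h2 hn ?_ ?_).2 ?_)) <;> simp [OB.ev1, hx]

theorem det_OG {g : GL (Fin n) F} (hg : g ∈ OG F n) : g.val.det = 1 := by
  exact det_omega hg

theorem neg_OG (h2 : (2 : F) ≠ 0) : (-1 : GL (Fin 6) F) ∈ OG F 6 := by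
  have k : ∀ i j : Fin 6, (rf i * rf j : GL (Fin 6) F) ∈ OG F 6 := fun i j => by
    refine (rr_mem h2 (by norm_num) ?_ ?_).2 ?_ <;> simp [OB.ev1]
  have e : (-1 : GL (Fin 6) F) = rf 0 * rf 1 * (rf 2 * rf 3) * (rf 4 * rf 5) := Units.ext (by
    simp only [Units.val_mul, rf_val, diagonal_mul_diagonal, Units.val_neg, Units.val_one]
    rw [← diagonal_one, diagonal_neg]
    congr 1
    funext i
    fin_cases i <;> simp)
  exact e ▸ mul_mem (mul_mem (k _ _) (k _ _)) (k _ _)

theorem pm_mul (ρ ρ' : Equiv.Perm (Fin n)) : pm F (ρ * ρ') = pm F ρ * pm F ρ' := by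
  refine Units.ext ?_
  change ((ρ * ρ')⁻¹).permMatrix F = (ρ⁻¹).permMatrix F * (ρ'⁻¹).permMatrix F
  rw [_root_.mul_inv_rev, Matrix.permMatrix_mul]

theorem pm_mulVec (ρ : Equiv.Perm (Fin n)) (x : Fin n → F) (i : Fin n) : ((pm F ρ).val *ᵥ x) (ρ i) = x i := by
  change ((ρ⁻¹).permMatrix F *ᵥ x) (ρ i) = x i
  rw [permMatrix_mulVec]
  simp

theorem iso_pm (ρ : Equiv.Perm (Fin n)) : Iso (pm F ρ) := by
  intro x
  rw [QS_apply, QS_apply, ← Equiv.sum_comp ρ]
  simp only [pm_mulVec]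

theorem pm_mem {ρ : Equiv.Perm (Fin n)} (h : Equiv.Perm.sign ρ = 1) : pm F ρ ∈ OG F n := by
  let f : Equiv.Perm (Fin n) →* isometryGroup F (QS F n) := MonoidHom.mk'
    (fun ρ => ⟨pm F ρ, H12.mem_isometryGroup.2 (iso_pm ρ)⟩) fun a b => Subtype.ext (pm_mul a b)
  have k : ρ ∈ commutator (Equiv.Perm (Fin n)) := by
    have : ρ ∈ alternatingGroup (Fin n) := h
    rw [← Equiv.Perm.closure_three_cycles_eq_alternating] at this
    refine (closure_le _).2 (fun g hg => ?_) this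
    rw [commutator_eq_closure]
    refine Subgroup.subset_closure (mem_commutatorSet_of_isConj_sq _ ?_)
    rw [sq]
    exact Equiv.Perm.isConj_iff_cycleType_eq.2
      (hg.cycleType.trans (Equiv.Perm.IsThreeCycle.isThreeCycle_sq hg).cycleType.symm)
  refine ⟨f ρ, ?_, rfl⟩
  have := mem_map_of_mem f k
  rw [_root_.commutator_def, map_commutator] at this
  exact commutator_mono le_top le_top this

theorem pm_rf (ρ : Equiv.Perm (Fin n)) (i : Fin n) : pm F ρ * rf i * (pm F ρ)⁻¹ = rf (ρ i) := by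
  rw [(iso_pm ρ).conj]
  congr 1
  funext k
  obtain ⟨k, rfl⟩ := ρ.surjective k
  rw [pm_mulVec]
  simp [Pi.single_apply]

end H24.T12
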