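import Cfsg.Agent.Lib.A12.Defs2
import Cfsg.Agent.Lib.A12.OB
import Cfsg.Agent.Lib.A12.BAS
/-! Package OB2 of `blueprint/A12/README.md`. -/
set_option autoImplicit false
set_option linter.unusedSectionVars false
set_option linter.unusedVariables false
namespace H24.T12
open Subgroup H1.A10 H45 H69 Gold Cfsg H67 Matrix

variable {G : Type} [Group G] [Finite G] {ι : M →* G} {π : G → B} {F : Type} [Field F] [Fintype F]
  {H L : Subgroup G} {ψ : GL (Fin 6) F → G} {σ : G} {n : ℕ}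
  {J : Type} [Fintype J] [DecidableEq J] {Q : QuadraticForm F (J → F)} {θ : L →* GL J F}

theorem OB2.rf_mem (i : Fin n) : (rf i : GL (Fin n) F) ∈ RG F n := mem_sup_right (subset_closure ⟨i, rfl⟩)

theorem OB2.neg_mem (o : OM H ι F ψ) : (-1 : GL (Fin 6) F) ∈ RG F 6 := mem_sup_left (neg_OG o.q8.two)

/-- the model as a homomorphism -/
noncomputable def OB2.hom (o : OM H ι F ψ) : RG F 6 →* G :=
  MonoidHom.mk' (fun g => ψ g) fun g g' => o.mul _ g.2 _ g'.2

theorem OM.one (o : OM H ι F ψ) : ψ 1 = 1 := by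
  exact map_one (OB2.hom o)

theorem OM.inv (o : OM H ι F ψ) {g : GL (Fin 6) F} (hg : g ∈ RG F 6) : ψ g⁻¹ = (ψ g)⁻¹ := by
  exact map_inv (OB2.hom o) ⟨g, hg⟩

theorem OM.eq (o : OM H ι F ψ) {g g' : GL (Fin 6) F} (hg : g ∈ RG F 6) (hg' : g' ∈ RG F 6) (h : ψ g = ψ g') : g = g' := by
  refine mul_inv_eq_one.1 (o.inj _ (mul_mem hg (inv_mem hg')) ?_)
  rw [o.mul _ hg _ (inv_mem hg'), o.inv hg', h, mul_inv_cancel]

theorem OM.neg (o : OM H ι F ψ) : ψ (-1) = ι z := by
  have e : (-1 : GL (Fin 6) F) = rf 0 * rf 1 * (rf 2 * rf 3) * (rf 4 * rf 5) := Units.ext (by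
    simp only [Units.val_mul, rf_val, diagonal_mul_diagonal, Units.val_neg, Units.val_one]
    rw [← diagonal_one, diagonal_neg]
    congr 1
    funext i
    fin_cases i <;> simp)
  have r := fun i : Fin 6 => OB2.rf_mem (F := F) i
  rw [e, o.mul _ (mul_mem (mul_mem (r _) (r _)) (mul_mem (r _) (r _))) _ (mul_mem (r _) (r _)),
    o.mul _ (mul_mem (r _) (r _)) _ (mul_mem (r _) (r _)), o.mul _ (r _) _ (r _), o.mul _ (r _) _ (r _),
    o.mul _ (r _) _ (r _)]
  simp only [o.rfl, ← map_mul]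
  exact congrArg ι (by decide +kernel)

theorem OM.ptt (o : OM H ι F ψ) (i : Fin 6) :
    -(rf i : GL (Fin 6) F) ∈ RG F 6 ∧ ψ (-(rf i : GL (Fin 6) F)) = ι (tt i.castSucc) := by
  have k : ∀ i : Fin 6, z * dd i.castSucc 6 = tt i.castSucc := by decide +kernel
  rw [← neg_one_mul]
  refine ⟨mul_mem (OB2.neg_mem o) (OB2.rf_mem i), ?_⟩
  rw [o.mul _ (OB2.neg_mem o) _ (OB2.rf_mem i), o.neg, o.rfl, ← map_mul, k]

theorem OM.pdd (o : OM H ι F ψ) (i j : Fin 6) : ψ (rf i * rf j) = ι (dd i.castSucc j.castSucc) := by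
  have k : ∀ i j : Fin 6, dd i.castSucc 6 * dd j.castSucc 6 = dd i.castSucc j.castSucc := by decide +kernel
  rw [o.mul _ (OB2.rf_mem i) _ (OB2.rf_mem j), o.rfl, o.rfl, ← map_mul, k]

theorem OM.cz (o : OM H ι F ψ) : H ≤ 𝐂[ι z] := by
  intro y hy
  have n := OB2.neg_mem o
  have zH : ι z ∈ H := o.neg ▸ o.le _ n
  have k := o.cen _ (mul_mem (mul_mem hy zH) (inv_mem hy)) fun g hg => by
    obtain ⟨s, -, hs⟩ := o.act _ (inv_mem hy)
    obtain ⟨h1, h2⟩ := hs g hg
    have c : ι z * ψ (ga s g) = ψ (ga s g) * ι z := by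
      rw [← o.neg, ← o.mul _ n _ h1, ← o.mul _ h1 _ n, neg_one_mul, mul_neg_one]
    rw [← h2] at c
    calc y * ι z * y⁻¹ * ψ g = y * (ι z * (y⁻¹ * ψ g * y⁻¹⁻¹)) * y⁻¹ := by group
      _ = ψ g * (y * ι z * y⁻¹) := by rw [c]; group
  rw [mem_centralizer_singleton_iff]
  rcases k with k | k
  · rw [conj_eq_one_iff.1 k, mul_one, one_mul]
  · exact mul_inv_eq_iff_eq_mul.1 k

theorem OM.pa (o : OM H ι F ψ) {ρ : Equiv.Perm (Fin 6)} (h : Equiv.Perm.sign ρ = 1) {ρ' : Equiv.Perm (Fin 7)}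
    (e : ∀ i, ρ' i.castSucc = (ρ i).castSucc) : PA ι (ψ (pm F ρ)) ρ' := by
  have m : pm F ρ ∈ RG F 6 := mem_sup_left (pm_mem h)
  intro i
  induction i using Fin.lastCases with
  | last =>
    have l : ρ' (Fin.last 6) = Fin.last 6 := by
      by_contra c
      obtain ⟨k, hk⟩ := Fin.exists_castSucc_eq.2 c
      obtain ⟨k, rfl⟩ := ρ.surjective k
      exact Fin.castSucc_ne_last k (ρ'.injective ((e k).trans hk))
    rw [l]
    exact (Cj.of_cent (o.cz (o.le _ m))).congr tt6.symm tt6.symm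
  | cast i =>
    rw [e, Cj, ← (o.ptt i).2, ← (o.ptt (ρ i)).2, ← o.inv m, ← o.mul _ m _ (o.ptt i).1,
      ← o.mul _ (mul_mem m (o.ptt i).1) _ (inv_mem m), mul_neg, neg_mul, pm_rf]

theorem OM.pa' (o : OM H ι F ψ) {ρ' : Equiv.Perm (Fin 7)} (h : Equiv.Perm.sign ρ' = 1) (e : ρ' 6 = 6) :
    ∃ ρ : Equiv.Perm (Fin 6), Equiv.Perm.sign ρ = 1 ∧ (∀ i, ρ' i.castSucc = (ρ i).castSucc) ∧ PA ι (ψ (pm F ρ)) ρ' := by
  let σ : Equiv.Perm (Option (Fin 6)) := finSuccEquivLast.permCongr ρ'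
  have h0 : σ none = none := by
    rw [Equiv.permCongr_apply, finSuccEquivLast_symm_none]
    exact (congrArg finSuccEquivLast e).trans finSuccEquivLast_last
  have h1 : (Equiv.removeNone σ).optionCongr = σ := by
    rw [map_equiv_removeNone, h0, Equiv.swap_self]; rfl
  have h2 : Equiv.Perm.sign (Equiv.removeNone σ) = 1 := by
    rw [← Equiv.optionCongr_sign, h1, Equiv.Perm.sign_permCongr, h]
  have h3 : ∀ i, ρ' i.castSucc = (Equiv.removeNone σ i).castSucc := fun i => by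
    have k : σ (some i) = some (Equiv.removeNone σ i) := by
      conv_lhs => rw [← h1]
      rfl
    rw [Equiv.permCongr_apply, finSuccEquivLast_symm_some, Equiv.apply_eq_iff_eq_symm_apply,
      finSuccEquivLast_symm_some] at k
    exact k
  exact ⟨_, h2, h3, o.pa h2 h3⟩

theorem OM.fu (o : OM H ι F ψ) : Fu ι (m 53 0) z4 := by
  have k := o.pa (ρ := Equiv.swap 1 4 * Equiv.swap 3 5) (by simp) (ρ' := Equiv.swap 1 4 * Equiv.swap 3 5)
    (by decide)
  exact ⟨_, (((k 0).mul (k 2)).mul ((k 4).mul (k 5))).congr (by decide +kernel) (by decide +kernel)⟩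

theorem not_PI (s : Sy ι) (h : Fu ι (m 53 0) z4) : ¬ PI ι := by
  intro p
  have e : a (v 53) = m 53 0 := by decide +kernel
  exact nf4 s (h.symm.trans (e ▸ p (v 53) (by decide +kernel)))

theorem OM.diag (o : OM H ι F ψ) {g : GL (Fin 6) F} (hg : Iso g) (h : ∀ i, g * rf i = rf i * g) :
    g ∈ RG F 6 ∧ ∃ u, ψ g = ι (a u) := by
  classical
  have key : ∀ (S : Finset (Fin 6)) (g : GL (Fin 6) F), (g.val = diagonal fun k => if k ∈ S then -1 else 1) →
      g ∈ RG F 6 ∧ ∃ u, ψ g = ι (a u) := fun S => by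
    induction S using Finset.induction_on with
    | empty =>
      intro g e
      obtain rfl : g = 1 := Units.ext (by simpa using e)
      exact ⟨one_mem _, 0, by rw [o.one, a_zero, map_one]⟩
    | insert i S hi ih =>
      intro g e
      obtain ⟨h1, u, h2⟩ := ih (rf i * g) (by
        rw [Units.val_mul, rf_val, e, diagonal_mul_diagonal]
        congr 1
        funext k
        by_cases c : k = i
        · simp [c, hi]
        · simp [c])
      have e' : g = rf i * (rf i * g) := by rw [← mul_assoc, rv_sq, one_mul]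
      refine ⟨e' ▸ mul_mem (OB2.rf_mem i) h1, pt i.castSucc + pt 6 + u, ?_⟩
      rw [e', o.mul _ (OB2.rf_mem i) _ h1, o.rfl, h2, a_add _ u, map_mul, dd]
  have off : ∀ j k, j ≠ k → g.val j k = 0 := fun j k ne => by
    have e := congrArg (fun x : GL (Fin 6) F => x.val j k) (h k)
    simp only [Units.val_mul, rf_val, mul_diagonal, diagonal_mul, if_true, if_neg ne] at e
    refine (mul_eq_zero.1 (?_ : 2 * g.val j k = 0)).resolve_left o.q8.two
    linear_combination -e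
  have on : ∀ i, g.val i i = 1 ∨ g.val i i = -1 := fun i => by
    have e := hg (ev i)
    rw [OB.ev1, QS_apply, Finset.sum_eq_single i (fun k _ ne => by simp [off k i ne]) (by simp)] at e
    simpa [sq, mul_self_eq_one_iff] using e
  refine key (Finset.univ.filter fun i => g.val i i = -1) g (Matrix.ext fun j k => ?_)
  by_cases c : j = k
  · subst c
    rw [diagonal_apply_eq]
    by_cases d : g.val j j = -1
    · simp [d]
    · simp [d, (on j).resolve_right d]
  · rw [diagonal_apply_ne _ c, off j k c]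

theorem OM.fratt (s : Sy ι) (o : OM H ι F ψ) {y : G} (hy : y ∈ H) : ∃ g ∈ RG F 6, y * ψ g ∈ NE ι := by
  haveI : Fact (Nat.Prime 2) := ⟨Nat.prime_two⟩
  have h1 : ι.range ≤ (OB2.hom o).range := by
    rintro _ ⟨x, rfl⟩
    obtain ⟨g, hg, e⟩ := o.sur x
    exact ⟨⟨g, hg⟩, e⟩
  have h2 : y ∈ 𝐍((OB2.hom o).range) := by
    refine mem_normalizer_of_cj_le fun x hx => ?_
    obtain ⟨_, ⟨g, rfl⟩, rfl⟩ := mem_cj'.1 hx
    obtain ⟨s, -, hs⟩ := o.act y hy
    exact ⟨⟨_, (hs g g.2).1⟩, (hs g g.2).2.symm⟩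
  obtain ⟨b, hb, k, hk, e⟩ := (s.syl.mono h1 le_top).frattini' h2
  obtain ⟨g, hg⟩ := inv_mem hk
  refine ⟨g, g.2, wcE s fun x _ => ?_⟩
  have e' : y * ψ g = b := by rw [show ψ g = k⁻¹ from hg, e, mul_inv_cancel_right]
  obtain ⟨x', hx'⟩ := (mem_normalizer_iff.1 hb (ι x)).1 ⟨x, Eq.refl _⟩
  exact ⟨x', by rw [e']; exact hx'.symm⟩

end H24.T12
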