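import Cfsg.Agent.Lib.A12.Defs2
import Cfsg.Agent.Lib.A12.OB2
/-! Package MO of `blueprint/A12/README.md`. -/
set_option autoImplicit false
set_option linter.unusedSectionVars false
namespace H24.T12
open Subgroup H1.A10 H45 H69 Gold Cfsg H67 Matrix

variable {G : Type} [Group G] [Finite G] {ι : M →* G} {π : G → B} {F : Type} [Field F] [Fintype F]
  {H L : Subgroup G} {ψ : GL (Fin 6) F → G} {σ : G} {n : ℕ}
  {J : Type} [Fintype J] [DecidableEq J] {Q : QuadraticForm F (J → F)} {θ : L →* GL J F}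

namespace MO

theorem quad (h2 : (2 : F) ≠ 0) {A C : F} (hA : A ≠ 0) (hB : C ≠ 0) (t : F) : ∃ x y, A * x ^ 2 + C * y ^ 2 = t := by
  obtain ⟨x, y, e⟩ := FiniteField.exists_root_sum_quadratic (f := Polynomial.C A * Polynomial.X ^ 2)
    (g := Polynomial.C C * Polynomial.X ^ 2 - Polynomial.C t) (Polynomial.degree_C_mul_X_pow 2 hA)
    (by
      rw [Polynomial.degree_sub_C (by rw [Polynomial.degree_C_mul_X_pow 2 hB]; decide)]
      exact Polynomial.degree_C_mul_X_pow 2 hB)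
    (FiniteField.odd_card_of_char_ne_two fun h => h2 (by
      have := ringChar.spec F 2
      rw [h] at this
      exact_mod_cast this.2 dvd_rfl))
  refine ⟨x, y, ?_⟩
  simp only [Polynomial.eval_mul, Polynomial.eval_C, Polynomial.eval_pow, Polynomial.eval_X, Polynomial.eval_sub] at e
  linear_combination e

/-- a vector supported on four coordinates -/
def v4 (k l p q : Fin 6) (x y u t : F) : Fin 6 → F :=
  fun i => if i = k then x else if i = l then y else if i = p then u else if i = q then t else 0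

theorem eqns_v4 : True := by have := @v4.eq_1; trivial

theorem v4_dot {k l p q : Fin 6} (kl : k ≠ l) (kp : k ≠ p) (kq : k ≠ q) (lp : l ≠ p) (lq : l ≠ q) (pq : p ≠ q)
    (x y u t : F) (f : Fin 6 → F) : f ⬝ᵥ v4 k l p q x y u t = f k * x + f l * y + f p * u + f q * t := by
  have e : v4 k l p q x y u t = Pi.single k x + Pi.single l y + Pi.single p u + Pi.single q t := by
    ext i
    simp only [v4, Pi.add_apply, Pi.single_apply]
    split_ifs <;> simp_all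
  rw [e]
  simp only [dotProduct_add, dotProduct_single]

theorem two4 : ∀ i j k l : Fin 6, ∃ p q : Fin 6, p ≠ q ∧ (p ≠ i ∧ p ≠ j ∧ p ≠ k ∧ p ≠ l) ∧ q ≠ i ∧ q ≠ j ∧ q ≠ k ∧ q ≠ l := by
  decide +kernel

theorem QS_ev (i : Fin 6) : QS F 6 (ev i) = 1 := by
  rw [QS_dot, dotProduct_single, mul_one]; exact Pi.single_eq_same _ _

theorem rf_RG (i : Fin 6) : (rf i : GL (Fin 6) F) ∈ RG F 6 := mem_sup_right (subset_closure ⟨i, rfl⟩)

theorem neg_RG (o : OM H ι F ψ) : (-1 : GL (Fin 6) F) ∈ RG F 6 := mem_sup_left (neg_OG o.q8.two)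

theorem rf_eq (o : OM H ι F ψ) (k : Fin 6) : ψ (rf k) = ι z * ι (tt k.castSucc) := by
  rw [← (o.ptt k).2, ← o.neg, ← o.mul _ (neg_RG o) _ (o.ptt k).1]
  simp

theorem tt_eq (o : OM H ι F ψ) (k : Fin 6) : ι (tt k.castSucc) = ι z * ψ (rf k) := by
  rw [← (o.ptt k).2, ← o.neg, ← o.mul _ (neg_RG o) _ (rf_RG k)]
  simp

theorem cm_mul {y u v : G} (hu : y * u = u * y) (hv : y * v = v * y) : y * (u * v) = u * v * y := by
  rw [← mul_assoc, hu, mul_assoc, hv, mul_assoc]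

theorem cz (o : OM H ι F ψ) {y : G} (hy : y ∈ H) : y * ι z = ι z * y := mem_centralizer_singleton_iff.1 (o.cz hy)

theorem gact_eq (s : GamL (Fin 6) F) {c : Fin 6 → F} (h : ∀ i, gact s (ev i) = c i • ev i) (x : Fin 6 → F) (i : Fin 6) :
    gact s x i = s.right (x i) * c i := by
  let f : (Fin 6 → F) →+ (Fin 6 → F) := AddMonoidHom.mk' (gact s) (gact_add s)
  have e : x = ∑ l, x l • ev l := by
    ext l; simp [Finset.sum_apply, Pi.single_apply]
  have e2 : gact s x = ∑ l, s.right (x l) • c l • ev l := by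
    conv_lhs => rw [e]
    rw [show gact s (∑ l, x l • ev l) = f (∑ l, x l • ev l) from rfl, map_sum]
    refine Finset.sum_congr rfl fun l _ => ?_
    rw [show f (x l • ev l) = gact s (x l • ev l) from rfl, gact_smul, h]
  rw [e2]
  simp [Finset.sum_apply, Pi.single_apply]

theorem sgn {a b : F} (h : a ^ 2 = b ^ 2) (i : Fin 6) : ∃ d : GL (Fin 6) F, (d = 1 ∨ d = rf i) ∧
    ∃ ε : F, a = ε * b ∧ d.val = diagonal fun l => if l = i then ε else 1 := by
  rcases sq_eq_sq_iff_eq_or_eq_neg.1 h with e | e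
  · exact ⟨1, Or.inl rfl, 1, by rw [e, one_mul], by simp⟩
  · exact ⟨rf i, Or.inr rfl, -1, by rw [e]; ring, rf_val i⟩

theorem minimal {X : Subgroup G} (hX : X ≠ ⊥) {κ : Type} (r : κ → G) (r2 : ∀ k, r k * r k = 1)
    (rc : ∀ k l, r k * r l = r l * r k) (hn : ∀ k, r k ∈ 𝐍(X)) :
    ∃ g ∈ X, g ≠ 1 ∧ ∀ k, r k * g * (r k)⁻¹ = g ∨ r k * g * (r k)⁻¹ = g⁻¹ := by
  obtain ⟨Z, ⟨h1, h2, h3⟩, hm⟩ := (wellFounded_lt (α := Subgroup G)).has_min
    {Z | Z ≤ X ∧ Z ≠ ⊥ ∧ ∀ k, r k ∈ 𝐍(Z)} ⟨X, le_rfl, hX, hn⟩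
  obtain ⟨⟨g, hg⟩, g1⟩ := ne_bot_iff_exists_ne_one.1 h2
  refine ⟨g, h1 hg, fun e => g1 (Subtype.ext e), fun k => ?_⟩
  by_cases e : Z ⊓ 𝐂[r k] = ⊥
  · right
    let f : Z → Z := fun x => ⟨x⁻¹ * (r k * x * (r k)⁻¹),
      mul_mem (inv_mem x.2) (conj_mem_of_mem_normalizer (h3 k) x.2)⟩
    have inj : Function.Injective f := fun x y exy => by
      have e1 : (x : G)⁻¹ * (r k * x * (r k)⁻¹) = (y : G)⁻¹ * (r k * y * (r k)⁻¹) := congrArg Subtype.val exy
      have m : (y : G) * (x : G)⁻¹ ∈ Z ⊓ 𝐂[r k] := mem_inf.2 ⟨mul_mem y.2 (inv_mem x.2), mem_centralizer_singleton_iff.2 (by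
        calc (y : G) * (x : G)⁻¹ * r k = y * ((x : G)⁻¹ * (r k * x * (r k)⁻¹)) * r k * (x : G)⁻¹ := by group
          _ = _ := by rw [e1]; group)⟩
      rw [e, mem_bot] at m
      exact Subtype.ext (mul_inv_eq_one.1 m).symm
    obtain ⟨x, ex⟩ := Finite.injective_iff_surjective.1 inj ⟨g, hg⟩
    have e1 : (x : G)⁻¹ * (r k * x * (r k)⁻¹) = g := congrArg Subtype.val ex
    rw [← e1]
    calc r k * ((x : G)⁻¹ * (r k * x * (r k)⁻¹)) * (r k)⁻¹
        = r k * (x : G)⁻¹ * (r k)⁻¹ * (r k * r k) * x * (r k * r k)⁻¹ := by group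
      _ = _ := by rw [r2]; group
  · left
    have n1 : ∀ l, r l ∈ 𝐍(Z ⊓ 𝐂[r k]) := fun l => mem_normalizer_of_cj_le fun x hx => by
      obtain ⟨u, hu, rfl⟩ := mem_cj'.1 hx
      obtain ⟨u1, u2⟩ := mem_inf.1 hu
      refine mem_inf.2 ⟨conj_mem_of_mem_normalizer (h3 l) u1, ?_⟩
      have c1 : r l ∈ 𝐂[r k] := mem_centralizer_singleton_iff.2 (rc l k)
      exact mul_mem (mul_mem c1 u2) (inv_mem c1)
    have e2 : Z ⊓ 𝐂[r k] = Z := eq_of_le_of_not_lt inf_le_left (hm _ ⟨inf_le_left.trans h1, e, n1⟩)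
    have c1 : g ∈ 𝐂[r k] := (e2.ge hg).2
    rw [← mem_centralizer_singleton_iff.1 c1]; group

theorem odd_sq {X : Subgroup G} (hX : OddS X) {g : G} (hg : g ∈ X) (h : g * g = 1) : g = 1 := by
  by_contra e
  refine hX ?_
  rw [← orderOf_eq_prime (p := 2) (by rw [pow_two, h]) e]
  exact X.orderOf_dvd_natCard hg

theorem v4_v4 {k l p q : Fin 6} (kl : k ≠ l) (kp : k ≠ p) (kq : k ≠ q) (lp : l ≠ p) (lq : l ≠ q) (pq : p ≠ q)
    (x y u t x' y' u' t' : F) :
    v4 k l p q x y u t ⬝ᵥ v4 k l p q x' y' u' t' = x * x' + y * y' + u * u' + t * t' := by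
  rw [v4_dot kl kp kq lp lq pq]
  simp only [v4, if_true, if_neg kl.symm, if_neg kp.symm, if_neg kq.symm, if_neg lp.symm, if_neg lq.symm,
    if_neg pq.symm]

theorem tr_mul (h2 : (2 : F) ≠ 0) {g : GL (Fin 6) F} (hg : Iso g) : g.valᵀ * g.val = 1 := by
  have dot : ∀ x y, (g.val *ᵥ x) ⬝ᵥ (g.val *ᵥ y) = x ⬝ᵥ y := fun x y => by
    have e := hg (x + y)
    have e1 := hg x
    have e2 := hg y
    simp only [QS_dot, mulVec_add, add_dotProduct, dotProduct_add] at e e1 e2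
    rw [dotProduct_comm (g.val *ᵥ y), dotProduct_comm y] at e
    exact mul_left_cancel₀ h2 (by linear_combination e - e1 - e2)
  ext k l
  have e := dot (ev k) (ev l)
  rw [mulVec_single_one, mulVec_single_one, dotProduct_single, mul_one] at e
  rw [one_apply]
  refine Eq.trans ?_ (e.trans ?_)
  · rfl
  · simp [Pi.single_apply, eq_comm]

theorem ent (c : Fin 6) (g : GL (Fin 6) F) (k l : Fin 6) : (rf c * g * (rf c)⁻¹ : GL (Fin 6) F).val k l =
    (if k = c then -1 else 1) * g.val k l * (if l = c then -1 else 1) := by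
  rw [inv_eq_of_mul_eq_one_right (rv_sq _), Units.val_mul, Units.val_mul, rf_val, mul_diagonal, diagonal_mul]

theorem cen0 (h2 : (2 : F) ≠ 0) {c : Fin 6} {g : GL (Fin 6) F} (h : rf c * g * (rf c)⁻¹ = g) {k : Fin 6} (kc : k ≠ c) :
    g.val k c = 0 ∧ g.val c k = 0 := by
  have e1 := ent c g k c
  have e2 := ent c g c k
  rw [h, if_neg kc, if_pos rfl] at e1 e2
  exact ⟨mul_left_cancel₀ h2 (by linear_combination e1), mul_left_cancel₀ h2 (by linear_combination e2)⟩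

theorem cen1 (h2 : (2 : F) ≠ 0) {c : Fin 6} {g : GL (Fin 6) F} (hg : Iso g) (h : rf c * g * (rf c)⁻¹ = g) :
    (g * g).val c c = 1 := by
  have e := congrFun (congrFun (tr_mul h2 hg) c) c
  rw [one_apply_eq] at e
  rw [← e, Units.val_mul, mul_apply, mul_apply]
  refine Finset.sum_congr rfl fun k _ => ?_
  by_cases kc : k = c
  · rw [kc, transpose_apply]
  · rw [(cen0 h2 h kc).1, mul_zero, mul_zero]

theorem rot (h2 : (2 : F) ≠ 0) {i j : Fin 6} {g : GL (Fin 6) F} (hg : Iso g) (g2 : g * g ≠ 1)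
    (h : ∀ c, (rf c * g * (rf c)⁻¹ = g ∧ g.val c c = 1) ∨ rf c * g * (rf c)⁻¹ = g⁻¹)
    (hi : rf i * g * (rf i)⁻¹ = g) (hj : rf j * g * (rf j)⁻¹ = g) :
    ∃ x, QS F 6 x = 1 ∧ x i = 0 ∧ x j = 0 ∧ (g.val *ᵥ x) ⬝ᵥ x = 0 := by
  have tr := tr_mul h2 hg
  have gi : (g⁻¹).val = g.valᵀ := Units.inv_eq_of_mul_eq_one_left tr
  obtain ⟨k, l, kl, nz⟩ : ∃ k l, k ≠ l ∧ g.val k l ≠ 0 := by
    by_contra n
    push Not at n
    refine g2 (Units.ext ?_)
    have : g.valᵀ = g.val := by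
      ext k l
      by_cases e : k = l
      · rw [e, transpose_apply]
      · rw [transpose_apply, n k l e, n l k (Ne.symm e)]
    rw [Units.val_mul, Units.val_one, ← tr, this]
  have nk : rf k * g * (rf k)⁻¹ ≠ g := fun e => nz (cen0 h2 e kl.symm).2
  have nl : rf l * g * (rf l)⁻¹ ≠ g := fun e => nz (cen0 h2 e kl).1
  have as : g.val l k = -g.val k l := by
    have e := ent k g k l
    rw [((h k).resolve_left fun e => nk e.1), gi, if_pos rfl, if_neg kl.symm, transpose_apply] at e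
    linear_combination e
  have oth : ∀ c, c ≠ k → c ≠ l → rf c * g * (rf c)⁻¹ = g ∧ g.val c c = 1 := fun c ck cl => by
    refine (h c).resolve_right fun e => nz ?_
    have e1 := ent c g k l
    rw [e, gi, if_neg ck.symm, if_neg cl.symm, transpose_apply] at e1
    exact mul_left_cancel₀ h2 (by linear_combination as - e1)
  obtain ⟨p, q, pq, ⟨p1, p2, p3, p4⟩, q1, q2, q3, q4⟩ := two4 i j k l
  have dd := v4_v4 (F := F) kl p3.symm q3.symm p4.symm q4.symm pq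
  have act : ∀ x y u t : F, g.val *ᵥ v4 k l p q x y u t =
      v4 k l p q (g.val k k * x + g.val k l * y) (-g.val k l * x + g.val l l * y) u t := fun x y u t => by
    ext c
    rw [mulVec, v4_dot kl p3.symm q3.symm p4.symm q4.symm pq]
    have z1 := fun c (e : c ≠ p) => (cen0 h2 (oth p p3 p4).1 e).1
    have z2 := fun c (e : c ≠ q) => (cen0 h2 (oth q q3 q4).1 e).1
    by_cases ck : c = k
    · subst ck
      simp only [v4, if_true, z1 c p3.symm, z2 c q3.symm]; ring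
    by_cases cl : c = l
    · subst cl
      simp only [v4, if_true, if_neg ck, z1 c p4.symm, z2 c q4.symm, as]; ring
    have z3 := (cen0 h2 (oth c ck cl).1 (Ne.symm ck)).2
    have z4 := (cen0 h2 (oth c ck cl).1 (Ne.symm cl)).2
    by_cases cp : c = p
    · subst cp
      simp only [v4, if_true, if_neg ck, if_neg cl, z3, z4, z2 c pq, (oth c ck cl).2]; ring
    by_cases cq : c = q
    · subst cq
      simp only [v4, if_true, if_neg ck, if_neg cl, if_neg cp, z3, z4, z1 c cp, (oth c ck cl).2]; ring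
    simp only [v4, if_neg ck, if_neg cl, if_neg cp, if_neg cq, z3, z4, z1 c cp, z2 c cq]; ring
  have n1 := hg (v4 k l p q 1 0 0 0)
  have n2 := hg (v4 k l p q 0 1 0 0)
  rw [act, QS_dot, QS_dot, dd, dd] at n1 n2
  have a1 : 1 - g.val k k ≠ 0 := fun e => nz (pow_eq_zero_iff two_ne_zero |>.1 (by
    linear_combination n1 + (1 + g.val k k) * e))
  have a2 : 1 - g.val l l ≠ 0 := fun e => nz (pow_eq_zero_iff two_ne_zero |>.1 (by
    linear_combination n2 + (1 + g.val l l) * e))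
  obtain ⟨x, y, e1⟩ := quad h2 a1 a2 1
  obtain ⟨u, t, e2⟩ := quad h2 one_ne_zero one_ne_zero (1 - x ^ 2 - y ^ 2)
  have ik : i ≠ k := fun e => nk (e ▸ hi)
  have il : i ≠ l := fun e => nl (e ▸ hi)
  have jk : j ≠ k := fun e => nk (e ▸ hj)
  have jl : j ≠ l := fun e => nl (e ▸ hj)
  refine ⟨v4 k l p q x y u t, ?_, ?_, ?_, ?_⟩
  · rw [QS_dot, dd]; linear_combination e2
  · simp only [v4, if_neg ik, if_neg il, if_neg p1.symm, if_neg q1.symm]
  · simp only [v4, if_neg jk, if_neg jl, if_neg p2.symm, if_neg q2.symm]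
  · rw [act, dd]; linear_combination e2 - e1

end MO

theorem OM.semi (o : OM H ι F ψ) {i j : Fin 6} (ij : i ≠ j) {y : G} (hy : y ∈ H) (hi : y ∈ 𝐂[ι (tt i.castSucc)])
    (hj : y ∈ 𝐂[ι (tt j.castSucc)]) (k : Fin 6) (ki : k ≠ i) (kj : k ≠ j) (hk : y ∈ 𝐂[ι (tt k.castSucc)])
    (h : ∀ x, QS F 6 x = 1 → x i = 0 → x j = 0 → y * ψ (rv x * rf k) = ψ (rv x * rf k) * y) :
    ∃ e ∈ closure {ι z, ι (tt i.castSucc), ι (tt j.castSucc)}, y = e := by
  have h2 := o.q8.two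
  have crf : ∀ l : Fin 6, y ∈ 𝐂[ι (tt l.castSucc)] → y * ψ (rf l) = ψ (rf l) * y := fun l hl => by
    rw [MO.rf_eq o]
    exact MO.cm_mul (MO.cz o hy) (mem_centralizer_singleton_iff.1 hl)
  have crv : ∀ x, QS F 6 x = 1 → x i = 0 → x j = 0 → y * ψ (rv x) = ψ (rv x) * y := fun x hx xi xj => by
    have e : ψ (rv x) = ψ (rv x * rf k) * ψ (rf k) := by
      rw [← o.mul _ (mul_mem (rv_RG h2 (by norm_num) hx) (MO.rf_RG k)) _ (MO.rf_RG k), mul_assoc, rv_sq, mul_one]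
    rw [e]
    exact MO.cm_mul (h x hx xi xj) (crf k hk)
  obtain ⟨s, hs, act⟩ := o.act y hy
  obtain ⟨c, hc⟩ := mem_GamO.1 hs
  have line : ∀ x, QS F 6 x = 1 → y * ψ (rv x) = ψ (rv x) * y → ∃ μ : F, gact s x = μ • x := fun x hx e => by
    have m := rv_RG h2 (by norm_num) hx
    obtain ⟨m', e'⟩ := act _ m
    rw [e, mul_inv_cancel_right] at e'
    have e2 := o.eq m m' e'
    rw [ga_rv hs] at e2
    obtain ⟨μ, -, e3⟩ := rv_inj h2 (by rw [hx]; exact one_ne_zero)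
      (by rw [hc, hx, map_one, mul_one]; exact c.ne_zero) e2
    exact ⟨μ, e3⟩
  have base : ∀ l, ∃ μ : F, gact s (ev l) = μ • ev l := fun l => by
    refine line _ (MO.QS_ev l) ?_
    by_cases li : l = i
    · subst li; exact crf _ hi
    by_cases lj : l = j
    · subst lj; exact crf _ hj
    exact crv _ (MO.QS_ev l) (Pi.single_eq_of_ne (Ne.symm li) _) (Pi.single_eq_of_ne (Ne.symm lj) _)
  choose lam hl using base
  have sq : ∀ l, lam l ^ 2 = c := fun l => by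
    have := hc (ev l)
    rw [hl, MO.QS_ev, map_one, mul_one, QuadraticMap.map_smul, MO.QS_ev, smul_eq_mul, mul_one] at this
    rw [← this, pow_two]
  have lk : lam k ≠ 0 := fun e => c.ne_zero (by rw [← sq k, e]; ring)
  have key : ∀ l, l ≠ i → l ≠ j → l ≠ k → ∀ t : F, s.right t * lam l = lam k * t := fun l li lj lk' t => by
    obtain ⟨p, q, pq, ⟨p1, p2, p3, p4⟩, q1, q2, q3, q4⟩ := MO.two4 i j k l
    obtain ⟨u, w, e⟩ := MO.quad h2 one_ne_zero one_ne_zero (-t ^ 2)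
    have hx : QS F 6 (MO.v4 k l p q 1 t u w) = 1 := by
      rw [QS_dot, MO.v4_dot lk'.symm p3.symm q3.symm p4.symm q4.symm pq]
      simp only [MO.v4, if_true, if_neg lk', if_neg p3, if_neg p4, if_neg q3, if_neg q4, if_neg pq.symm]
      linear_combination e
    obtain ⟨μ, eμ⟩ := line _ hx (crv _ hx
      (by simp only [MO.v4, if_neg ki.symm, if_neg li.symm, if_neg p1.symm, if_neg q1.symm])
      (by simp only [MO.v4, if_neg kj.symm, if_neg lj.symm, if_neg p2.symm, if_neg q2.symm]))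
    have a1 := MO.gact_eq s hl (MO.v4 k l p q 1 t u w) k
    have a2 := MO.gact_eq s hl (MO.v4 k l p q 1 t u w) l
    rw [eμ] at a1 a2
    simp only [MO.v4, Pi.smul_apply, smul_eq_mul, if_true, if_neg lk', map_one, mul_one, one_mul] at a1 a2
    rw [← a2, a1]
  have eq1 : ∀ l, l ≠ i → l ≠ j → lam l = lam k := fun l li lj => by
    by_cases e : l = k
    · rw [e]
    · simpa using key l li lj e 1
  have s1 : ∀ t : F, s.right t = t := fun t => by
    obtain ⟨p, -, -, ⟨p1, p2, p3, -⟩, -⟩ := MO.two4 i j k k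
    have := key p p1 p2 p3 t
    rw [eq1 p p1 p2, mul_comm] at this
    exact mul_left_cancel₀ lk this
  obtain ⟨d1, hd1, ε1, a1, v1⟩ := MO.sgn ((sq i).trans (sq k).symm) i
  obtain ⟨d2, hd2, ε2, a2, v2⟩ := MO.sgn ((sq j).trans (sq k).symm) j
  have gs : ∀ x, gact s x = lam k • ((d1 * d2).val *ᵥ x) := fun x => by
    ext l
    rw [MO.gact_eq s hl, s1, Units.val_mul, v1, v2, diagonal_mul_diagonal, Pi.smul_apply, mulVec_diagonal, smul_eq_mul]
    by_cases li : l = i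
    · subst li; rw [if_pos _root_.rfl, if_neg ij, a1]; ring
    by_cases lj : l = j
    · subst lj; rw [if_pos _root_.rfl, if_neg li, a2]; ring
    rw [if_neg li, if_neg lj, eq1 l li lj]; ring
  have ga1 : ∀ g, ga s g = d1 * d2 * g * (d1 * d2)⁻¹ := fun g => by
    rw [eq_mul_inv_iff_mul_eq]
    refine Units.ext (Matrix.ext_of_mulVec_single fun l => ?_)
    have := gamAut_gact s g (Pi.single l 1)
    rw [gs, gs, mulVec_smul, mulVec_mulVec, mulVec_mulVec] at this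
    exact smul_right_injective _ lk this
  have cl : ∀ (l : Fin 6) (d : GL (Fin 6) F), (d = 1 ∨ d = rf l) →
      ι (tt l.castSucc) ∈ closure {ι z, ι (tt i.castSucc), ι (tt j.castSucc)} →
      d ∈ RG F 6 ∧ ψ d ∈ closure {ι z, ι (tt i.castSucc), ι (tt j.castSucc)} := by
    rintro l d (rfl | rfl) m
    · exact ⟨one_mem _, by rw [o.one]; exact one_mem _⟩
    · exact ⟨MO.rf_RG l, by rw [MO.rf_eq o]; exact mul_mem (subset_closure (by simp)) m⟩
  obtain ⟨m1, c1⟩ := cl i d1 hd1 (subset_closure (by simp))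
  obtain ⟨m2, c2⟩ := cl j d2 hd2 (subset_closure (by simp))
  have m3 := mul_mem m1 m2
  have c3 : ψ (d1 * d2) ∈ closure {ι z, ι (tt i.castSucc), ι (tt j.castSucc)} := by
    rw [o.mul _ m1 _ m2]; exact mul_mem c1 c2
  have := o.cen ((ψ (d1 * d2))⁻¹ * y) (mul_mem (inv_mem (o.le _ m3)) hy) fun g hg => by
    have e := (act g hg).2
    rw [ga1, o.mul _ (mul_mem m3 hg) _ (inv_mem m3), o.mul _ m3 _ hg, o.inv m3] at e
    calc (ψ (d1 * d2))⁻¹ * y * ψ g = (ψ (d1 * d2))⁻¹ * (y * ψ g * y⁻¹) * y := by group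
      _ = _ := by rw [e]; group
  refine ⟨y, ?_, _root_.rfl⟩
  rcases this with e | e
  · rw [← inv_mul_eq_one.1 e]; exact c3
  · rw [inv_mul_eq_iff_eq_mul.1 e]; exact mul_mem c3 (subset_closure (by simp))

theorem OM.l2 (o : OM H ι F ψ) {i j : Fin 7} (ij : i ≠ j) (hi : i ≠ 6) (hj : j ≠ 6) :
    Od (H ⊓ 𝐂[ι (tt i)] ⊓ 𝐂[ι (tt j)]) ≤ ⊥ := by
  obtain ⟨i, rfl⟩ := Fin.exists_castSucc_eq.2 hi
  obtain ⟨j, rfl⟩ := Fin.exists_castSucc_eq.2 hj
  have ij' : i ≠ j := fun e => ij (by rw [e])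
  have h2 := o.q8.two
  have u0 : ∀ {x : Fin 6 → F}, QS F 6 x = 1 → QS F 6 x ≠ 0 := fun e => by rw [e]; exact one_ne_zero
  have hO := Od_odd (H ⊓ 𝐂[ι (tt i.castSucc)] ⊓ 𝐂[ι (tt j.castSucc)])
  have hL := Od_le (H ⊓ 𝐂[ι (tt i.castSucc)] ⊓ 𝐂[ι (tt j.castSucc)])
  have hN := le_norm_Od (H ⊓ 𝐂[ι (tt i.castSucc)] ⊓ 𝐂[ι (tt j.castSucc)])
  generalize Od (H ⊓ 𝐂[ι (tt i.castSucc)] ⊓ 𝐂[ι (tt j.castSucc)]) = X at hO hL hN ⊢
  have cK : ∀ g ∈ RG F 6, ∀ l : Fin 6, g * rf l = rf l * g → ψ g ∈ 𝐂[ι (tt l.castSucc)] := fun g hg l e => by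
    rw [mem_centralizer_singleton_iff, MO.tt_eq o]
    refine MO.cm_mul (MO.cz o (o.le g hg)) ?_
    rw [← o.mul _ hg _ (MO.rf_RG l), e, o.mul _ (MO.rf_RG l) _ hg]
  have rN : ∀ x, QS F 6 x = 1 → x i = 0 → x j = 0 → ψ (rv x) ∈ 𝐍(X) := fun x hx xi xj => by
    have m := rv_RG h2 (by norm_num) hx
    refine hN ⟨⟨o.le _ m, cK _ m i ?_⟩, cK _ m j ?_⟩
    · exact (rv_comm h2 (u0 hx) (u0 (MO.QS_ev i))).2 (Or.inr (by rw [dotProduct_single, xi, zero_mul]))
    · exact (rv_comm h2 (u0 hx) (u0 (MO.QS_ev j))).2 (Or.inr (by rw [dotProduct_single, xj, zero_mul]))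
  have rfc : ∀ k l : Fin 6, (rf k : GL (Fin 6) F) * rf l = rf l * rf k := fun k l => by
    by_cases e : k = l
    · rw [e]
    · exact (rv_comm h2 (u0 (MO.QS_ev k)) (u0 (MO.QS_ev l))).2
        (Or.inr (by rw [dotProduct_single, mul_one]; exact Pi.single_eq_of_ne (Ne.symm e) _))
  have cj : ∀ g ∈ RG F 6, ∀ g' ∈ RG F 6, ψ (g * g' * g⁻¹) = ψ g * ψ g' * (ψ g)⁻¹ := fun g hg g' hg' => by
    rw [o.mul _ (mul_mem hg hg') _ (inv_mem hg), o.mul _ hg _ hg', o.inv hg]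
  let Ψ : RG F 6 →* G := MonoidHom.mk' (fun g => ψ g) fun g g' => o.mul _ g.2 _ g'.2
  have X0 : X ⊓ Ψ.range = ⊥ := by
    by_contra ne
    obtain ⟨_, ⟨gX, ⟨g, hg⟩, rfl⟩, g1, hr⟩ := MO.minimal ne (fun k : Fin 6 => ψ (rf k))
      (fun k => by rw [← o.mul _ (MO.rf_RG k) _ (MO.rf_RG k), rv_sq, o.one])
      (fun k l => by rw [← o.mul _ (MO.rf_RG k) _ (MO.rf_RG l), rfc, o.mul _ (MO.rf_RG l) _ (MO.rf_RG k)])
      (fun k => by
        have a1 : ψ (rf k) ∈ 𝐍(X) :=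
          hN ⟨⟨o.le _ (MO.rf_RG k), cK _ (MO.rf_RG k) i (rfc k i)⟩, cK _ (MO.rf_RG k) j (rfc k j)⟩
        have a2 : ψ (rf k) ∈ 𝐍(Ψ.range) := le_normalizer (show ψ (rf k) ∈ Ψ.range from ⟨⟨_, MO.rf_RG k⟩, _root_.rfl⟩)
        exact inf_normalizer_le_normalizer_inf ⟨a1, a2⟩)
    change ψ g ∈ X at gX
    change ψ g ≠ 1 at g1
    change ∀ k, ψ (rf k) * ψ g * (ψ (rf k))⁻¹ = ψ g ∨ ψ (rf k) * ψ g * (ψ (rf k))⁻¹ = (ψ g)⁻¹ at hr
    have m3 : ∀ k, rf k * g * (rf k)⁻¹ ∈ RG F 6 := fun k => mul_mem (mul_mem (MO.rf_RG k) hg) (inv_mem (MO.rf_RG k))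
    have sq : ∀ k : Fin 6, rf k * (g * g) * (rf k)⁻¹ = rf k * g * (rf k)⁻¹ * (rf k * g * (rf k)⁻¹) := fun k => by group
    have cc : ∀ k : Fin 6, ψ g ∈ 𝐂[ι (tt k.castSucc)] → rf k * (g * g) * (rf k)⁻¹ = g * g := fun k e => by
      have e1 : ψ g * ψ (rf k) = ψ (rf k) * ψ g := by
        rw [MO.rf_eq o]
        exact MO.cm_mul (MO.cz o (o.le g hg)) (mem_centralizer_singleton_iff.1 e)
      rw [sq, o.eq (m3 k) hg (by rw [cj _ (MO.rf_RG k) _ hg, ← e1]; group)]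
    have gg := mul_mem hg hg
    have gX2 : ψ (g * g) ∈ X := by rw [o.mul _ hg _ hg]; exact mul_mem gX gX
    obtain ⟨x, hx, xi, xj, e⟩ := MO.rot h2 (iso_RG gg) (i := i) (j := j)
      (fun e => g1 (MO.odd_sq hO gX (by
        rw [← o.mul _ hg _ hg]
        exact MO.odd_sq hO gX2 (by rw [← o.mul _ gg _ gg, e, o.one]))))
      (fun k => by
        rcases hr k with e | e
        · have e1 := o.eq (m3 k) hg (by rw [cj _ (MO.rf_RG k) _ hg, e])
          exact Or.inl ⟨by rw [sq, e1], MO.cen1 h2 (iso_RG hg) e1⟩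
        · have e1 := o.eq (m3 k) (inv_mem hg) (by rw [cj _ (MO.rf_RG k) _ hg, e, o.inv hg])
          exact Or.inr (by rw [sq, e1]; group))
      (cc i (hL gX).1.2) (cc j (hL gX).2)
    have m := rv_RG h2 (by norm_num) hx
    have hx' : QS F 6 ((g * g).val *ᵥ x) = 1 := by rw [iso_RG gg x, hx]
    have m' := rv_RG h2 (by norm_num) hx'
    have cm := (rv_comm h2 (u0 hx') (u0 hx)).2 (Or.inr e)
    have uX : ψ (rv ((g * g).val *ᵥ x) * rv x) ∈ X := by
      have a1 := mul_mem gX2 (conj_mem_of_mem_normalizer (rN x hx xi xj) (inv_mem gX2))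
      rw [o.mul _ m' _ m, ← (iso_RG gg).conj, cj _ gg _ m]
      rw [← o.inv m, inv_eq_of_mul_eq_one_right (rv_sq x)] at a1
      simpa only [mul_assoc] using a1
    have u1 := o.inj _ (mul_mem m' m) (MO.odd_sq hO uX (by
      rw [← o.mul _ (mul_mem m' m) _ (mul_mem m' m), ← o.one]
      congr 1
      calc _ = rv ((g * g).val *ᵥ x) * (rv x * rv ((g * g).val *ᵥ x)) * rv x := by group
        _ = (rv ((g * g).val *ᵥ x) * rv ((g * g).val *ᵥ x)) * (rv x * rv x) := by rw [← cm]; group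
        _ = 1 := by rw [rv_sq, rv_sq, mul_one]))
    obtain ⟨c, -, ec⟩ := rv_inj h2 (u0 hx') (u0 hx)
      ((eq_inv_of_mul_eq_one_left u1).trans (inv_eq_of_mul_eq_one_right (rv_sq x)))
    rw [QS_dot] at hx
    have : x ⬝ᵥ x = 0 := by
      conv_lhs => enter [1]; rw [ec]
      rw [smul_dotProduct, e, smul_zero]
    exact one_ne_zero (hx.symm.trans this)
  intro y hy
  have yH := (hL hy).1.1
  obtain ⟨s, -, act⟩ := o.act y yH
  have crv : ∀ x, QS F 6 x = 1 → x i = 0 → x j = 0 → y * ψ (rv x) = ψ (rv x) * y := fun x hx xi xj => by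
    have m := rv_RG h2 (by norm_num) hx
    obtain ⟨m', e⟩ := act _ m
    have a1 : y * ψ (rv x) * y⁻¹ * (ψ (rv x))⁻¹ ∈ X ⊓ Ψ.range := by
      refine mem_inf.2 ⟨?_, ?_⟩
      · simpa only [mul_assoc] using mul_mem hy (conj_mem_of_mem_normalizer (rN x hx xi xj) (inv_mem hy))
      · rw [e]
        exact mul_mem (show ψ _ ∈ Ψ.range from ⟨⟨_, m'⟩, _root_.rfl⟩) (inv_mem (show ψ _ ∈ Ψ.range from ⟨⟨_, m⟩, _root_.rfl⟩))
    rw [X0, mem_bot, mul_inv_eq_one] at a1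
    exact mul_inv_eq_iff_eq_mul.1 a1
  obtain ⟨k, -, -, ⟨k1, k2, -, -⟩, -⟩ := MO.two4 i j i j
  have ck : y * ψ (rf k) = ψ (rf k) * y :=
    crv _ (MO.QS_ev k) (Pi.single_eq_of_ne (Ne.symm k1) _) (Pi.single_eq_of_ne (Ne.symm k2) _)
  obtain ⟨e, he, rfl⟩ := o.semi ij' yH (hL hy).1.2 (hL hy).2 k k1 k2
    (by rw [mem_centralizer_singleton_iff, MO.tt_eq o]; exact MO.cm_mul (MO.cz o yH) ck)
    fun x hx xi xj => by
      rw [o.mul _ (rv_RG h2 (by norm_num) hx) _ (MO.rf_RG k)]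
      exact MO.cm_mul (crv x hx xi xj) ck
  have le : closure {ι z, ι (tt i.castSucc), ι (tt j.castSucc)} ≤ EE.map ι := by
    rw [closure_le]
    rintro _ (rfl | rfl | rfl)
    · exact ⟨_, tt6 ▸ a_EE _, _root_.rfl⟩
    · exact ⟨_, a_EE _, _root_.rfl⟩
    · exact ⟨_, a_EE _, _root_.rfl⟩
  obtain ⟨u, hu, rfl⟩ := le he
  refine MO.odd_sq hO hy ?_
  rw [← map_mul, eq_a hu, a_sq, map_one]

end H24.T12
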