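import Cfsg.Agent.Lib.A12.Defs2
import Cfsg.Agent.Lib.A12.OB
/-! Package WIT of `blueprint/A12/README.md`. -/
set_option autoImplicit false
namespace H24.T12
open Subgroup H1.A10 H45 H69 Gold Cfsg H67 Matrix

variable {G : Type} [Group G] [Finite G] {ι : M →* G} {π : G → B} {F : Type} [Field F] [Fintype F]
  {H L : Subgroup G} {ψ : GL (Fin 6) F → G} {σ : G} {n : ℕ}
  {J : Type} [Fintype J] [DecidableEq J] {Q : QuadraticForm F (J → F)} {θ : L →* GL J F}

namespace WIT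

theorem quad (h2 : (2 : F) ≠ 0) {A B : F} (hA : A ≠ 0) (hB : B ≠ 0) (t : F) :
    ∃ a b, A * a ^ 2 + B * b ^ 2 = t := by
  obtain ⟨a, b, e⟩ := FiniteField.exists_root_sum_quadratic (f := Polynomial.C A * Polynomial.X ^ 2)
    (g := Polynomial.C B * Polynomial.X ^ 2 - Polynomial.C t) (Polynomial.degree_C_mul_X_pow 2 hA)
    (by
      rw [Polynomial.degree_sub_C (by rw [Polynomial.degree_C_mul_X_pow 2 hB]; decide)]
      exact Polynomial.degree_C_mul_X_pow 2 hB)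
    (FiniteField.odd_card_of_char_ne_two fun h => h2 (by
      have := ringChar.spec F 2
      rw [h] at this
      exact_mod_cast this.2 dvd_rfl))
  exact ⟨a, b, by simp at e; linear_combination e⟩

theorem dot (h2 : (2 : F) ≠ 0) {g : GL (Fin n) F} (hg : g ∈ isometryGroup F (QS F n)) (x y : Fin n → F) :
    (g.val *ᵥ x) ⬝ᵥ (g.val *ᵥ y) = x ⬝ᵥ y := by
  have h : ∀ v, (g.val *ᵥ v) ⬝ᵥ (g.val *ᵥ v) = v ⬝ᵥ v := fun v => by
    rw [← QS_dot, ← QS_dot]; exact hg v v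
  have := h (x + y)
  simp only [mulVec_add, add_dotProduct, dotProduct_add, h x, h y] at this
  rw [dotProduct_comm (g.val *ᵥ y), dotProduct_comm y x] at this
  apply mul_left_cancel₀ h2
  linear_combination this

theorem fix {w y : Fin n → F} (h : w ⬝ᵥ y = 0) : (rv w).val *ᵥ y = y := by rw [rv_mulVec, h]; simp

theorem mv {x y : Fin n → F} (h : x ⬝ᵥ x = y ⬝ᵥ y) (h0 : (x - y) ⬝ᵥ (x - y) ≠ 0) :
    (rv (x - y)).val *ᵥ x = y := by
  have : 2 * ((x - y) ⬝ᵥ x) = (x - y) ⬝ᵥ (x - y) := by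
    simp only [sub_dotProduct, dotProduct_sub, dotProduct_comm y x]; linear_combination h
  rw [rv_mulVec, this, div_self h0, one_smul, sub_sub_cancel]

theorem step (h2 : (2 : F) ≠ 0) {x y : Fin n → F} (h : x ⬝ᵥ x = y ⬝ᵥ y) (h0 : y ⬝ᵥ y ≠ 0) :
    ∃ r ∈ isometryGroup F (QS F n), r.val *ᵥ x = y ∧ ∀ v, x ⬝ᵥ v = 0 → y ⬝ᵥ v = 0 → r.val *ᵥ v = v := by
  by_cases e : (x - y) ⬝ᵥ (x - y) = 0
  · have e' : (x - -y) ⬝ᵥ (x - -y) ≠ 0 := fun k => h0 (by
      simp only [sub_dotProduct, dotProduct_sub, dotProduct_neg, neg_dotProduct] at e k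
      apply mul_left_cancel₀ (mul_ne_zero h2 h2)
      linear_combination e + k - 2 * h)
    refine ⟨rv y * rv (x - -y), mul_mem (reflGL_mem _) (reflGL_mem _), ?_, fun v a b => ?_⟩
    · rw [Units.val_mul, ← mulVec_mulVec, mv (by simpa using h) e', rv_mulVec, dotProduct_neg, mul_neg, neg_div,
        mul_div_assoc, div_self h0]
      module
    · rw [Units.val_mul, ← mulVec_mulVec, fix (w := x - -y) (by simp [a, b]), fix b]
  · exact ⟨rv (x - y), reflGL_mem _, mv h e, fun v a b => fix (by simp [a, b])⟩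

variable {I : Type} [Fintype I] [DecidableEq I] {N : I → F} {x y : I → Fin n → F}

omit [Fintype I] in
theorem witt (h2 : (2 : F) ≠ 0) (hN : ∀ i, N i ≠ 0) (hx : ∀ i j, x i ⬝ᵥ x j = if i = j then N i else 0)
    (hy : ∀ i j, y i ⬝ᵥ y j = if i = j then N i else 0) (s : Finset I) :
    ∃ g ∈ isometryGroup F (QS F n), ∀ i ∈ s, g.val *ᵥ x i = y i := by
  induction s using Finset.induction_on with
  | empty => exact ⟨1, one_mem _, by simp⟩
  | insert j s hj ih =>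
    obtain ⟨g, hg, e⟩ := ih
    obtain ⟨r, hr, r1, r2⟩ := step h2 (x := g.val *ᵥ x j) (y := y j) (by rw [dot h2 hg, hx, hy])
      (by rw [hy, if_pos rfl]; exact hN j)
    refine ⟨r * g, mul_mem hr hg, fun i hi => ?_⟩
    rw [Units.val_mul, ← mulVec_mulVec]
    rcases Finset.mem_insert.1 hi with rfl | hi
    · exact r1
    · have ne : j ≠ i := fun k => hj (k ▸ hi)
      rw [r2 _ (by rw [dot h2 hg, hx, if_neg ne]) (by rw [e i hi, hy, if_neg ne]), e i hi]

omit [Fintype F] in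
theorem ext (h2 : (2 : F) ≠ 0) (hI : Fintype.card I < n) (hN : ∀ i, N i ≠ 0)
    (hy : ∀ i j, y i ⬝ᵥ y j = if i = j then N i else 0) : ∃ u, u ⬝ᵥ u ≠ 0 ∧ ∀ i, y i ⬝ᵥ u = 0 := by
  by_contra! k
  have k1 : ∀ u, (∀ i, y i ⬝ᵥ u = 0) → u ⬝ᵥ u = 0 := fun u hu => by
    by_contra e
    obtain ⟨i, hi⟩ := k u e
    exact hi (hu i)
  obtain ⟨w, hw, w0⟩ := (Submodule.ne_bot_iff _).1 (LinearMap.ker_ne_bot_of_finrank_lt
    (f := (Matrix.of y).mulVecLin) (by simpa using hI))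
  have hw : ∀ i, y i ⬝ᵥ w = 0 := fun i => congrFun hw i
  refine w0 (dotProduct_eq_zero w fun v => ?_)
  have hv : ∀ i, y i ⬝ᵥ (v - ∑ j, (y j ⬝ᵥ v / N j) • y j) = 0 := fun i => by
    simp only [dotProduct_sub, dotProduct_sum, dotProduct_smul, hy, smul_eq_mul, mul_ite, mul_zero,
      Finset.sum_ite_eq, Finset.mem_univ, if_true]
    rw [div_mul_cancel₀ _ (hN i), sub_self]
  have e : w ⬝ᵥ (v - ∑ j, (y j ⬝ᵥ v / N j) • y j) = w ⬝ᵥ v := by
    simp only [dotProduct_sub, dotProduct_sum, dotProduct_smul, dotProduct_comm w (y _), hw, smul_zero,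
      Finset.sum_const_zero, sub_zero]
  generalize v - ∑ j, (y j ⬝ᵥ v / N j) • y j = v' at hv e
  have := k1 (w + v') fun i => by rw [dotProduct_add, hw, hv, add_zero]
  rw [add_dotProduct, dotProduct_add, dotProduct_add, k1 w hw, k1 v' hv, dotProduct_comm v' w, e] at this
  apply mul_left_cancel₀ h2
  linear_combination this

theorem rep (h2 : (2 : F) ≠ 0) (hI : Fintype.card I + 2 ≤ n) (hN : ∀ i, N i ≠ 0)
    (hy : ∀ i j, y i ⬝ᵥ y j = if i = j then N i else 0) (c : F) : ∃ w, QS F n w = c ∧ ∀ i, w ⬝ᵥ y i = 0 := by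
  obtain ⟨u, u0, hu⟩ := ext h2 (by omega) hN hy
  obtain ⟨v, v0, hv⟩ := ext (I := Option I) (N := fun o => o.elim (u ⬝ᵥ u) N) (y := fun o => o.elim u y) h2
    (by rw [Fintype.card_option]; omega) (by rintro (_ | i); exacts [u0, hN i]) (by
      rintro (_ | i) (_ | j) <;> simp [hu, hy, dotProduct_comm u])
  obtain ⟨a, b, e⟩ := quad h2 u0 v0 c
  have uv : u ⬝ᵥ v = 0 := hv none
  refine ⟨a • u + b • v, ?_, fun i => ?_⟩
  · simp only [QS_dot, add_dotProduct, dotProduct_add, smul_dotProduct, dotProduct_smul, smul_eq_mul,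
      dotProduct_comm v u, uv]
    linear_combination e
  · have : y i ⬝ᵥ v = 0 := hv (some i)
    rw [dotProduct_comm, dotProduct_add, dotProduct_smul, dotProduct_smul, hu, this]
    simp

end WIT

open WIT in
theorem wit (h2 : (2 : F) ≠ 0) (hn : 5 ≤ n) {k : ℕ} (hk : k + 2 ≤ n) (N : Fin k → F) (hN : ∀ i, N i ≠ 0)
    (x y : Fin k → Fin n → F) (hx : ∀ i j, x i ⬝ᵥ x j = if i = j then N i else 0)
    (hy : ∀ i j, y i ⬝ᵥ y j = if i = j then N i else 0) : ∃ g ∈ OG F n, ∀ i, g.val *ᵥ x i = y i := by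
  obtain ⟨g, hg, e⟩ := witt h2 hN hx hy Finset.univ
  obtain ⟨l, hl, rfl⟩ := exists_prodR (nd_QS h2) (good_QS h2 hn) hg
  have P0 := prod_Q_ne_zero hl
  obtain ⟨w, w1, w2⟩ := rep h2 (by simpa using hk) hN hy (l.map fun v => QS F n v).prod
  have st : ∀ (w : Fin n → F) (l : List (Fin n → F)), (∀ i, w ⬝ᵥ y i = 0) →
      (∀ i, (prodR (QS F n) l).val *ᵥ x i = y i) → ∀ i, (prodR (QS F n) (w :: l)).val *ᵥ x i = y i :=
    fun w l a b i => by
      rw [← List.singleton_append, prodR_append, prodR_one, Units.val_mul, ← mulVec_mulVec, b, fix (a i)]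
  have h1 := st w l w2 fun i => e i (Finset.mem_univ i)
  have hl1 : ∀ v ∈ w :: l, QS F n v ≠ 0 := List.forall_mem_cons.2 ⟨w1 ▸ P0, hl⟩
  rcases Nat.even_or_odd l.length with p | p
  · obtain ⟨u, u1, u2⟩ := rep h2 (by simpa using hk) hN hy 1
    refine ⟨_, (prodR_mem_omega (nd_QS h2) (good_QS h2 hn) (l := u :: w :: l)
      (List.forall_mem_cons.2 ⟨u1 ▸ one_ne_zero, hl1⟩)).2 ⟨?_, ?_⟩, st u _ u2 h1⟩
    · exact p.add even_two
    · simp only [List.map_cons, List.prod_cons, u1, w1, one_mul]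
      exact ⟨_, rfl⟩
  · refine ⟨_, (prodR_mem_omega (nd_QS h2) (good_QS h2 hn) hl1).2 ⟨p.add_one, ?_⟩, h1⟩
    simp only [List.map_cons, List.prod_cons, w1]
    exact ⟨_, rfl⟩

end H24.T12
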