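import Cfsg.Agent.Lib.A12.Defs2
import Cfsg.Agent.Lib.A12.MO
import Cfsg.Agent.Lib.A12.WIT
import Cfsg.Agent.Lib.A12.EF2
/-! Package BRAID of `blueprint/A12/README.md`. -/
set_option autoImplicit false
namespace H24.T12
open Subgroup H1.A10 H45 H69 Gold Cfsg H67 Matrix

variable {G : Type} [Group G] [Finite G] {ι : M →* G} {π : G → B} {F : Type} [Field F] [Fintype F]
  {H L : Subgroup G} {ψ : GL (Fin 6) F → G} {σ : G} {n : ℕ}
  {J : Type} [Fintype J] [DecidableEq J] {Q : QuadraticForm F (J → F)} {θ : L →* GL J F}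

namespace Brd

omit [Fintype F] in
theorem gl_ext {g h : GL (Fin n) F} (e : ∀ v, g.val *ᵥ v = h.val *ᵥ v) : g = h :=
  Units.ext (Matrix.toLin'.injective (LinearMap.ext fun v => by simpa using e v))

theorem pm_one : pm F (1 : Equiv.Perm (Fin n)) = 1 := by
  have := pm_mul (F := F) (1 : Equiv.Perm (Fin n)) 1
  rw [mul_one] at this
  exact mul_left_cancel (a := pm F 1) (by rw [← this, mul_one])

theorem pm_fix (ρ : Equiv.Perm (Fin n)) (x : Fin n → F) (h : ∀ i, x (ρ i) = x i) :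
    (pm F ρ).val *ᵥ x = x := funext fun j => by
  obtain ⟨i, rfl⟩ := ρ.surjective j
  rw [pm_mulVec, h]

theorem qs_ev (i : Fin n) : QS F n (ev i) = 1 := by rw [QS_dot]; simp

omit [Fintype F] in
theorem og_rg : OG F n ≤ RG F n := le_sup_left

omit [Fintype F] in
theorem rf_rg (i : Fin n) : (rf i : GL (Fin n) F) ∈ RG F n := mem_sup_right (subset_closure ⟨i, rfl⟩)

omit [Fintype F] in
theorem al_eq : al6 F = pm F (Equiv.swap 0 1 * Equiv.swap 4 5) := rfl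

theorem al_og : al6 F ∈ OG F 6 := pm_mem (by decide)

theorem cj (o : OM H ι F ψ) {g h : GL (Fin 6) F} (hg : g ∈ RG F 6) (hh : h ∈ RG F 6) :
    ψ g * ψ h * (ψ g)⁻¹ = ψ (g * h * g⁻¹) := by
  rw [o.mul _ (mul_mem hg hh) _ (inv_mem hg), o.mul _ hg _ hh, o.inv hg]

theorem rv_st {x : Fin n → F} {i : Fin n} (h : x i = 0) : rv x ∈ St (ev i : Fin n → F) := by
  rw [mem_St, rv_mulVec]; simp [h]

theorem comm (o : OM H ι F ψ) (sw : Sw ι F ψ σ) {x : Fin 6 → F} (hx : QS F 6 x = 1) (h4 : x 4 = 0)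
    (h5 : x 5 = 0) : σ * ψ (al6 F) * ψ (rv x * rf 0) = ψ (rv x * rf 0) * (σ * ψ (al6 F)) := by
  have h2 := o.q8.two
  have hg : rv x * rf 0 ∈ OG F 6 :=
    (rr_mem h2 (by norm_num) (hx ▸ one_ne_zero) ((qs_ev (F := F) (0 : Fin 6)).symm ▸ one_ne_zero)).2
      (by rw [hx, qs_ev]; exact ⟨1, rfl⟩)
  have q1 : pm F (Equiv.swap 4 5) * rv x * (pm F (Equiv.swap 4 5))⁻¹ = rv x := by
    rw [(iso_pm _).conj, pm_fix]
    intro i
    fin_cases i <;> simp [Equiv.swap_apply_def, h4, h5]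
  have q2 : pm F (Equiv.swap (4 : Fin 6) 5) * rf 0 * (pm F (Equiv.swap 4 5))⁻¹ = rf 0 := by
    rw [pm_rf]; rfl
  have e1 : al6 F * (rv x * rf 0) * (al6 F)⁻¹ =
      pm F (Equiv.swap 0 1) * (rv x * rf 0) * (pm F (Equiv.swap 0 1))⁻¹ := by
    rw [al_eq, pm_mul]
    conv_rhs => rw [← q1, ← q2]
    group
  have p5 : pm F (Equiv.swap (0 : Fin 6) 1) ∈ St (ev 5 : Fin 6 → F) := pm_fix _ _ fun i => by
    fin_cases i <;> simp [Equiv.swap_apply_def]
  have s5 : pm F (Equiv.swap 0 1) * (rv x * rf 0) * (pm F (Equiv.swap 0 1))⁻¹ ∈ St (ev 5 : Fin 6 → F) :=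
    mul_mem (mul_mem p5 (mul_mem (rv_st h5) (rv_st (by simp)))) (inv_mem p5)
  have pp : pm F (Equiv.swap (0 : Fin 6) 1) * pm F (Equiv.swap 0 1) = 1 := by
    rw [← pm_mul, Equiv.swap_mul_self, pm_one]
  have k := sw.act _ (e1 ▸ mul_mem (mul_mem al_og hg) (inv_mem al_og)) s5
  have e2 : pm F (Equiv.swap 0 1) * (pm F (Equiv.swap 0 1) * (rv x * rf 0) * (pm F (Equiv.swap 0 1))⁻¹) *
      (pm F (Equiv.swap 0 1))⁻¹ = rv x * rf 0 := by
    calc _ = (pm F (Equiv.swap 0 1) * pm F (Equiv.swap 0 1)) * (rv x * rf 0) *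
          (pm F (Equiv.swap 0 1) * pm F (Equiv.swap 0 1))⁻¹ := by group
      _ = _ := by rw [pp]; group
  rw [e2, ← e1, ← cj o (og_rg al_og) (og_rg hg)] at k
  calc _ = σ * (ψ (al6 F) * ψ (rv x * rf 0) * (ψ (al6 F))⁻¹) * σ⁻¹ * (σ * ψ (al6 F)) := by group
    _ = _ := by rw [k]

/-- the third generator is a product of two commuting reflections in unit vectors -/
theorem al_conj (h2 : (2 : F) ≠ 0) : ∃ g ∈ OG F 6, g * al6 F * g⁻¹ = rf 0 * rf 1 ∧ g * rf 2 * g⁻¹ = rf 2 := by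
  obtain ⟨h, hh⟩ : ∃ h : F, 2 * h = 1 := ⟨2⁻¹, mul_inv_cancel₀ h2⟩
  let x : Fin 6 → F := ![h, -h, 0, 0, h, -h]
  let y : Fin 6 → F := ![-h, h, 0, 0, h, -h]
  have xx : x ⬝ᵥ x = 1 := by
    simp [x, dotProduct, Fin.sum_univ_succ]; linear_combination (2 * h + 1) * hh
  have yy : y ⬝ᵥ y = 1 := by
    simp [y, dotProduct, Fin.sum_univ_succ]; linear_combination (2 * h + 1) * hh
  have xy : x ⬝ᵥ y = 0 := by simp [x, y, dotProduct, Fin.sum_univ_succ]
  have e : al6 F = rv x * rv y := gl_ext fun v => by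
    rw [Units.val_mul, ← mulVec_mulVec, rv_mulVec, rv_mulVec, xx, yy, dotProduct_sub, dotProduct_smul, xy]
    funext j
    obtain ⟨i, rfl⟩ := (Equiv.swap (0 : Fin 6) 1 * Equiv.swap 4 5).surjective j
    rw [al_eq, pm_mulVec]
    fin_cases i <;> simp [x, y, dotProduct, Fin.sum_univ_succ, Equiv.swap_apply_def, vecHead, vecTail]
    · linear_combination ((2 * h + 1) * (v 1 - v 0)) * hh
    · linear_combination ((2 * h + 1) * (v 0 - v 1)) * hh
    · linear_combination ((2 * h + 1) * (v 5 - v 4)) * hh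
    · linear_combination ((2 * h + 1) * (v 4 - v 5)) * hh
  obtain ⟨g, hg, eg⟩ := wit (n := 6) h2 (by norm_num) (k := 3) (by norm_num) (fun _ => 1) (fun _ => one_ne_zero)
    ![x, y, ev 2] ![ev 0, ev 1, ev 2]
    (fun i j => by
      fin_cases i <;> fin_cases j <;> simp [xx, yy, xy, dotProduct_comm y x] <;> simp [x, y])
    (fun i j => by fin_cases i <;> fin_cases j <;> simp)
  have io := iso_RG (og_rg hg)
  refine ⟨g, hg, ?_, ?_⟩
  · calc g * al6 F * g⁻¹ = g * rv x * g⁻¹ * (g * rv y * g⁻¹) := by rw [e]; group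
      _ = _ := by rw [io.conj, io.conj]; exact congrArg₂ (fun a b => rv a * rv b) (eg 0) (eg 1)
  · rw [io.conj]; exact congrArg rv (eg 2)

omit [Finite G] in
theorem mem8 {y : G} (h : y ∈ closure {ι z, ι (tt 4), ι (tt 5)}) :
    ∃ i j k : Fin 2, y = ι (tt 4 ^ i.val * tt 5 ^ j.val * tt 6 ^ k.val) := by
  induction h using closure_induction with
  | mem x hx =>
    rcases hx with rfl | rfl | rfl
    · exact ⟨0, 0, 1, congrArg ι (by decide +kernel)⟩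
    · exact ⟨1, 0, 0, congrArg ι (by decide +kernel)⟩
    · exact ⟨0, 1, 0, congrArg ι (by decide +kernel)⟩
  | one => exact ⟨0, 0, 0, by simp⟩
  | mul x y _ _ hx hy =>
    obtain ⟨i, j, k, rfl⟩ := hx
    obtain ⟨i', j', k', rfl⟩ := hy
    refine ⟨i + i', j + j', k + k', ?_⟩
    rw [← map_mul]
    exact congrArg ι ((by decide +kernel : ∀ i j k i' j' k' : Fin 2, tt 4 ^ i.val * tt 5 ^ j.val * tt 6 ^ k.val *
      (tt 4 ^ i'.val * tt 5 ^ j'.val * tt 6 ^ k'.val) =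
      tt 4 ^ (i + i').val * tt 5 ^ (j + j').val * tt 6 ^ (k + k').val) i j k i' j' k')
  | inv x _ hx =>
    obtain ⟨i, j, k, rfl⟩ := hx
    refine ⟨i, j, k, ?_⟩
    rw [← map_inv]
    exact congrArg ι ((by decide +kernel : ∀ i j k : Fin 2, (tt 4 ^ i.val * tt 5 ^ j.val * tt 6 ^ k.val)⁻¹ =
      tt 4 ^ i.val * tt 5 ^ j.val * tt 6 ^ k.val) i j k)

omit [Finite G] in
theorem br_of {a b : G} (aa : a * a = 1) (bb : b * b = 1) (h : a * b * (a * b) * (a * b) = 1) :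
    a * b * a = b * a * b := by
  have : a * b * a * (b * a * b) = 1 := by rw [← h]; group
  rw [eq_inv_of_mul_eq_one_left this, _root_.mul_inv_rev, _root_.mul_inv_rev, inv_eq_of_mul_eq_one_right aa,
    inv_eq_of_mul_eq_one_right bb, mul_assoc]

omit [Finite G] in
theorem fz4 {g : G} {ρ : Equiv.Perm (Fin 7)} (p : PA ι g ρ) (h : tt (ρ 4) * tt (ρ 5) * tt (ρ 6) = z4) :
    g * ι z4 = ι z4 * g := by
  have := (((p 4).mul (p 5)).mul (p 6)).congr (x' := z4) (by decide +kernel) h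
  exact mul_inv_eq_iff_eq_mul.1 this.eq

end Brd

open Brd in
theorem braid (d : Dat ι π) (o : OM 𝐂[ι z] ι F ψ) (sw : Sw ι F ψ σ) :
    σ * ψ (al6 F) * σ = ψ (al6 F) * σ * ψ (al6 F) := by
  have h2 := o.q8.two
  have s := d.sy
  have hα : al6 F ∈ RG F 6 := og_rg al_og
  have pα : PA ι (ψ (al6 F)) (Equiv.swap 0 1 * Equiv.swap 4 5) := o.pa (by decide) (by decide)
  have αα : ψ (al6 F) * ψ (al6 F) = 1 := by
    rw [← o.mul _ hα _ hα, al_eq, ← pm_mul, show Equiv.swap (0 : Fin 6) 1 * Equiv.swap 4 5 *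
      (Equiv.swap 0 1 * Equiv.swap 4 5) = 1 by decide, pm_one, o.one]
  set α := ψ (al6 F) with hαd
  have pβ := sw.pa.mul pα
  have pζ : PA ι (σ * α * (σ * α) * (σ * α)) 1 := by
    have := (pβ.mul pβ).mul pβ
    rwa [show Equiv.swap (0 : Fin 7) 1 * Equiv.swap 5 6 * (Equiv.swap 0 1 * Equiv.swap 4 5) *
      (Equiv.swap 0 1 * Equiv.swap 5 6 * (Equiv.swap 0 1 * Equiv.swap 4 5)) *
      (Equiv.swap 0 1 * Equiv.swap 5 6 * (Equiv.swap 0 1 * Equiv.swap 4 5)) = 1 by decide] at this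
  obtain ⟨_, he, rfl⟩ := o.semi (i := 4) (j := 5) (by decide) (y := σ * α * (σ * α) * (σ * α))
    (tt6 ▸ (pζ 6).cent) (pζ 4).cent (pζ 5).cent 0 (by decide) (by decide) (pζ 0).cent fun x hx h4 h5 => by
      have c : Commute (σ * α) (ψ (rv x * rf 0)) := comm o sw hx h4 h5
      exact ((c.mul_left c).mul_left c).eq
  obtain ⟨i, j, k, e⟩ := mem8 he
  have c1 : Cj ι (σ * α) (tt 4 ^ i.val * tt 5 ^ j.val * tt 6 ^ k.val)
      (tt 4 ^ i.val * tt 5 ^ j.val * tt 6 ^ k.val) := by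
    show _ * _ * _ = _
    rw [← e]; group
  have c2 := s.right c1 ((((pβ 4).pow i).mul ((pβ 5).pow j)).mul ((pβ 6).pow k))
  have c3 : tt 4 ^ i.val * tt 5 ^ j.val * tt 6 ^ k.val = 1 ∨ tt 4 ^ i.val * tt 5 ^ j.val * tt 6 ^ k.val = z4 := by
    clear e c1
    revert i j k
    decide +kernel
  rcases c3 with c3 | c3
  · exact br_of sw.sq αα (by rw [e, c3, map_one])
  exfalso
  rw [c3] at e
  have zz : ι z4 * ι z4 = 1 := by rw [← map_mul, show z4 * z4 = 1 by decide +kernel, map_one]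
  have zσ : Commute σ (ι z4) := fz4 sw.pa (by decide +kernel)
  have zα : Commute α (ι z4) := fz4 pα (by decide +kernel)
  have yy : α * ι z4 * (α * ι z4) = 1 := by
    calc _ = α * (ι z4 * α) * ι z4 := by group
      _ = α * α * (ι z4 * ι z4) := by rw [← zα.eq]; group
      _ = 1 := by rw [αα, zz, one_mul]
  have y3 : σ * (α * ι z4) * (σ * (α * ι z4)) * (σ * (α * ι z4)) = 1 := by
    have c : Commute (σ * α) (ι z4) := zσ.mul_left zα
    have := c.mul_pow 3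
    rw [pow_three' (σ * α), e, pow_three', pow_three', zz, one_mul, zz] at this
    rw [← this]; group
  have br := br_of sw.sq yy y3
  have pz : PA ι (ι z4) 1 := fun i => Cj.of' (by rw [← z4_comm, mul_inv_cancel_right]; rfl)
  have pk := sw.pa.mul (pα.mul pz)
  set y := α * ι z4 with hy
  have kσ : σ * y * σ * (σ * y)⁻¹ = y := by
    rw [br, _root_.mul_inv_rev, inv_eq_of_mul_eq_one_right yy, inv_eq_of_mul_eq_one_right sw.sq]
    calc _ = y * σ * (y * y) * σ := by group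
      _ = y * (σ * σ) := by rw [yy]; group
      _ = y := by rw [sw.sq, mul_one]
  have xo : pm F (Equiv.swap (2 : Fin 6) 4 * Equiv.swap 2 3) ∈ OG F 6 := pm_mem (by decide)
  have px : PA ι (ψ (pm F (Equiv.swap (2 : Fin 6) 4 * Equiv.swap 2 3))) (Equiv.swap 2 4 * Equiv.swap 2 3) :=
    o.pa (by decide) (by decide)
  have σx := sw.act _ xo (pm_fix _ _ fun i => by fin_cases i <;> simp [Equiv.swap_apply_def])
  rw [← pm_mul, show Equiv.swap (0 : Fin 6) 1 * (Equiv.swap 2 4 * Equiv.swap 2 3) =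
    Equiv.swap 2 4 * Equiv.swap 2 3 * Equiv.swap 0 1 by decide, pm_mul _ (Equiv.swap 0 1), mul_inv_cancel_right] at σx
  set x := ψ (pm F (Equiv.swap (2 : Fin 6) 4 * Equiv.swap 2 3)) with hx
  have px' : ∀ i, Cj ι (σ * y * x * (σ * y)⁻¹) (tt ((Equiv.swap 0 1 * Equiv.swap 5 6 *
      (Equiv.swap 0 1 * Equiv.swap 4 5 * 1) : Equiv.Perm (Fin 7)) i)) _ := fun i =>
    (pk i).symm.comp (pk.mul px i)
  have xy : σ * y * x * (σ * y)⁻¹ * y * (σ * y * x * (σ * y)⁻¹)⁻¹ = y := by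
    calc _ = σ * y * x * (σ * y)⁻¹ * (σ * y * σ * (σ * y)⁻¹) * (σ * y * x * (σ * y)⁻¹)⁻¹ := by rw [kσ]
      _ = σ * y * (σ * (σ⁻¹ * x * σ) * x⁻¹) * (σ * y)⁻¹ := by group
      _ = σ * y * σ * (σ * y)⁻¹ := by
        have : σ⁻¹ * x * σ = x := by
          calc _ = σ⁻¹ * (σ * x * σ⁻¹) * σ := by rw [σx]
            _ = x := by group
        rw [this]; group
      _ = y := kσ
  set x' := σ * y * x * (σ * y)⁻¹ with hx'
  have c23 : Cj ι x' (dd 2 3) (dd 3 6) := ((px' 2).mul (px' 3)).congr (by decide +kernel) (by decide +kernel)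
  have c7 : Cj ι x' (dd 0 1 * dd 2 6) z4 :=
    ((((px' 0).mul (px' 1)).mul (px' 2)).mul (px' 4)).congr (by decide +kernel) (by decide +kernel)
  have c01 : Cj ι α (dd 1 6) (dd 0 6) := pα.pdd 1 6
  have f1 : y * ι (dd 2 3) = ι (dd 0 6) * α * (ι (dd 0 6))⁻¹ := by
    rw [hy, mul_assoc, ← map_mul, show z4 * dd 2 3 = dd 1 6 * (dd 0 6)⁻¹ by decide +kernel, map_mul, map_inv]
    nth_rewrite 2 [← c01.eq]
    group
  have f2 : y * ι (dd 3 6) = ι (dd 0 6) * (α * ι (dd 2 6)) * (ι (dd 0 6))⁻¹ := by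
    rw [hy, mul_assoc, ← map_mul, show z4 * dd 3 6 = dd 1 6 * dd 2 6 * (dd 0 6)⁻¹ by decide +kernel, map_mul,
      map_mul, map_inv]
    nth_rewrite 2 [← c01.eq]
    group
  have f3 : x' * (y * ι (dd 2 3)) * x'⁻¹ = y * ι (dd 3 6) := by
    calc _ = x' * y * x'⁻¹ * (x' * ι (dd 2 3) * x'⁻¹) := by group
      _ = _ := by rw [xy, c23.eq]
  obtain ⟨g, hg, g1, g2⟩ := al_conj h2
  have k1 : ψ g * α * (ψ g)⁻¹ = ι (dd 0 1) := by
    rw [hαd, cj o (og_rg hg) hα, g1, o.pdd]; rfl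
  have k2 : ψ g * ι (dd 2 6) * (ψ g)⁻¹ = ι (dd 2 6) := by
    have := o.rfl 2
    rw [show dd (2 : Fin 6).castSucc 6 = dd 2 6 from rfl] at this
    rw [← this, cj o (og_rg hg) (rf_rg 2), g2]
  have k3 : Cj ι (ψ g * (ι (dd 0 6))⁻¹ * x' * ι (dd 0 6) * (ψ g)⁻¹) (dd 0 1) (dd 0 1 * dd 2 6) := by
    rw [f1, f2] at f3
    show _ * _ * _ = _
    rw [map_mul, ← k2, ← k1]
    calc _ = ψ g * (ι (dd 0 6))⁻¹ * (x' * (ι (dd 0 6) * α * (ι (dd 0 6))⁻¹) * x'⁻¹) * ι (dd 0 6) * (ψ g)⁻¹ := by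
          group
      _ = _ := by rw [f3]; group
  have pw : PA ι (ψ (pm F (Equiv.swap (0 : Fin 6) 4 * Equiv.swap 1 5))) (Equiv.swap 0 4 * Equiv.swap 1 5) :=
    o.pa (by decide) (by decide)
  have k4 : Fu ι z2 (dd 0 1) := ⟨_, (pw.pdd 4 5).congr dd45 (by decide +kernel)⟩
  exact nf24 s ((k4.trans ⟨_, k3⟩).trans ⟨_, c7⟩)

end H24.T12
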