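import Cfsg.Agent.Lib.A12.Defs2
import Cfsg.Agent.Lib.A12.BAS
import Cfsg.Agent.Lib.A12.FW
import Cfsg.Agent.Lib.A12.WW
import Cfsg.Agent.Lib.G2S.Gen
/-! Package C1 of `blueprint/A12/README.md`. -/
set_option autoImplicit false
namespace H24.T12
open Subgroup H1.A10 H45 H69 Gold Cfsg
open scoped commutatorElement

variable {G : Type} [Group G] [Finite G] {ι : M →* G} {π : G → B} {g k : G}

namespace C1

theorem burn {P K : Subgroup G} (h : IsSylowIn 2 P K) (o : Od K = ⊥)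
    (hN : ∀ n ∈ K, n ∈ 𝐍(P) → ∀ x ∈ P, x * n = n * x) : K ≤ P := by
  obtain ⟨S, hS⟩ := h.exists_sylow_subgroupOf
  have hP : normalizer ((S : Subgroup K) : Set K) ≤ centralizer ((S : Subgroup K) : Set K) := by
    intro g hg x hx
    rw [hS, ← subgroupOf_normalizer_eq h.le] at hg
    rw [hS] at hx
    exact Subtype.ext (hN g g.2 hg x hx)
  have c := MonoidHom.ker_transferSylow_isComplement' S hP
  have e : pPrimeCore 2 K = ⊥ := (map_eq_bot_iff_of_injective _ K.subtype_injective).1 o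
  rw [eq_bot_iff.2 ((H1.le_pPrimeCore_of_not_dvd (MonoidHom.not_dvd_card_ker_transferSylow S hP)).trans e.le),
    isComplement'_bot_left] at c
  exact fun x hx => show (⟨x, hx⟩ : K) ∈ P.subgroupOf K from hS ▸ c.ge (mem_top _)

theorem climb {N T : Subgroup M} (hn : ∀ y ∈ T, ∀ x ∈ N, y * x * y⁻¹ ∈ N) {q : M → Prop} (q1 : q 1) {x : M}
    (hx : x ∈ N) (h : ¬ q x) : ∃ x ∈ N, ¬ q x ∧ ∀ y ∈ T, q (x * y * x⁻¹ * y⁻¹) := by
  have : Group.IsNilpotent M := (IsPGroup.of_card card_M).isNilpotent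
  obtain ⟨n, e⟩ := Group.IsNilpotent.nilpotent M
  have m : x ∈ Subgroup.upperCentralSeries M n := e.ge (mem_top x)
  clear e
  induction n generalizing x with
  | zero => exact absurd (mem_bot.1 m ▸ q1) h
  | succ n ih =>
    by_cases c : ∀ y ∈ T, q (x * y * x⁻¹ * y⁻¹)
    · exact ⟨x, hx, h, c⟩
    · push Not at c
      obtain ⟨y, hy, c⟩ := c
      refine ih ?_ c (Subgroup.mem_upperCentralSeries_succ_iff.1 m y)
      rw [mul_assoc x, mul_assoc x]
      exact mul_mem hx (hn y hy _ (inv_mem hx))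

theorem sign_d : ∀ i : Fin 7, i ≠ 6 → Equiv.Perm.sign (w (dd i 6)).s = -1 := by decide +kernel

theorem mem_T0 {x : M} : x ∈ T0 ↔ Equiv.Perm.sign (w x).s = 1 := Equiv.Perm.mem_alternatingGroup

theorem c_T0 : c ∈ T0 := mem_T0.2 (by decide +kernel)
theorem m5_T0 : m 5 0 ∈ T0 := mem_T0.2 (by decide +kernel)
theorem cm5 : c * m 5 0 * c⁻¹ * (m 5 0)⁻¹ = z4 := by decide +kernel

variable (l : LG ι π)
include l

theorem exists_chi : ∃ χ : G →* ℤˣ, ∀ g ∈ NF ι, χ g = Equiv.Perm.sign (π g).s := by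
  let e := MonoidHom.ofInjective l.sy.inj
  let φ : ι.range →* ℤˣ := (Equiv.Perm.sign.comp (sB.comp w)).comp e.symm.toMonoidHom
  have hφ : ∀ (x : M) (g : G) (hg : g ∈ ι.range), ι x = g → φ ⟨g, hg⟩ = Equiv.Perm.sign (w x).s := by
    rintro x _ hg rfl
    have : e.symm ⟨ι x, hg⟩ = x := (MulEquiv.symm_apply_eq e).2 rfl
    exact congrArg (fun t => Equiv.Perm.sign (w t).s) this
  have y2 : dd 4 6 * dd 4 6 = 1 := by decide
  have ht : ι (dd 4 6) ∈ ι.range := ⟨_, rfl⟩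
  obtain ⟨V, hV⟩ := H89.G2S.transfer_invol l.sy.syl φ ht
    (by rw [← map_mul, y2, map_one]) fun g hg => by
      obtain ⟨y, e1⟩ := id hg
      have p : Cj ι g (dd 4 6) y := e1.symm
      obtain ⟨k, hk, u, q⟩ := l.toFr.intoE y (l.sy.sq p y2)
      obtain ⟨i, hi, e2⟩ := l.iso u ⟨_, p.comp q⟩
      have r := congrArg (fun b : B => Equiv.Perm.sign b.s) (l.toFr.down hk q)
      simp only [mul_s, inv_s, map_mul, map_inv, mul_inv_cancel_comm] at r
      rw [hφ y _ hg e1, hφ _ _ _ rfl, r, e2, sign_d i hi, sign_d 4 (by decide)]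
  rw [hφ _ _ _ rfl, sign_d 4 (by decide)] at hV
  have key : ∀ g ∈ NF ι, ∀ g' ∈ NF ι, π g = π g' → V g = V g' := fun g hg g' hg' h => by
    have o := l.ker _ (mul_mem (inv_mem hg) hg') (by
      rw [l.mul _ (inv_mem hg) _ hg', l.toPr.inv hg, h, inv_mul_cancel])
    have p : V (g⁻¹ * g') ^ orderOf (g⁻¹ * g') = 1 := by rw [← map_pow, pow_orderOf_eq_one, map_one]
    rcases Int.units_eq_one_or (V (g⁻¹ * g')) with v | v
    · rwa [map_mul, map_inv, inv_mul_eq_one] at v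
    · rw [v, o.neg_one_pow] at p
      exact absurd p (by decide)
  choose f f1 f2 using l.sur
  let χ : W →* ℤˣ := MonoidHom.mk' (fun b => V (f b b.2)) fun b c => by
    rw [← map_mul]
    exact key _ (f1 _ _) _ (mul_mem (f1 _ _) (f1 _ _)) (by rw [l.mul _ (f1 _ _) _ (f1 _ _), f2, f2, f2]; rfl)
  refine ⟨V, fun g hg => ?_⟩
  rw [← chi_W χ ((key _ (f1 _ _) _ (mem_NF _) (by rw [f2, l.emb, w_46])).trans hV) ⟨π g, l.mem g hg⟩]
  exact key _ hg _ (f1 _ _) (f2 _ _).symm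

theorem lift_mem {K : Subgroup G} [K.Normal] (h1 : g ∈ K) (h2 : g ∈ NF ι) {x : M} (h : π g = w x) :
    ι x ∈ K := by
  have o := l.ker _ (mul_mem (inv_mem (mem_NF x)) h2) (by
    rw [l.mul _ (inv_mem (mem_NF x)) _ h2, l.toPr.inv (mem_NF x), h, l.emb, inv_mul_cancel])
  have e : QuotientGroup.mk' K ((ι x)⁻¹ * g) = (QuotientGroup.mk' K (ι x))⁻¹ := by
    rw [map_mul, map_inv, show QuotientGroup.mk' K g = 1 from (QuotientGroup.eq_one_iff g).2 h1, mul_one]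
  have o2 := o.of_dvd_nat (orderOf_map_dvd (QuotientGroup.mk' K) _)
  rw [e, orderOf_inv] at o2
  obtain ⟨n, hn⟩ := l.sy.syl.isP ⟨ι x, x, rfl⟩
  refine (QuotientGroup.eq_one_iff _).1 (El2.eq_one (x := QuotientGroup.mk' K (ι x)) ⟨n, ?_⟩ o2)
  rw [← map_pow, show ι x ^ 2 ^ n = 1 from congrArg Subtype.val hn, map_one]

theorem mem_Z : g ∈ zpowers (ι z) ↔ g = 1 ∨ g = ι z :=
  H89.G2S.Gen.mem_zp (by rw [← map_mul, show z * z = 1 by decide, map_one])

theorem mem_Z' {x : M} : ι x ∈ zpowers (ι z) ↔ x = 1 ∨ x = z := by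
  rw [mem_Z l, ← map_one ι, l.sy.inj.eq_iff, l.sy.inj.eq_iff]

theorem comm_Z (h : g ∈ zpowers (ι z)) (y : G) : y * g = g * y := by
  rcases (mem_Z l).1 h with rfl | rfl
  exacts [by simp, l.cz y]

theorem nrm_Z : (zpowers (ι z)).Normal := ⟨fun n hn g => by rwa [comm_Z l hn g, mul_inv_cancel_right]⟩

theorem od_bot {L : Subgroup G} [L.Normal] : Od L = ⊥ :=
  eq_bot_iff.2 ((Od_le_Od le_top (normalizer_eq_top L).ge).trans (Od_top.trans l.od).le)

theorem syl (L : Subgroup G) [L.Normal] : IsSylowIn 2 (ι.range ⊓ L) L :=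
  l.sy.syl.inf_normal le_top (normalizer_eq_top L).ge

theorem two {K : Subgroup G} (s : IsSylowIn 2 (ι.range ⊓ K) K) (o : Od K = ⊥) (h : ¬ K ≤ zpowers (ι z)) :
    ∃ x, ι x ∈ K ∧ ¬ (x = 1 ∨ x = z) := by
  by_contra c
  have e : ι.range ⊓ K ≤ zpowers (ι z) := by
    rintro _ ⟨⟨x, rfl⟩, hx⟩
    exact (mem_Z' l).2 (by_contra fun n => c ⟨x, hx, n⟩)
  exact h ((burn s o fun n _ _ x hx => (comm_Z l (e hx) n).symm).trans e)

/-- the image of a subgroup in the Weyl group -/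
def im (K : Subgroup G) : Subgroup B := (K.subgroupOf (NF ι)).map l.toPr.hom

theorem mem_im {K : Subgroup G} {b : B} : b ∈ im l K ↔ ∃ g ∈ NF ι, g ∈ K ∧ π g = b :=
  ⟨fun ⟨g, h, e⟩ => ⟨g, g.2, h, e⟩, fun ⟨g, h, h', e⟩ => ⟨⟨g, h⟩, h', e⟩⟩

theorem im_W (K : Subgroup G) : im l K ≤ W := fun _ hb => by
  obtain ⟨g, h, -, rfl⟩ := (mem_im l).1 hb
  exact l.mem g h

theorem im_nrm (K : Subgroup G) [n : K.Normal] : ∀ c ∈ W, ∀ r ∈ im l K, c * r * c⁻¹ ∈ im l K := fun c hc r hr => by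
  obtain ⟨g, h, h', rfl⟩ := (mem_im l).1 hr
  obtain ⟨k, hk, rfl⟩ := l.sur c hc
  exact (mem_im l).2 ⟨_, mul_mem (mul_mem hk h) (inv_mem hk), n.conj_mem g h' k, l.toPr.conj hk h⟩

theorem w_im {K : Subgroup G} [K.Normal] {x : M} : w x ∈ im l K ↔ ι x ∈ K :=
  ⟨fun h => by obtain ⟨g, h1, h2, e⟩ := (mem_im l).1 h; exact lift_mem l h2 h1 e,
    fun h => (mem_im l).2 ⟨_, mem_NF x, h, l.emb x⟩⟩

theorem FF_le {K : Subgroup G} [K.Normal] (h : ¬ K ≤ zpowers (ι z)) {x : M} (hx : x ∈ FF) : ι x ∈ K := by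
  obtain ⟨y, hy, n⟩ := two l (syl l K) (od_bot l) h
  exact (w_im l).1 (FB_le (im_W l K) (im_nrm l K) ((w_im l).2 hy)
    (fun e => n (Or.inl (w_inj (e.trans (map_one w).symm)))) (fun e => n (Or.inr (w_inj (e.trans w_z.symm))))
    ⟨w_W x, (w_FF x).1 hx⟩)

theorem second {K L : Subgroup G} [L.Normal] (hT : ∀ x ∈ T0, ι x ∈ L) (h1 : K ≤ L)
    (h2 : ∀ y ∈ L, ∀ x ∈ K, y * x * y⁻¹ ∈ K) (h : ¬ K ≤ zpowers (ι z)) : ι z2 ∈ K ∨ ι z4 ∈ K := by
  have n : L ≤ 𝐍(K) := fun y hy => mem_normalizer_fintype (h2 y hy)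
  have s := (syl l L).inf_normal h1 n
  rw [inf_assoc, inf_eq_right.2 h1] at s
  obtain ⟨x, hx, n1⟩ := two l s (eq_bot_iff.2 ((Od_le_Od h1 n).trans (od_bot l).le)) h
  obtain ⟨x, hx, n1, n2⟩ := climb (N := K.comap ι) (T := T0) (fun y hy x hx => by
    rw [mem_comap, map_mul, map_mul, map_inv]; exact h2 _ (hT y hy) _ hx)
    (q := fun x => x = 1 ∨ x = z) (Or.inl rfl) hx n1
  rcases ZT x n2 with e | e | rfl | rfl
  exacts [absurd (Or.inl e) n1, absurd (Or.inr e) n1, Or.inl hx, Or.inr hx]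

theorem cen {L : Subgroup G} [L.Normal] (hT : ∀ x ∈ T0, ι x ∈ L) (y : G)
    (h : ∀ k ∈ L, y * k * y⁻¹ * k⁻¹ ∈ zpowers (ι z)) : y ∈ zpowers (ι z) := by
  have := nrm_Z l
  let q := QuotientGroup.mk' (zpowers (ι z))
  have : (L.map q).Normal := Normal.map inferInstance q (QuotientGroup.mk'_surjective _)
  have mC : ∀ y, y ∈ (centralizer (L.map q : Set _)).comap q ↔ ∀ k ∈ L, y * k * y⁻¹ * k⁻¹ ∈ zpowers (ι z) := by
    intro y
    have e : ∀ k, y * k * y⁻¹ * k⁻¹ ∈ zpowers (ι z) ↔ q k * q y = q y * q k := fun k => by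
      rw [← QuotientGroup.eq_one_iff, ← QuotientGroup.mk'_apply, map_mul, map_mul, map_mul, map_inv, map_inv,
        mul_inv_eq_one, mul_inv_eq_iff_eq_mul, eq_comm]
    exact ⟨fun h k hk => (e k).2 (h _ ⟨k, hk, rfl⟩), by rintro h _ ⟨k, hk, rfl⟩; exact (e k).1 (h k hk)⟩
  by_contra n
  have := (mC _).1 (FF_le l (K := (centralizer (L.map q : Set _)).comap q) (fun e => n (e ((mC y).2 h)))
    (x := c) (by decide)) _ (hT _ m5_T0)
  rw [← map_inv, ← map_inv, ← map_mul, ← map_mul, ← map_mul, cm5, mem_Z' l] at this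
  exact absurd this (by decide)

theorem auto_C1 : True := by have := @im.eq_1; trivial

end C1
open C1

theorem LG.c1 (l : LG ι π) : NF ι = ⊤ ∨ ∃ L, KD ι π L := by
  obtain ⟨χ, hχ⟩ := exists_chi l
  have hT : ∀ x, ι x ∈ χ.ker ↔ x ∈ T0 := fun x => by
    rw [MonoidHom.mem_ker, hχ _ (mem_NF x), l.emb, mem_T0]
  obtain ⟨L, ⟨nL, L0, LZ⟩, mn⟩ := wellFounded_lt.has_min
    {K : Subgroup G | K.Normal ∧ K ≤ χ.ker ∧ ¬ K ≤ zpowers (ι z)}
    ⟨χ.ker, inferInstance, le_rfl, fun e => absurd ((mem_Z' l).1 (e ((hT c).2 c_T0))) (by decide)⟩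
  have mn' : ∀ K : Subgroup G, K.Normal → K ≤ L → ¬ K ≤ zpowers (ι z) → K = L := fun K a b c =>
    by_contra fun n => mn K ⟨a, b.trans L0, c⟩ (lt_of_le_of_ne b n)
  by_cases hs : ∀ r ∈ im l L, r.s = 1
  · left
    have e : ι.range ⊓ L = FF.map ι := le_antisymm (by
      rintro _ ⟨⟨x, rfl⟩, hx⟩
      exact mem_map_of_mem ι ((w_FF x).2 (hs _ ((w_im l).2 hx))))
      (le_inf (map_le_range ι _) (by rintro _ ⟨x, hx, rfl⟩; exact FF_le l LZ hx))
    have s := syl l L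
    rw [e] at s
    have e2 : FF.map ι = L := le_antisymm s.le (burn s (od_bot l) (by
      rintro n hn hn' _ ⟨x, hx, rfl⟩
      obtain ⟨x', -, p⟩ := img hn' hx
      have d := l.toFr.down hn' p
      rw [comm_of_s (hs _ ((mem_im l).2 ⟨n, hn', hn, rfl⟩)) ((w_FF x).1 hx), mul_inv_cancel_right] at d
      obtain rfl := w_inj d
      exact (mul_inv_eq_iff_eq_mul.1 p.eq).symm))
    rw [NF, e2]
    exact normalizer_eq_top L
  push Not at hs
  obtain ⟨r, hr, ne⟩ := hs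
  have cov : ∀ b ∈ W, b.s ∈ alternatingGroup I → b ∈ im l L := fun b hb h =>
    W0_le (im_W l L) (im_nrm l L) hr ne hb h
  have TL : ∀ x ∈ T0, ι x ∈ L := fun x hx => (w_im l).1 (cov _ (w_W x) hx)
  have perf : ⁅L, L⁆ = L := mn' _ inferInstance (commutator_le_left L L) fun e => by
    have := e (commutator_mem_commutator (TL _ c_T0) (TL _ m5_T0))
    rw [commutatorElement_def, ← map_inv, ← map_inv, ← map_mul, ← map_mul, ← map_mul, cm5, mem_Z' l] at this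
    exact absurd this (by decide)
  refine Or.inr ⟨L, l, nL, perf, fun x => ⟨fun h => (hT x).1 (L0 h), TL x⟩, fun K h1 h2 => ?_, cen l TL,
    fun b hb h => (mem_im l).1 (cov b hb h)⟩
  refine or_iff_not_imp_left.2 fun n => le_antisymm h1 ?_
  have := nrm_Z l
  have zL : zpowers (ι z) ≤ L := zpowers_le.2 (FF_le l LZ (by decide))
  have e : (K ⊔ zpowers (ι z)).normalCore = L := by
    refine mn' _ inferInstance ((normalCore_le _).trans (sup_le h1 zL)) fun e => ?_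
    refine absurd ((mem_Z' l (x := z2)).1 (e fun h => ?_)) (by decide)
    have hm : ∀ x, x ∈ K.comap (MulAut.conj h).toMonoidHom ↔ h * x * h⁻¹ ∈ K := fun _ => Iff.rfl
    rcases second l TL (K := K.comap (MulAut.conj h).toMonoidHom)
      (fun x hx => by simpa [mul_assoc] using nL.conj_mem _ (h1 ((hm x).1 hx)) h⁻¹)
      (fun y hy x hx => (hm _).2 (by
        have := conj_mem_of_mem_normalizer (h2 (nL.conj_mem y hy h)) ((hm x).1 hx)
        convert this using 1; group))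
      (fun e => n fun x hx => by
        have := this.conj_mem _ (e ((hm (h⁻¹ * x * h)).2 (by simpa [mul_assoc] using hx))) h
        simpa [mul_assoc] using this) with v | v
    · exact mem_sup_left v
    · have e : h * ι z2 * h⁻¹ = h * ι z4 * h⁻¹ * ι z := by
        rw [show z2 = z4 * z by decide, map_mul, mul_assoc (h * _), l.cz h⁻¹, ← mul_assoc, ← mul_assoc]
      exact e ▸ mul_mem (mem_sup_left v) (mem_sup_right (mem_zpowers _))
  have e2 : L ≤ K ⊔ zpowers (ι z) := e.ge.trans (normalCore_le _)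
  rw [← perf, commutator_le]
  intro x hx y hy
  obtain ⟨x1, a1, x2, a2, rfl⟩ := mem_sup_of_normal_right.1 (e2 hx)
  obtain ⟨y1, b1, y2, b2, rfl⟩ := mem_sup_of_normal_right.1 (e2 hy)
  have : ⁅x1 * x2, y1 * y2⁆ = ⁅x1, y1⁆ := by
    simp only [commutatorElement_def, mul_inv_rev]
    calc _ = x1 * (x2 * (y1 * y2) * x2⁻¹) * x1⁻¹ * y2⁻¹ * y1⁻¹ := by group
      _ = x1 * y1 * (y2 * x1⁻¹ * y2⁻¹) * y1⁻¹ := by rw [← comm_Z l a2, mul_inv_cancel_right]; group
      _ = _ := by rw [← comm_Z l b2, mul_inv_cancel_right]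
  rw [this, commutatorElement_def]
  exact mul_mem (mul_mem (mul_mem a1 b1) (inv_mem a1)) (inv_mem b1)

end H24.T12
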