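import Cfsg.Agent.Lib.A12.Defs2
import Cfsg.Agent.Lib.A12.FW
import Cfsg.Agent.S2037
import Cfsg.Agent.S2047
import Cfsg.Agent.S1664
/-! Package C2b of `blueprint/A12/README.md`. -/
set_option autoImplicit false
namespace H24.T12
open Subgroup H1.A10 H45 H69 Gold Cfsg

variable {G : Type} [Group G] [Finite G] {ι : M →* G} {π : G → B} {g k : G}

namespace C2b

/-- the number of fixed points -/
def nf {n : ℕ} (σ : Equiv.Perm (Fin n)) : ℕ := (Finset.univ.filter fun i => σ i = i).card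

theorem nf_conj {n : ℕ} (τ σ : Equiv.Perm (Fin n)) : nf (τ * σ * τ⁻¹) = nf σ :=
  (Finset.card_equiv τ fun i => by
    rw [Finset.mem_filter, Finset.mem_filter]; simp).symm

theorem nf_one {n : ℕ} : nf (1 : Equiv.Perm (Fin n)) = n := by simp [nf]

theorem nf_le {n : ℕ} (σ : Equiv.Perm (Fin n)) : nf σ ≤ n :=
  (Finset.card_le_univ _).trans (Fintype.card_fin n).le

theorem nf_eq {n : ℕ} {σ : Equiv.Perm (Fin n)} (h : nf σ = n) : σ = 1 := by
  have := (Finset.card_eq_iff_eq_univ _).1 (h.trans (Fintype.card_fin n).symm)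
  exact Equiv.ext fun i => (Finset.mem_filter.1 (this.ge (Finset.mem_univ i))).2

theorem burn {V : Type} [Group V] [Finite V] {n : ℕ} (f : V →* Equiv.Perm (Fin n)) {u x0 : V} (u1 : u ≠ 1)
    (fu : f u = 1) (h : ∀ x, x ≠ 1 → x ≠ u → nf (f x) = nf (f x0)) (c : 2 * n < Nat.card V) : f x0 = 1 := by
  classical
  letI := Fintype.ofFinite V
  letI : MulAction V (Fin n) := MulAction.compHom (Fin n) f
  have b := MulAction.sum_card_fixedBy_eq_card_orbits_mul_card_group V (Fin n)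
  have e : ∀ x : V, Fintype.card (MulAction.fixedBy (Fin n) x) =
      nf (f x0) + ((if x = 1 then n - nf (f x0) else 0) + if x = u then n - nf (f x0) else 0) := fun x => by
    have e1 : Fintype.card (MulAction.fixedBy (Fin n) x) = nf (f x) := by
      rw [nf, ← Fintype.card_subtype]
      exact Fintype.card_congr (Equiv.refl _)
    have := nf_le (f x0)
    rw [e1]
    by_cases h1 : x = 1
    · rw [if_pos h1, if_neg (h1 ▸ u1.symm), h1, map_one, nf_one]; omega
    by_cases h2 : x = u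
    · rw [if_neg h1, if_pos h2, h2, fu, nf_one]; omega
    · rw [if_neg h1, if_neg h2, h x h1 h2]; rfl
  simp only [e, Finset.sum_add_distrib, Finset.sum_ite_eq', Finset.mem_univ, if_true, Finset.sum_const,
    Finset.card_univ, smul_eq_mul] at b
  have d : Fintype.card V ∣ n - nf (f x0) + (n - nf (f x0)) :=
    (Nat.dvd_add_right (dvd_mul_right _ _)).1 (b ▸ dvd_mul_left _ _)
  rw [Nat.card_eq_fintype_card] at c
  have := Nat.eq_zero_of_dvd_of_lt d (by omega)
  have := nf_le (f x0)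
  exact nf_eq (by omega)

/-- the elements of `FF` -/
def el (i : Fin 32) : M := m (3 * (i.1 % 2) + 12 * (i.1 / 2 % 2) + 48 * (i.1 / 4 % 2)) (i.1 / 8 % 2 + 4 * (i.1 / 16))

theorem card_FF : 32 ≤ Nat.card FF := by
  have h1 : ∀ i, el i ∈ FF := by decide +kernel
  have h2 : ∀ i j, el i = el j → i = j := by decide +kernel
  have := Nat.card_le_card_of_injective (fun i => (⟨el i, h1 i⟩ : FF)) fun i j e => h2 i j (congrArg Subtype.val e)
  rwa [Nat.card_fin] at this

theorem duad : ∀ x : M, x ∈ FF → x ≠ 1 → x ≠ z → ∃ i j : I, i ≠ j ∧ (w x = e i j ∨ w (x * z) = e i j) := by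
  decide +kernel

theorem evp : ∀ i j : I, i ≠ j → ∃ a b c d : I, a ≠ b ∧ c ≠ d ∧ Equiv.swap a b (Equiv.swap c d 0) = i ∧
    Equiv.swap a b (Equiv.swap c d 2) = j := by
  decide +kernel

theorem FF_T {x : M} (h : x ∈ FF) : x ∈ T0 := by
  change (w x).s ∈ alternatingGroup I
  rw [(w_FF x).1 h]; exact one_mem _

variable {L : Subgroup G} {K : Type} [Group K] {κ : L →* K}

theorem zp (l : KD ι π L) {x : M} (h : ι x ∈ zpowers (ι z)) : x = 1 ∨ x = z := by
  obtain ⟨n, hn⟩ := h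
  have hn' : z ^ n = x := l.sy.inj (by rw [map_zpow]; exact hn)
  have z2 : z ^ (2 : ℤ) = 1 := by decide +kernel
  rcases Int.even_or_odd' n with ⟨k, rfl | rfl⟩
  · left; rw [← hn', zpow_mul, z2, one_zpow]
  · right; rw [← hn', zpow_add, zpow_mul, z2, one_zpow, one_mul, zpow_one]

theorem alt (l : KD ι π L) (q : KQ ι L κ) {n : ℕ} (hn : n < 16) (θ : K ≃* alternatingGroup (Fin n)) : False := by
  let j : FF →* L := (ι.comp FF.subtype).codRestrict L fun x => (l.memL x).2 (FF_T x.2)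
  let ρ : L →* Equiv.Perm (Fin n) := (alternatingGroup (Fin n)).subtype.comp (θ.toMonoidHom.comp κ)
  have zF : z ∈ FF := by decide +kernel
  have cF : c ∈ FF := by decide +kernel
  have kz : κ (j ⟨z, zF⟩) = 1 := (q.ker _).2 (mem_zpowers _)
  have fz : (ρ.comp j) ⟨z, zF⟩ = 1 := by
    change ((θ (κ (j ⟨z, zF⟩)) : alternatingGroup (Fin n)) : Equiv.Perm (Fin n)) = 1
    rw [kz, map_one]; rfl
  have key : ∀ x : FF, ∀ x' : M, x.1 = x' → ∀ a b : I, a ≠ b → w x' = e a b →
      nf ((ρ.comp j) x) = nf ((ρ.comp j) ⟨c, cF⟩) := fun x x' hx' a b ab hx => by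
      subst hx'
      obtain ⟨a1, a2, a3, a4, h1, h2, h3, h4⟩ := evp a b ab
      obtain ⟨g, gN, gL, hg⟩ := l.cov (bl (Equiv.swap a1 a2 * Equiv.swap a3 a4)) (bl_W _) (by
        rw [bl_s, Equiv.Perm.mem_alternatingGroup, map_mul, Equiv.Perm.sign_swap h1, Equiv.Perm.sign_swap h2]
        decide)
      obtain ⟨y, hy, ey⟩ := (mem_normalizer_iff.1 gN (ι c)).1 ⟨c, cF, rfl⟩
      have d := l.toFr.down gN (x := c) (y := y) ey.symm
      rw [hg, w_c, conj_e, bl_s, Equiv.Perm.mul_apply, Equiv.Perm.mul_apply, h3, h4, ← hx] at d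
      have e2 : j x = ⟨g, gL⟩ * j ⟨c, cF⟩ * ⟨g, gL⟩⁻¹ := Subtype.ext (by
        change ι x = g * ι c * g⁻¹
        rw [w_inj d, ey])
      rw [MonoidHom.comp_apply, e2, map_mul, map_mul, map_inv, nf_conj]
      rfl
  have := burn (ρ.comp j) (u := ⟨z, zF⟩) (x0 := ⟨c, cF⟩) (fun d => (by decide +kernel : z ≠ 1) (congrArg Subtype.val d))
    fz (fun x h1 h2 => by
      obtain ⟨a, b, ab, h | h⟩ := duad x x.2 (fun d => h1 (Subtype.ext d)) (fun d => h2 (Subtype.ext d))
      · exact key x _ rfl a b ab h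
      · have k := key (x * ⟨z, zF⟩) (x.1 * z) (coe_mul FF x ⟨z, zF⟩) a b ab h
        rwa [map_mul (ρ.comp j), fz, mul_one] at k)
    (lt_of_lt_of_le (by omega) card_FF)
  have h1 : κ (j ⟨c, cF⟩) = 1 := θ.injective (by rw [map_one]; exact Subtype.ext this)
  rcases zp l (x := c) ((q.ker _).1 h1) with d | d <;> exact absurd d (by decide +kernel)

theorem stem (l : KD ι π L) (q : KQ ι L κ) {Y : Type} [Group Y] (θ : K ≃* Y) {n : ℕ} (hn : Odd n)
    (h : HasCyclicSchurMultiplier Y n) : False := by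
  have zL : ι z ∈ L := (l.memL z).2 (FF_T (by decide +kernel))
  have kk : ∀ x : L, x ∈ (θ.toMonoidHom.comp κ).ker ↔ (x : G) ∈ zpowers (ι z) := fun x => by
    rw [← q.ker, MonoidHom.mem_ker, MonoidHom.comp_apply]
    exact θ.map_eq_one_iff
  obtain ⟨p, hp⟩ := h.2 L (θ.toMonoidHom.comp κ) ⟨θ.surjective.comp q.sur, fun x hx => by
    obtain ⟨k, hk⟩ := (kk x).1 hx
    exact mem_center_iff.2 fun y => Subtype.ext (by
      rw [coe_mul, coe_mul, ← hk]
      exact (Commute.zpow_right (l.cz y) k).eq), fun x _ => by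
    have : (commutator L).map L.subtype = L := by
      rw [commutator_def, map_commutator, ← MonoidHom.range_eq_map, range_subtype, l.perf]
    obtain ⟨y, hy, e⟩ := this.ge x.2
    rwa [← (Subtype.ext e : y = x)]⟩
  obtain ⟨a, ha⟩ := hp ⟨⟨ι z, zL⟩, (kk _).2 (mem_zpowers _)⟩
  have h1 : a ^ n = 1 := by
    rw [← ofAdd_toAdd a, ← ofAdd_nsmul, nsmul_eq_mul, ZMod.natCast_self, zero_mul, ofAdd_zero]
  have h2 : (ι z) ^ n = 1 := by
    have h3 := congrArg p h1
    rw [map_pow, ha, map_one] at h3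
    exact congrArg (fun t : (θ.toMonoidHom.comp κ).ker => ((t : L) : G)) h3
  obtain ⟨k, rfl⟩ := hn
  have z2 : z ^ 2 = 1 := by decide +kernel
  rw [← map_pow, pow_succ, pow_mul, z2, one_pow, one_mul, ← map_one ι] at h2
  exact absurd (l.sy.inj h2) (by decide +kernel)

end C2b

theorem KD.c2b {L : Subgroup G} (l : KD ι π L) {K : Type} [Group K] [Finite K] {κ : L →* K} (q : KQ ι L κ) :
    ¬ Nonempty (K ≃* alternatingGroup (Fin 10)) ∧ ¬ Nonempty (K ≃* alternatingGroup (Fin 11)) ∧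
      ¬ IsM23 K ∧ ¬ Spor.IsoMcL K := by
  refine ⟨fun ⟨θ⟩ => C2b.alt l q (by norm_num) θ, fun ⟨θ⟩ => C2b.alt l q (by norm_num) θ, fun h => ?_,
    fun ⟨θ⟩ => C2b.stem l q θ (by decide) Cfsg.Agent.S2047.result⟩
  obtain ⟨θ⟩ := Cfsg.Agent.S1664.result h
  exact C2b.stem l q θ (by decide) Cfsg.Agent.S2037.result

end H24.T12
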