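import Cfsg.Agent.Lib.A12.Defs2
import Cfsg.Agent.S1663
import Cfsg.Agent.Lib.Golay.Out
import Cfsg.Agent.Lib.M24Geom.ClsM22
/-! Package M22X of `blueprint/A12/README.md`. -/
set_option autoImplicit false
set_option maxRecDepth 100000
namespace H24.T12
open Subgroup H1.A10 H45 H69 Gold Cfsg

variable {G : Type} [Group G] [Finite G] {ι : M →* G} {π : G → B} {g k : G}

namespace M22X

open H15 H96.Geo H96.Geo.M22

/-- an outer involution commuting with the representative of order three -/
def sgC : ℕ := 28745999582956363952437800828445271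

def kL : List ℕ := [962465527437159883428756333548317824, 984795268176065959308279974439726400,
  960149090072483472881125030842027040, 960145485648894383666183662144372864,
  967650337439401564346633699172489248, 967641146943648945340526254965754176]

def pZ (z : ℕ) : Bool := H15.force (mulP sgC z) fun s => H15.force (mulP s s) fun t =>
  decide ((∀ y ∈ gensM22, mulP t y = mulP y t) → ∃ k ∈ kL, mulP s k = mulP k sgC)

theorem chk : H54.allElts cfg24 pZ z3A cfg24.one = true := by decide +kernel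

theorem gS : H15.Good M22ext sgC := good_M22ext (by decide +kernel) (by decide +kernel)

theorem swap_of {s : Equiv.Perm GolayPt} (hs : s ∈ M22ext) (hn : s ∉ Spor.M22) :
    s none = some 0 ∧ s (some 0) = none := by
  have h1 : s none ∈ ({none, some 0} : Finset GolayPt) := (apply_mem_of_smul_eq hs.2).2 (by simp)
  have h2 : s (some 0) ∈ ({none, some 0} : Finset GolayPt) := (apply_mem_of_smul_eq hs.2).2 (by simp)
  have h3 : s none ≠ s (some 0) := fun e => by simpa using s.injective e
  rw [Finset.mem_insert, Finset.mem_singleton] at h1 h2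
  rcases h1 with h1 | h1 <;> rcases h2 with h2 | h2
  · exact (h3 (h1.trans h2.symm)).elim
  · exact (hn ⟨⟨hs.1, h1⟩, h2⟩).elim
  · exact ⟨h1, h2⟩
  · exact (h3 (h1.trans h2.symm)).elim

theorem core0 {s : Equiv.Perm GolayPt} (hs : s ∈ M22ext) (hn : s ∉ Spor.M22)
    (h2 : ∀ y ∈ Spor.M22, s * s * y = y * (s * s)) (hc : s * permOf c3A = permOf c3A * s) :
    ∃ k ∈ Spor.M22, s = k * permOf sgC * k⁻¹ := by
  have o3 : okP c3A = true := by decide +kernel
  have σ2 : permOf sgC * permOf sgC = 1 := by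
    rw [permOf_mul_eq gS.1 gS.1 (c := idP) (by decide +kernel), permOf_idP]
  have σc : permOf sgC * permOf c3A = permOf c3A * permOf sgC :=
    (mulP_eq_iff gS.1 o3 o3 gS.1).1 (by decide +kernel)
  have σ1 : permOf sgC (some 0) = none := by
    show permOf sgC (H15.pt 0) = H15.pt 23
    rw [permOf_pt gS.1 (by norm_num)]
    decide +kernel
  have σ0 : permOf sgC none = some 0 := by
    show permOf sgC (H15.pt 23) = H15.pt 0
    rw [permOf_pt gS.1 (by norm_num)]
    decide +kernel
  obtain ⟨e1, e2⟩ := swap_of hs hn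
  have hz : permOf sgC * s ∈ Spor.M22 ⊓ centralizer {permOf c3A} := by
    refine ⟨⟨⟨mul_mem gS.2.1 hs.1, ?_⟩, ?_⟩, mem_centralizer_singleton_iff.2 ?_⟩
    · show permOf sgC (s none) = none
      rw [e1, σ1]
    · show permOf sgC (s (some 0)) = some 0
      rw [e2, σ0]
    · rw [mul_assoc, hc, ← mul_assoc, σc, mul_assoc]
  obtain ⟨z, oz, ez, pz⟩ := forall_elts cent3A.1 chk _ hz
  rw [pZ, H15.force_eq, H15.force_eq] at pz
  have os := okP_mulP gS.1 oz
  have es : permOf (mulP sgC z) = s := by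
    rw [permOf_mulP gS.1 oz, ez, ← mul_assoc, σ2, one_mul]
  obtain ⟨k, hk, e⟩ := of_decide_eq_true pz fun y hy => by
    have gy := gensM22_good y hy
    rw [mulP_eq_iff (okP_mulP os os) gy.1 gy.1 (okP_mulP os os), permOf_mulP os os, es]
    exact h2 _ gy.2
  have gk : H15.Good Spor.M22 k :=
    good_M22 (by clear e; revert k; decide +kernel) (by clear e; revert k; decide +kernel)
      (by clear e; revert k; decide +kernel)
  rw [mulP_eq_iff os gk.1 gk.1 gS.1, es] at e
  exact ⟨_, gk.2, eq_mul_inv_of_mul_eq e⟩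

theorem core {φ : MulAut Spor.M22} (h2 : φ * φ = 1) (ho : ∀ k, φ ≠ MulAut.conj k) {x : Spor.M22}
    (hx : orderOf x = 3) (hf : φ x = x) : ∃ k : Spor.M22, ∀ y : Spor.M22,
      (φ y : Equiv.Perm GolayPt) = (k * permOf sgC * k⁻¹) * y * (k * permOf sgC * k⁻¹)⁻¹ := by
  obtain ⟨s, hs, e⟩ := aut_M22 φ
  have hn : s ∉ Spor.M22 := fun h => ho ⟨s, h⟩ (MulEquiv.ext fun y => Subtype.ext (e y))
  obtain ⟨c, hc, h1, -, g, hg, eg⟩ := table.data x.2
  have c3 : c.c = c3A := by
    rw [orderOf_coe, hx] at h1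
    have : ∀ c ∈ cls, 3 = c.o → c.c = c3A := by decide +kernel
    exact this c hc h1
  rw [c3] at eg
  have hge := M22_le_ext hg
  obtain ⟨k, hk, ek⟩ := core0 (s := g⁻¹ * s * g) (mul_mem (mul_mem (inv_mem hge) hs) hge)
    (fun h => hn (by
      have := mul_mem (mul_mem hg h) (inv_mem hg)
      convert this using 1
      group))
    (fun y hy => by
      have h3 : φ (φ ⟨g * y * g⁻¹, mul_mem (mul_mem hg hy) (inv_mem hg)⟩) =
          ⟨g * y * g⁻¹, mul_mem (mul_mem hg hy) (inv_mem hg)⟩ := by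
        rw [← MulAut.mul_apply, h2, MulAut.one_apply]
      have h4 := congrArg Subtype.val h3
      rw [e, e] at h4
      dsimp only at h4
      calc g⁻¹ * s * g * (g⁻¹ * s * g) * y
          = g⁻¹ * (s * (s * (g * y * g⁻¹) * s⁻¹) * s⁻¹) * (s * s * g) := by group
        _ = y * (g⁻¹ * s * g * (g⁻¹ * s * g)) := by rw [h4]; group)
    (by
      have h4 := e x
      rw [hf, ← eg] at h4
      calc g⁻¹ * s * g * permOf c3A = g⁻¹ * (s * (g * permOf c3A * g⁻¹) * s⁻¹) * (s * g) := by group
        _ = permOf c3A * (g⁻¹ * s * g) := by rw [← h4]; group)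
  refine ⟨⟨g * k, mul_mem hg hk⟩, fun y => ?_⟩
  have : s = g * k * permOf sgC * (g * k)⁻¹ := by
    calc s = g * (g⁻¹ * s * g) * g⁻¹ := by group
      _ = _ := by rw [ek]; group
  rw [e y, this]
  rfl

end M22X

theorem m22x {K : Type} [Group K] [Finite K] (hK : IsM22 K) {α β : MulAut K} (α2 : α * α = 1) (β2 : β * β = 1)
    (αo : ∀ k, α ≠ MulAut.conj k) (βo : ∀ k, β ≠ MulAut.conj k) {x y : K} (hx : orderOf x = 3) (hy : orderOf y = 3)
    (αx : α x = x) (βy : β y = y) : ∃ k, β = MulAut.conj k * α * (MulAut.conj k)⁻¹ := by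
  obtain ⟨e⟩ := Cfsg.Agent.S1663.result hK
  have tr : ∀ {γ : MulAut K} {z : K}, γ * γ = 1 → (∀ k, γ ≠ MulAut.conj k) → orderOf z = 3 → γ z = z →
      ∃ k : Spor.M22, ∀ y : K, (e (γ y) : Equiv.Perm GolayPt) =
        (k * H15.permOf M22X.sgC * k⁻¹) * e y * (k * H15.permOf M22X.sgC * k⁻¹)⁻¹ := by
    intro γ z h2 ho hz hf
    obtain ⟨k, hk⟩ := M22X.core (φ := MulAut.congr e γ) (x := e z) (by rw [← map_mul, h2, map_one])
      (fun k h => ho (e.symm k) (MulEquiv.ext fun w => e.injective (by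
        have := MulEquiv.congr_fun h (e w)
        simpa using this)))
      (by rw [e.orderOf_eq, hz]) (by simp [hf])
    exact ⟨k, fun w => by simpa using hk (e w)⟩
  obtain ⟨a, ha⟩ := tr α2 αo hx αx
  obtain ⟨b, hb⟩ := tr β2 βo hy βy
  refine ⟨e.symm (b * a⁻¹), MulEquiv.ext fun w => e.injective (Subtype.ext ?_)⟩
  rw [hb, MulAut.mul_apply, MulAut.mul_apply, MulAut.conj_inv_apply, MulAut.conj_apply]
  simp only [map_mul, map_inv, MulEquiv.apply_symm_apply, coe_mul, coe_inv]
  simp only [ha, map_inv, MulEquiv.apply_symm_apply, Subgroup.coe_inv, InvMemClass.coe_inv]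
  group

end H24.T12
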