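import Cfsg.Agent.Lib.A12.Defs2
import Cfsg.Agent.Lib.A12.FW
import Cfsg.Agent.Lib.A12.M22X
/-! Package C3 of `blueprint/A12/README.md`. -/
set_option autoImplicit false
set_option linter.unusedSectionVars false
namespace H24.T12
open Subgroup H1.A10 H45 H69 Gold Cfsg

variable {G : Type} [Group G] [Finite G] {ι : M →* G} {π : G → B} {g k : G}

namespace C3H

variable {L : Subgroup G} {K : Type} [Group K] [Finite K] {κ : L →* K}

/-- `y` induces `α` -/
def Ind (κ : L →* K) (y : G) (α : MulAut K) : Prop := ∀ x x' : L, (x' : G) = y * x * y⁻¹ → α (κ x) = κ x'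

theorem exA (l : KD ι π L) (q : KQ ι L κ) (y : G) : ∃ α, Ind κ y α := by
  have := l.nrm
  have hk : κ.ker ≤ (κ.comp (MulAut.conjNormal y : MulAut L).toMonoidHom).ker := by
    intro x hx
    refine (q.ker _).2 ?_
    obtain ⟨j, hj⟩ := (q.ker x).1 hx
    refine ⟨j, ?_⟩
    change ι z ^ j = y * x * y⁻¹
    have c : Commute y (ι z) := l.cz y
    rw [← hj, (c.zpow_right j).eq, mul_inv_cancel_right]
  let f : K →* K := κ.liftOfSurjective q.sur ⟨_, hk⟩
  have hf : ∀ x, f (κ x) = κ (MulAut.conjNormal y x) := fun x =>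
    κ.liftOfRightInverse_comp_apply _ _ ⟨_, hk⟩ x
  have sf : Function.Surjective f := fun b => by
    obtain ⟨x, rfl⟩ := q.sur b
    obtain ⟨x, rfl⟩ := (MulAut.conjNormal y : MulAut L).surjective x
    exact ⟨_, hf x⟩
  refine ⟨MulEquiv.ofBijective f ⟨Finite.injective_iff_surjective.2 sf, sf⟩, fun x x' e => ?_⟩
  exact (hf x).trans (congrArg κ (Subtype.ext e.symm))

theorem Ind.mul (l : KD ι π L) {y y' : G} {α β : MulAut K} (h : Ind κ y α) (h' : Ind κ y' β) :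
    Ind κ (y * y') (α * β) := fun x x' e => by
  rw [MulAut.mul_apply, h' x ⟨_, l.nrm.conj_mem _ x.2 y'⟩ rfl]
  exact h _ _ (by rw [e]; simp only [mul_assoc, mul_inv_rev])

theorem ind_inn (x : L) : Ind κ x (MulAut.conj (κ x)) := fun a a' e => by
  rw [MulAut.conj_apply, ← map_inv, ← map_mul, ← map_mul]
  exact congrArg κ (Subtype.ext e.symm)

theorem Ind.sq (q : KQ ι L κ) {y : G} {α : MulAut K} (h : Ind κ y α) (e : y = 1) : α = 1 :=
  MulEquiv.ext fun b => by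
    obtain ⟨x, rfl⟩ := q.sur b
    exact h x x (by rw [e]; simp)

theorem Ind.eq (l : KD ι π L) (q : KQ ι L κ) {y y' : G} {α : MulAut K} (h : Ind κ y α) (h' : Ind κ y' α) :
    y⁻¹ * y' ∈ zpowers (ι z) := by
  refine l.cen _ fun x hx => ?_
  have m1 := l.nrm.conj_mem _ hx (y⁻¹ * y')
  have m2 := l.nrm.conj_mem _ hx y'
  have e1 := h ⟨_, m1⟩ ⟨_, m2⟩ (by simp only [mul_assoc, mul_inv_rev, inv_inv, mul_inv_cancel_left,
    mul_inv_cancel, mul_one])
  have e2 := h' ⟨_, hx⟩ ⟨_, m2⟩ rfl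
  have e3 := α.injective (e1.trans e2.symm)
  refine (q.ker (⟨_, m1⟩ * ⟨_, hx⟩⁻¹)).1 ?_
  rw [map_mul, map_inv, e3, mul_inv_cancel]

theorem zL (l : KD ι π L) : zpowers (ι z) ≤ L :=
  zpowers_le.2 ((l.memL z).2 (by
    change (w z).s ∈ alternatingGroup I
    rw [w_z]; exact one_mem _))

theorem out (l : KD ι π L) (q : KQ ι L κ) {t : M} (ht : t ∉ T0) {α : MulAut K} (h : Ind κ (ι t) α) (b : K) :
    α ≠ MulAut.conj b := by
  rintro rfl
  obtain ⟨x, rfl⟩ := q.sur b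
  exact ht ((l.memL t).1 ((L.mul_mem_cancel_left (inv_mem x.2)).1 (zL l ((ind_inn x).eq l q h))))

theorem zcase (l : KD ι π L) {y : G} (h : y ∈ zpowers (ι z)) : y = 1 ∨ y = ι z := by
  have zz : ι z * ι z = 1 := by rw [← map_mul, show z * z = 1 by decide, map_one]
  obtain ⟨j, rfl⟩ := h
  rcases Int.even_or_odd' j with ⟨i, rfl | rfl⟩
  · left
    simp only
    rw [zpow_mul, zpow_two, zz, one_zpow]
  · right
    simp only
    rw [zpow_add, zpow_mul, zpow_two, zz, one_zpow, one_mul, zpow_one]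

theorem ex3 (l : KD ι π L) (q : KQ ι L κ) {t : M} {α : MulAut K} (h : Ind κ (ι t) α) {σ : Equiv.Perm I}
    (hs : Equiv.Perm.sign σ = 1) (h3 : (bl σ * bl σ) ^ 3 = 1) (h1 : bl σ * bl σ ≠ 1)
    (c : bl σ * w t = w t * bl σ) : ∃ x : K, orderOf x = 3 ∧ α x = x := by
  have := l.nrm
  have := Fact.mk Nat.prime_three
  obtain ⟨g, gN, gL, e⟩ := l.cov (bl σ) (bl_W σ) (Equiv.Perm.mem_alternatingGroup.2 hs)
  have hR : (zpowers t).map ι ≤ NF ι ⊓ (L ⊔ ι.range) := by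
    rintro _ ⟨x, -, rfl⟩
    exact ⟨mem_NF x, mem_sup_right ⟨x, rfl⟩⟩
  have c' : ∀ x ∈ zpowers t, π g * w x * (π g)⁻¹ = w x := by
    rintro _ ⟨j, rfl⟩
    have c0 : Commute (bl σ) (w t) := c
    simp only
    rw [e, map_zpow, (c0.zpow_right j).eq, mul_inv_cancel_right]
  obtain ⟨k, kN, ek, hk⟩ := l.toFr.fusN (N := NF ι ⊓ (L ⊔ ι.range)) inf_le_left ⟨gN, mem_sup_left gL⟩ hR hR
    fun x hx => ⟨x, hx, c' x hx⟩
  have ck : Commute k (ι t) := mul_inv_eq_iff_eq_mul.1 (hk t (mem_zpowers t) t (c' t (mem_zpowers t)))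
  have kL : k * k ∈ L := by
    obtain ⟨x, hx, _, ⟨s, rfl⟩, rfl⟩ := mem_sup_of_normal_left.1 kN.2
    have m : ι (s * s) ∈ L := (l.memL _).2 (by
      change (w (s * s)).s ∈ alternatingGroup I
      rw [map_mul, mul_s, Equiv.Perm.mem_alternatingGroup, map_mul]
      exact Int.units_mul_self _)
    have e1 : x * ι s * (x * ι s) = x * (ι s * x * (ι s)⁻¹) * ι (s * s) := by rw [map_mul]; group
    rw [e1]
    exact mul_mem (mul_mem hx (l.nrm.conj_mem _ hx _)) m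
  have d3 : 3 ∣ orderOf (k * k) := by
    rw [← orderOf_eq_prime h3 h1]
    refine orderOf_dvd_of_pow_eq_one ?_
    rw [← e, ← ek, ← l.mul _ kN.1 _ kN.1, ← l.toPr.pow (mul_mem kN.1 kN.1), pow_orderOf_eq_one, l.toPr.one]
  have o3 : orderOf ((k * k) ^ (orderOf (k * k) / 3)) = 3 := orderOf_pow_orderOf_div (orderOf_pos _).ne' d3
  have c3 : Commute ((k * k) ^ (orderOf (k * k) / 3)) (ι t) := (ck.mul_left ck).pow_left _
  have m3 := pow_mem kL (orderOf (k * k) / 3)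
  generalize (k * k) ^ (orderOf (k * k) / 3) = y at o3 c3 m3
  refine ⟨κ ⟨y, m3⟩, orderOf_eq_prime ?_ fun e1 => ?_, h _ _ (by rw [← c3.eq, mul_inv_cancel_right])⟩
  · rw [← map_pow, ← map_one κ]
    exact congrArg κ (Subtype.ext (by rw [← o3]; exact pow_orderOf_eq_one y))
  · have y2 : y ^ 2 = 1 := by
      rcases zcase l ((q.ker _).1 e1) with e2 | e2 <;> simp only at e2 <;> rw [e2]
      · exact one_pow _
      · rw [← map_pow, show z ^ 2 = 1 by decide, map_one]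
    exact absurd (o3 ▸ orderOf_dvd_of_pow_eq_one y2) (by decide)

end C3H

open C3H in
theorem KD.c3 {L : Subgroup G} (l : KD ι π L) {K : Type} [Group K] [Finite K] {κ : L →* K} (q : KQ ι L κ) : ¬ IsM22 K := by
  intro hK
  obtain ⟨α, hα⟩ := exA l q (ι (dd 0 6))
  obtain ⟨β, hβ⟩ := exA l q (ι y0)
  obtain ⟨x, ox, ex⟩ := ex3 l q hα (σ := Equiv.swap 2 3 * Equiv.swap 2 4) (by decide) (by decide +kernel)
    (by decide +kernel) (by decide +kernel)
  obtain ⟨y, oy, ey⟩ := ex3 l q hβ (σ := Equiv.swap 0 4 * Equiv.swap 0 2 * (Equiv.swap 1 5 * Equiv.swap 1 3))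
    (by decide) (by decide +kernel) (by decide +kernel) (by decide +kernel)
  have n1 : dd 0 6 ∉ T0 := by
    change ¬ (w (dd 0 6)).s ∈ alternatingGroup I
    rw [Equiv.Perm.mem_alternatingGroup]; decide +kernel
  have n2 : y0 ∉ T0 := by
    change ¬ (w y0).s ∈ alternatingGroup I
    rw [Equiv.Perm.mem_alternatingGroup]; decide +kernel
  obtain ⟨b, e⟩ := m22x hK ((hα.mul l hα).sq q (by rw [← map_mul, show dd 0 6 * dd 0 6 = 1 by decide, map_one]))
    ((hβ.mul l hβ).sq q (by rw [← map_mul, show y0 * y0 = 1 by decide, map_one]))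
    (out l q n1 hα) (out l q n2 hβ) ox oy ex ey
  obtain ⟨u, rfl⟩ := q.sur b
  have i1 := ((ind_inn (κ := κ) u).mul l hα).mul l (ind_inn (κ := κ) u⁻¹)
  rw [map_inv, map_inv, ← e] at i1
  obtain ⟨k, -, -, ck, -⟩ := l.toFr.fu_d 0 (by decide)
  have f0 : Fu ι (dd 4 6) (dd 0 6) := ⟨k, ck⟩
  rcases zcase l (hβ.eq l q i1) with e1 | e1
  · obtain ⟨i, -, hi⟩ := l.iso (v 21) (f0.trans ⟨u, (inv_mul_eq_one.1 e1).symm⟩)
    exact (by decide +kernel : ∀ i, a (v 21) ≠ dd i 6) i hi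
  · obtain ⟨i, -, hi⟩ := l.iso (v 42) (f0.trans ⟨u, (inv_mul_eq_iff_eq_mul.1 e1).trans (by
      rw [← map_mul, show y0 * z = a (v 42) by decide])⟩)
    exact (by decide +kernel : ∀ i, a (v 42) ≠ dd i 6) i hi

end H24.T12
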