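import Cfsg.Agent.Lib.A12.Defs2
import Cfsg.Agent.Lib.A12.FW
import Cfsg.Agent.Lib.A12.WW
/-! Package CN of `blueprint/A12/README.md`. -/
set_option autoImplicit false
namespace H24.T12
open Subgroup H1.A10 H45 H69 Gold Cfsg

variable {G : Type} [Group G] [Finite G] {ι : M →* G} {π : G → B} {g k : G}

namespace CN

/-- the rotation of the three pairs -/
def ro : B := bl (Equiv.swap 0 4 * Equiv.swap 0 2 * (Equiv.swap 1 5 * Equiv.swap 1 3))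

theorem words : ∀ i j : I, i ≠ j → ∃ x ∈ [sw 0 1, sw 0 2, sw 2 3, sw 0 1 * sw 0 2 * sw 0 1, sw 2 3 * sw 0 2 * sw 2 3,
    sw 0 1 * (sw 2 3 * sw 0 2 * sw 2 3) * sw 0 1], sw i j = x ∨ sw i j = ro * x * ro⁻¹ ∨ sw i j = ro⁻¹ * x * ro := by
  decide +kernel

theorem we : ∀ j : I, ∃ x ∈ [m 0 0, m 3 0, m 0 1, m 12 1, m 0 4, m 48 4], w x = e 0 j := by decide +kernel

theorem gen {K : Subgroup B} (h1 : sw 0 1 ∈ K) (h2 : sw 0 2 ∈ K) (h3 : sw 2 3 ∈ K) (h4 : ro ∈ K)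
    (h5 : ∀ x, w x ∈ K) : W ≤ K := by
  refine W_ind (fun i j ne => ?_) fun j => ?_
  · obtain ⟨x, hx, e⟩ := words i j ne
    have xK : x ∈ K := by
      simp only [List.mem_cons, List.not_mem_nil, or_false] at hx
      have h6 := mul_mem (mul_mem h3 h2) h3
      rcases hx with rfl | rfl | rfl | rfl | rfl | rfl
      exacts [h1, h2, h3, mul_mem (mul_mem h1 h2) h1, h6, mul_mem (mul_mem h1 h6) h1]
    rcases e with e | e | e <;> rw [e]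
    exacts [xK, mul_mem (mul_mem h4 xK) (inv_mem h4), mul_mem (mul_mem (inv_mem h4) xK) h4]
  · obtain ⟨x, -, e⟩ := we j
    exact e ▸ h5 x

theorem ex (l : LG ι π) (t : NF ι = ⊤) : ∃ φ : G →* B, Function.Injective φ ∧ (∀ x, φ x = π x) ∧
    (∀ x, φ (ι x) = w x) ∧ (∀ x, φ x ∈ W) ∧ ∀ b ∈ W, ∃ x, φ x = b := by
  have m : ∀ x, x ∈ NF ι := fun x => t ▸ mem_top x
  let φ : G →* B := MonoidHom.mk' π fun x y => l.mul x (m x) y (m y)
  refine ⟨φ, (MonoidHom.ker_eq_bot_iff φ).1 (eq_bot_iff.2 ?_), fun _ => rfl, l.emb, fun x => l.mem x (m x),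
    fun b hb => (l.sur b hb).imp fun _ h => h.2⟩
  have := le_Od (X := φ.ker) le_top (oddS_iff_orderOf.2 fun x hx => l.ker x (m x) hx)
    (normal_iff_top_le_normalizer.1 inferInstance)
  rw [Od_top] at this
  exact this.trans l.od.le

variable {φ : G →* B}

theorem cen (i : Function.Injective φ) (e : ∀ x, φ (ι x) = w x) {x : G} {y : M} :
    x ∈ 𝐂[ι y] ↔ φ x * w y = w y * φ x := by
  rw [mem_centralizer_singleton_iff, ← e, ← map_mul, ← map_mul, i.eq_iff]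

theorem key (i : Function.Injective φ) (e : ∀ x, φ (ι x) = w x) (hW : ∀ x, φ x ∈ W) {X : Subgroup G} (o : OddS X)
    (h : EE.map ι ≤ 𝐍(X)) : X ≤ ⊥ := by
  have := odd_W (X := X.map φ) (by rintro _ ⟨x, -, rfl⟩; exact hW x)
    (by rintro _ ⟨x, hx, rfl⟩; exact (o.odd hx).of_dvd_nat (orderOf_map_dvd φ x)) (by
      rintro u _ ⟨x, hx, rfl⟩
      rw [← e, ← map_inv, ← map_mul, ← map_mul]
      exact mem_map_of_mem φ (conj_mem_of_mem_normalizer (h (mem_map_of_mem ι (a_EE u))) hx))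
  exact ((map_eq_bot_iff_of_injective X i).1 this).le

theorem top (i : Function.Injective φ) (hW : ∀ x, φ x ∈ W) {K : Subgroup G} (h : W ≤ K.map φ) : ⊤ ≤ K := by
  intro x _
  obtain ⟨y, hy, e⟩ := h (hW x)
  exact i e ▸ hy

theorem EE_tt (i : Fin 7) : EE.map ι ≤ 𝐂[ι (tt i)] :=
  map_cent fun x hx => comm_a.2 (by rw [mem_EE.1 hx, one_smul])

end CN

open CN

theorem LG.loc7 (l : LG ι π) (t : NF ι = ⊤) : Loc7 ι ⊤ ⊥ := by
  obtain ⟨φ, i, eπ, e, hW, sur⟩ := ex l t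
  refine ⟨fun a b _ _ _ => key i e hW (Od_odd _)
    ((le_inf (le_inf le_top (EE_tt a)) (EE_tt b)).trans (le_norm_Od _)),
    fun a b c ab ac bc ha hb hc y _ _ h1 h2 => ?_, top i hW ?_⟩
  · have := (cen i e).2 (l3_W ab ac bc ha hb hc ((cen i e).1 h1) ((cen i e).1 h2))
    rw [mem_centralizer_singleton_iff.1 this, mul_inv_cancel_right, ← map_mul, mem_bot, tt, a_sq, map_one]
  · have k : ∀ b ∈ W, b * w (tt 4) = w (tt 4) * b ∧ b * w (tt 5) = w (tt 5) * b →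
        b ∈ (⊥ ⊔ NE ι ⊔ (⊤ ⊓ 𝐂[ι (tt 4)] ⊓ 𝐂[ι (tt 5)])).map φ := fun b hb c => by
      obtain ⟨x, rfl⟩ := sur b hb
      exact mem_map_of_mem φ (mem_sup_right ⟨⟨mem_top x, (cen i e).2 c.1⟩, (cen i e).2 c.2⟩)
    obtain ⟨r, -, hr, er, -⟩ := l.toFr.rot
    refine gen (k _ (sw_W _ _) (by decide +kernel)) (k _ (sw_W _ _) (by decide +kernel))
      (k _ (sw_W _ _) (by decide +kernel)) ⟨r, mem_sup_left (mem_sup_right hr), (eπ r).trans er⟩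
      fun x => ⟨ι x, mem_sup_left (mem_sup_right (mem_NE x)), e x⟩

theorem LG.locI (l : LG ι π) (t : NF ι = ⊤) : LocI ι ⊤ ⊥ := by
  obtain ⟨φ, i, -, e, hW, sur⟩ := ex l t
  refine ⟨fun X o _ h => key i e hW o h, top i hW ?_⟩
  have k : ∀ x, w x ∈ (⊥ ⊔ ι.range ⊔ (⊤ ⊓ 𝐂[ι y0]) ⊔ (⊤ ⊓ 𝐂[ι y1])).map φ := fun x =>
    ⟨ι x, mem_sup_left (mem_sup_left (mem_sup_right ⟨x, rfl⟩)), e x⟩
  refine gen (w_06 ▸ k _) ?_ (w_26 ▸ k _) ?_ k
  · obtain ⟨x, hx⟩ := sur _ (sw_W 0 2)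
    exact ⟨x, mem_sup_right ⟨mem_top x, (cen i e).2 (by rw [hx]; decide +kernel)⟩, hx⟩
  · obtain ⟨x, hx⟩ := sur ro (bl_W _)
    exact ⟨x, mem_sup_left (mem_sup_right ⟨mem_top x, (cen i e).2 (by rw [hx]; decide +kernel)⟩), hx⟩

end H24.T12
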