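import Cfsg.Agent.Lib.A12.Mod
import Cfsg.Agent.Lib.A10.Cj
/-! Groups with a Sylow `2`-subgroup of type `A₁₂`: vocabulary. See `blueprint/A12/README.md`. -/
set_option autoImplicit false
namespace H24.T12
open Subgroup H1.A10 H45 H69 Gold Cfsg

variable {G : Type} [Group G] {ι : M →* G} {g k : G} {x y t : M} {π : G → B} {N : Subgroup G}

/-- fused in `G` -/
def Fu (ι : M →* G) (x y : M) : Prop := ∃ g, Cj ι g x y
theorem Fu.refl (x : M) : Fu ι x x := ⟨1, Cj.refl x⟩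
theorem Fu.symm (h : Fu ι x y) : Fu ι y x := h.elim fun _ p => ⟨_, p.symm⟩
theorem Fu.trans (h : Fu ι x y) (h' : Fu ι y t) : Fu ι x t := h.elim fun _ p => h'.elim fun _ q => ⟨_, p.comp q⟩
theorem Fu.of (t : M) (e : t * x * t⁻¹ = y) : Fu ι x y := ⟨_, Cj.of' e⟩
/-- `g` conjugates `R` into the model -/
def On (ι : M →* G) (g : G) (R : Subgroup M) : Prop := ∀ x ∈ R, ∃ y, Cj ι g x y
def NE (ι : M →* G) : Subgroup G := 𝐍(EE.map ι)
def NF (ι : M →* G) : Subgroup G := 𝐍(FF.map ι)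
/-- `g` permutes the seven elements `tt i` as `ρ` -/
def PA (ι : M →* G) (g : G) (ρ : Equiv.Perm (Fin 7)) : Prop := ∀ i, Cj ι g (tt i) (tt (ρ i))

/-- the centraliser of `dd 4 6` -/
def R1 : Subgroup M where
  carrier := {x | bt x.s.n 2 = 0}
  one_mem' := by decide
  mul_mem' {x y} := (by decide +kernel : ∀ σ τ : P, bt σ.n 2 = 0 → bt τ.n 2 = 0 → bt (σ * τ).n 2 = 0) x.s y.s
  inv_mem' {x} := (by decide +kernel : ∀ σ : P, bt σ.n 2 = 0 → bt σ⁻¹.n 2 = 0) x.s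
instance : DecidablePred (· ∈ R1) := fun _ => Nat.decEq _ _
/-- the product of `EE` and `FF` -/
def R2 : Subgroup M where
  carrier := {x | bt x.s.n 1 = 0}
  one_mem' := by decide
  mul_mem' {x y} := (by decide +kernel : ∀ σ τ : P, bt σ.n 1 = 0 → bt τ.n 1 = 0 → bt (σ * τ).n 1 = 0) x.s y.s
  inv_mem' {x} := (by decide +kernel : ∀ σ : P, bt σ.n 1 = 0 → bt σ⁻¹.n 1 = 0) x.s
instance : DecidablePred (· ∈ R2) := fun _ => Nat.decEq _ _
/-- an involution outside `EE` together with its centraliser in `EE` -/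
def Aj (j : M) : Subgroup M := 𝐂[j] ⊓ (zpowers j.s).comap sM
/-- the centre of `R1` together with `c` and `sg` -/
def A2 : Subgroup M := 𝐂[c] ⊓ 𝐂[sg] ⊓ R1

/-- an element of odd order moving the centre of `R1` -/
structure X1 (ι : M →* G) (g : G) : Prop where
  odd : Odd (orderOf g)
  ne : g ∈ NE ι
  r1 : ∀ x ∈ R1, ∃ y ∈ R1, Cj ι g x y
  mv : ∃ y, Cj ι g z2 y ∧ y ≠ z2 ∧ y ≠ z

/-- an element of odd order permuting the three duads in `FF` -/
structure X2 (ι : M →* G) (g : G) : Prop where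
  odd : Odd (orderOf g)
  ne : g ∈ NE ι
  nf : g ∈ NF ι
  c0 : Cj ι g (dd 0 1) (dd 2 3)
  c1 : Cj ι g (dd 2 3) (dd 4 5)
  c2 : Cj ι g (dd 4 5) (dd 0 1)

/-- `g` acts on `FF` as the permutation `σ` of the six blocks, in the coordinates `β` -/
def AF (ι : M →* G) (β : M → B) (g : G) (σ : Equiv.Perm I) : Prop :=
  ∀ x ∈ FF, ∃ y ∈ FF, Cj ι g x y ∧ β y = bl σ * β x * (bl σ)⁻¹

/-- the automiser of `FF` is the symmetric group on six blocks -/
structure S6 (ι : M →* G) (β : M → B) : Prop where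
  mul : ∀ x ∈ FF, ∀ y ∈ FF, β (x * y) = β x * β y
  inj : ∀ x ∈ FF, β x = 1 → x = 1
  mem : ∀ x ∈ FF, β x ∈ FB
  sur : ∀ b ∈ FB, ∃ x ∈ FF, β x = b
  act : ∀ g ∈ NF ι, ∃ σ, AF ι β g σ
  all : ∀ σ, ∃ g ∈ NF ι, AF ι β g σ

/-- `N` is mapped onto the Weyl group of type `D₆` with a kernel of odd order -/
structure Pr (N : Subgroup G) (π : G → B) : Prop where
  mul : ∀ x ∈ N, ∀ y ∈ N, π (x * y) = π x * π y
  mem : ∀ x ∈ N, π x ∈ W
  sur : ∀ b ∈ W, ∃ x ∈ N, π x = b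
  ker : ∀ x ∈ N, π x = 1 → Odd (orderOf x)

/-- the normaliser of `FF` read in the Weyl group -/
structure Fr (ι : M →* G) (π : G → B) : Prop extends Pr (NF ι) π where
  sy : Sy ι
  emb : ∀ x, π (ι x) = w x

def Pr.hom (h : Pr N π) : N →* B := MonoidHom.mk' (fun x => π x) fun x y => h.mul _ x.2 _ y.2
theorem Pr.one (h : Pr N π) : π 1 = 1 := h.hom.map_one
theorem Pr.inv (h : Pr N π) (hg : g ∈ N) : π g⁻¹ = (π g)⁻¹ := h.hom.map_inv ⟨g, hg⟩
theorem Pr.pow (h : Pr N π) (hg : g ∈ N) (n : ℕ) : π (g ^ n) = π g ^ n := h.hom.map_pow ⟨g, hg⟩ n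
theorem Pr.conj (h : Pr N π) (hg : g ∈ N) (hk : k ∈ N) : π (g * k * g⁻¹) = π g * π k * (π g)⁻¹ := by
  rw [h.mul _ (mul_mem hg hk) _ (inv_mem hg), h.mul _ hg _ hk, h.inv hg]
instance : FF.Normal := ⟨fun x hx t => (w_FF _).2 (by
  rw [map_mul, map_mul, map_inv, mul_s, mul_s, (w_FF x).1 hx, inv_s, mul_one, mul_inv_cancel])⟩
theorem mem_NF (x : M) : ι x ∈ NF ι := range_norm (fun t y hy => Normal.conj_mem inferInstance y hy t) ⟨x, rfl⟩
theorem mem_NE (x : M) : ι x ∈ NE ι := range_norm (fun t y hy => Normal.conj_mem inferInstance y hy t) ⟨x, rfl⟩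

/-- the normalised frame -/
structure Dat (ι : M →* G) (π : G → B) : Prop extends Fr ι π where
  nrm : Fu ι (dd 4 6) z2
  x1 : ∃ g, X1 ι g

/-- the fusion pattern of the alternating groups -/
def PI (ι : M →* G) : Prop := ∀ u, wt (w (a u)) = 6 → Fu ι (a u) z
/-- the fusion pattern of the symplectic and orthogonal groups -/
def P7 (ι : M →* G) : Prop := ∀ u, Fu ι (a u) z → ∃ i, a u = tt i

/-- the centraliser of `z` modulo its core -/
structure LG (ι : M →* G) (π : G → B) : Prop extends Fr ι π where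
  cz : ∀ y, y * ι z = ι z * y
  od : oddCore G = ⊥
  iso : ∀ u, Fu ι (dd 4 6) (a u) → ∃ i, i ≠ 6 ∧ a u = dd i 6

/-- `q` is the quotient map of the centraliser of `z` by its core -/
structure Qu {Y : Type} [Group Y] (ι : M →* G) (ι' : M →* Y) (q : G → Y) : Prop where
  mul : ∀ x ∈ 𝐂[ι z], ∀ y ∈ 𝐂[ι z], q (x * y) = q x * q y
  sur : ∀ y, ∃ x ∈ 𝐂[ι z], q x = y
  ker : ∀ x ∈ 𝐂[ι z], q x = 1 ↔ x ∈ Oc (ι z)
  emb : ∀ x, q (ι x) = ι' x

/-- the quasisimple normal subgroup in the case that `FF` is not normal -/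
structure KD (ι : M →* G) (π : G → B) (L : Subgroup G) : Prop extends LG ι π where
  nrm : L.Normal
  perf : ⁅L, L⁆ = L
  memL : ∀ x, ι x ∈ L ↔ x ∈ T0
  simple : ∀ K : Subgroup G, K ≤ L → L ≤ 𝐍(K) → K ≤ zpowers (ι z) ∨ K = L
  cen : ∀ y, (∀ l ∈ L, y * l * y⁻¹ * l⁻¹ ∈ zpowers (ι z)) → y ∈ zpowers (ι z)
  cov : ∀ b ∈ W, b.s ∈ alternatingGroup I → ∃ g ∈ NF ι, g ∈ L ∧ π g = b

/-- `κ` is the quotient map of `L` by its centre -/
structure KQ {K : Type} [Group K] (ι : M →* G) (L : Subgroup G) (κ : L →* K) : Prop where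
  sur : Function.Surjective κ
  ker : ∀ l : L, κ l = 1 ↔ (l : G) ∈ zpowers (ι z)

/-- the kernel of a stem extension has at most one involution -/
def Mul2 (K : Type) [Group K] : Prop := ∀ (Γ : Type) [Group Γ] [Finite Γ] (σ : Γ →* K), IsStemExtension σ →
  ∀ x y : Γ, σ x = 1 → σ y = 1 → x * x = 1 → y * y = 1 → x ≠ 1 → y ≠ 1 → x = y

/-- local balance and generation; `O` is the core of `H`, the centraliser of `z` -/
structure Loc7 (ι : M →* G) (H O : Subgroup G) : Prop where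
  l2 : ∀ i j : Fin 7, i ≠ j → i ≠ 6 → j ≠ 6 → Od (H ⊓ 𝐂[ι (tt i)] ⊓ 𝐂[ι (tt j)]) ≤ O
  l3 : ∀ i j k : Fin 7, i ≠ j → i ≠ k → j ≠ k → i ≠ 6 → j ≠ 6 → k ≠ 6 → ∀ y ∈ H, Odd (orderOf y) →
    y ∈ 𝐂[ι (dd i j)] → y ∈ 𝐂[ι (dd i k)] → y * ι (tt i) * y⁻¹ * ι (tt i) ∈ O
  l4 : H ≤ O ⊔ NE ι ⊔ (H ⊓ 𝐂[ι (tt 4)] ⊓ 𝐂[ι (tt 5)])

/-- the product of the three block transpositions -/
def y0 : M := m 21 0
/-- another product of three block transpositions -/
def y1 : M := m 16 2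

/-- the same in the constrained case, for the pattern of the alternating groups -/
structure LocI (ι : M →* G) (H O : Subgroup G) : Prop where
  le : ∀ X : Subgroup G, OddS X → X ≤ H → EE.map ι ≤ 𝐍(X) → X ≤ O
  gen : H ≤ O ⊔ ι.range ⊔ (H ⊓ 𝐂[ι y0]) ⊔ (H ⊓ 𝐂[ι y1])

/-- a subgroup of odd order over the core of the centraliser of `z` with a large normaliser -/
def Sig (ι : M →* G) : Prop :=
  ∃ W0 : Subgroup G, OddS W0 ∧ Oc (ι z) ≤ W0 ∧ 𝐂[ι z] ≤ 𝐍(W0) ∧ NE ι ≤ 𝐍(W0)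

/-- the alternating groups in the conclusion -/
def Alt (G : Type) [Group G] : Prop :=
  Nonempty (G ≃* alternatingGroup (Fin 12)) ∨ Nonempty (G ≃* alternatingGroup (Fin 13))

/-- the conclusion -/
def Concl (G : Type*) [Group G] : Prop :=
  Nonempty (G ≃* ↥(alternatingGroup (Fin 12))) ∨ Nonempty (G ≃* ↥(alternatingGroup (Fin 13))) ∨
    (∃ (F : Type) (_ : Field F) (_ : Fintype F), Fintype.card F = 2 ∧ Nonempty (G ≃* Cfsg.PSp 3 F)) ∨
    (∃ (F : Type) (_ : Field F) (_ : Fintype F), (Fintype.card F % 8 = 3 ∨ Fintype.card F % 8 = 5) ∧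
      Nonempty (G ≃* Cfsg.POmega F (Cfsg.quadFormOdd 3 F)))

end H24.T12
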