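import Cfsg.Agent.Lib.A12.ODefs
/-! More vocabulary. See `blueprint/A12/README.md`. -/
set_option autoImplicit false
namespace H24.T12
open Subgroup H1.A10 H45 H69 Gold Cfsg H67 Matrix

variable {G : Type} [Group G]

/-- no subgroup of index two -/
def N2 (G : Type) [Group G] : Prop := ∀ N : Subgroup G, N.index ≠ 2
/-- an involution outside `EE` is fused into `EE` -/
def Out (ι : M →* G) : Prop := ∃ y, y ∉ EE ∧ y * y = 1 ∧ ∃ u, Fu ι y (a u)
/-- an element of `FF` outside `EE` is fused into `EE` -/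
def OutF (ι : M →* G) : Prop := ∃ y ∈ FF, y ∉ EE ∧ ∃ u, Fu ι y (a u)
/-- the conjugate of `A2` -/
def A2' : Subgroup M := 𝐂[m 3 1] ⊓ 𝐂[m 5 2] ⊓ R1
/-- the candidate for the signalizer in the centraliser of `R` -/
def Wb (ι : M →* G) (R : Subgroup M) : Subgroup G := ⨆ i, Oc (ι (tt i)) ⊓ 𝐂(R.map ι)
def Good (ι : M →* G) (R : Subgroup M) : Prop := OddS (Wb ι R) ∧ ∀ i, Wb ι R ⊓ 𝐂[ι (tt i)] ≤ Oc (ι (tt i))
/-- the centraliser of the four-group of a triangle -/
def Dt (ι : M →* G) (i j k : Fin 7) : Subgroup G := 𝐂[ι (dd i j)] ⊓ 𝐂[ι (dd i k)]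
/-- the Sylow `2`-subgroups have order `128` -/
def C128 (K : Type) [Group K] : Prop := ∃ n, Odd n ∧ Nat.card K = 128 * n

variable {F : Type} [Field F] {J : Type} [Fintype J] [DecidableEq J]

/-- `L` is mapped onto `Ω(Q)` and `G` acts by semisimilarities -/
structure Th (ι : M →* G) (L : Subgroup G) (Q : QuadraticForm F (J → F)) (θ : L →* GL J F) : Prop where
  card : Fintype.card J = 6
  nd : H12.Nondeg Q
  rng : θ.range = Geo.omegaGL Q
  ker : ∀ l : L, θ l = 1 → (l : G) ∈ zpowers (ι z)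
  zz : ∀ l : L, (l : G) = ι z → θ l = 1 ∨ θ l = -1
  act : ∀ y : G, ∃ s ∈ GamO Q, ∀ l l' : L, (l' : G) = y * l * y⁻¹ → θ l' = gamAut J F s (θ l)

/-- an orthogonal basis of vectors of the same norm -/
structure Ob (Q : QuadraticForm F (J → F)) (v : Fin 6 → J → F) : Prop where
  nrm : ∃ c ≠ 0, ∀ i, Q (v i) = c
  ort : ∀ i j, i ≠ j → QuadraticMap.polar Q (v i) (v j) = 0

/-- the frame of `FF` -/
structure Fm (ι : M →* G) (L : Subgroup G) (Q : QuadraticForm F (J → F)) (θ : L →* GL J F)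
    (v : Fin 6 → J → F) : Prop extends Th ι L Q θ, Ob Q v where
  inj : Function.Injective θ
  dia : ∀ x ∈ FF, ∀ l : L, (l : G) = ι x → ∀ i, (θ l).val *ᵥ v i = (if (w x).f i = 0 then 1 else -1 : F) • v i

/-- the frame of `EE` -/
structure Fn (ι : M →* G) (L : Subgroup G) (Q : QuadraticForm F (J → F)) (θ : L →* GL J F)
    (u : Fin 6 → J → F) : Prop extends Th ι L Q θ, Ob Q u where
  inj : Function.Injective θ
  one : ∀ (i : Fin 6) (l l' : L), (l' : G) = ι (dd i.castSucc 6) * l * (ι (dd i.castSucc 6))⁻¹ →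
    θ l' = reflGL Q (u i) * θ l * (reflGL Q (u i))⁻¹
  two : ∀ (i j : Fin 6) (l : L), (l : G) = ι (dd i.castSucc j.castSucc) → θ l = reflGL Q (u i) * reflGL Q (u j)

/-- the image of the model -/
def Rg (F : Type) [Field F] (ψ : GL (Fin 6) F → G) : Set G := ψ '' RG F 6
/-- the stabiliser of the last vector -/
noncomputable abbrev S5 (F : Type) [Field F] : Subgroup (GL (Fin 6) F) := OG F 6 ⊓ St (ev 5)
/-- the third generator -/
def al6 (F : Type) [Field F] : GL (Fin 6) F := pm F (Equiv.swap 0 1 * Equiv.swap 4 5)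
/-- isometries -/
def Iso {n : ℕ} (g : GL (Fin n) F) : Prop := ∀ x, QS F n (g.val *ᵥ x) = QS F n x
/-- the trace in the reflection representation -/
def trc (b : B) : ℤ := ∑ i, if b.s i = i then (if b.f i = 0 then 1 else -1) else 0

end H24.T12
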