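import Cfsg.Agent.Lib.A12.Defs2
import Cfsg.Agent.Lib.A12.WIT
/-! Package GEN of `blueprint/A12/README.md`. -/
set_option autoImplicit false
namespace H24.T12
open Subgroup H1.A10 H45 H69 Gold Cfsg H67 Matrix

variable {G : Type} [Group G] [Finite G] {ι : M →* G} {π : G → B} {F : Type} [Field F] [Fintype F]
  {H L : Subgroup G} {ψ : GL (Fin 6) F → G} {σ : G} {n : ℕ}
  {J : Type} [Fintype J] [DecidableEq J] {Q : QuadraticForm F (J → F)} {θ : L →* GL J F}

namespace GENh

omit [Fintype F] in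
theorem q_ev (i : Fin n) : QS F n (ev i) = 1 := by
  rw [QS_apply, Finset.sum_eq_single i (fun j _ h => by simp [h]) (by simp)]
  simp

theorem p_ev {i j : Fin n} (h : i ≠ j) : QuadraticMap.polar (QS F n) (ev i) (ev j) = 0 := by
  rw [polar_QS]; simp [h]

end GENh

theorem genO (h2 : (2 : F) ≠ 0) (hn : 5 ≤ n) :
    OG F n ≤ closure {g | ∃ x y, QS F n x = 1 ∧ QS F n y = 1 ∧ g = rv x * rv y} := by
  intro g hg
  obtain ⟨k, rfl⟩ := exists_oGL (omega_le_iso _ hg)
  have i0 : (⟨0, by omega⟩ : Fin n) ≠ ⟨1, by omega⟩ := by simp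
  have i1 : (⟨2, by omega⟩ : Fin n) ≠ ⟨1, by omega⟩ := by simp
  have i2 : (⟨2, by omega⟩ : Fin n) ≠ ⟨0, by omega⟩ := by simp
  generalize (⟨0, by omega⟩ : Fin n) = a at i0 i2
  generalize (⟨1, by omega⟩ : Fin n) = b at i0 i1
  generalize (⟨2, by omega⟩ : Fin n) = d at i1 i2
  have ne : ∀ i : Fin n, (ev i : Fin n → F) ≠ -ev i := fun i e => by
    have := congrFun e i
    simp only [Pi.single_eq_same, Pi.neg_apply] at this
    exact h2 (by linear_combination this)
  refine H12.Om_le_of_normalized (N := (closure {g | ∃ x y, QS F n x = 1 ∧ QS F n y = 1 ∧ g = rv x * rv y}).comap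
    (oGL (QS F n))) (nd_QS h2) (by simpa using hn) (fun t _ u hu => ?_)
    (n := H12.refl _ (ev a) * H12.refl _ (ev b))
    (Subgroup.subset_closure ⟨ev a, ev b, GENh.q_ev a, GENh.q_ev b, map_mul _ _ _⟩) (fun e => ne a ?_) (fun e => ne d ?_)
    (oGL_mem_omega.1 hg)
  · rw [mem_comap, map_mul, map_mul, map_inv]
    rw [mem_comap] at hu
    generalize oGL (QS F n) u = v at hu
    induction hu using closure_induction with
    | mem v hv =>
      obtain ⟨x, y, hx, hy, rfl⟩ := hv
      refine Subgroup.subset_closure ⟨t.1 x, t.1 y, (H12.O.map_Q t x).trans hx, (H12.O.map_Q t y).trans hy, ?_⟩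
      simp only [rv, reflGL, ← H12.refl_conj, map_mul, map_inv]
      group
    | one => simp
    | mul x y _ _ hx hy => simpa [mul_assoc] using mul_mem hx hy
    | inv x _ hx => simpa [mul_assoc] using inv_mem hx
  · have := congrArg (fun k : H12.O (QS F n) => k.1 (ev a)) e
    simp only [H12.O.mul_apply] at this
    rw [H12.refl_apply_of_orth (GENh.p_ev i0), H12.refl_apply_self (by rw [GENh.q_ev]; exact one_ne_zero)] at this
    exact this.symm
  · have := congrArg (fun k : H12.O (QS F n) => k.1 (ev d)) e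
    simp only [H12.O.mul_apply] at this
    rwa [H12.refl_apply_of_orth (GENh.p_ev i1), H12.refl_apply_of_orth (GENh.p_ev i2), H12.negO_apply] at this

theorem genR (h2 : (2 : F) ≠ 0) (hn : 5 ≤ n) : RG F n ≤ closure {g | ∃ x, QS F n x = 1 ∧ g = rv x} := by
  refine sup_le ((genO h2 hn).trans ((closure_le _).2 ?_)) (closure_mono ?_)
  · rintro _ ⟨x, y, hx, hy, rfl⟩
    exact mul_mem (Subgroup.subset_closure ⟨x, hx, rfl⟩) (Subgroup.subset_closure ⟨y, hy, rfl⟩)
  · rintro _ ⟨i, rfl⟩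
    exact ⟨ev i, GENh.q_ev i, rfl⟩

end H24.T12
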