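import Cfsg.Agent.Lib.A12.Defs2
import Cfsg.Agent.Lib.A12.WIT
/-! Package GEOA of `blueprint/A12/README.md`. -/
set_option autoImplicit false
namespace H24.T12

section
open Matrix Polynomial
namespace GEOA
variable {F : Type} [Field F] [Fintype F]

omit [Fintype F] in
theorem ker (a b c d e f : Fin 7 → F) : ∃ p : Fin 7 → F, p ≠ 0 ∧ p ⬝ᵥ a = 0 ∧ p ⬝ᵥ b = 0 ∧ p ⬝ᵥ c = 0 ∧
    p ⬝ᵥ d = 0 ∧ p ⬝ᵥ e = 0 ∧ p ⬝ᵥ f = 0 := by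
  classical
  obtain ⟨p, p0, h⟩ := exists_mulVec_eq_zero_iff.2
    (det_eq_zero_of_row_eq_zero (A := Matrix.of ![a, b, c, d, e, f, 0]) 6 fun _ => rfl)
  exact ⟨p, p0, (dotProduct_comm _ _).trans (congrFun h 0), (dotProduct_comm _ _).trans (congrFun h 1),
    (dotProduct_comm _ _).trans (congrFun h 2), (dotProduct_comm _ _).trans (congrFun h 3),
    (dotProduct_comm _ _).trans (congrFun h 4), (dotProduct_comm _ _).trans (congrFun h 5)⟩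

omit [Fintype F] in
theorem dual {p : Fin 7 → F} (h : p ≠ 0) : ∃ q, p ⬝ᵥ q = 1 := by
  obtain ⟨i, hi⟩ := Function.ne_iff.1 h
  exact ⟨Pi.single i (p i)⁻¹, by rw [dotProduct_single, mul_inv_cancel₀ hi]⟩

theorem bin (h : Fintype.card F % 2 = 1) {d e : F} (hd : d ≠ 0) (he : e ≠ 0) :
    ∃ a b : F, d * a ^ 2 + e * b ^ 2 = 1 := by
  obtain ⟨a, b, h⟩ := FiniteField.exists_root_sum_quadratic (f := C d * X ^ 2) (g := C e * X ^ 2 - C 1)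
    (degree_C_mul_X_pow 2 hd) (by
      rw [degree_sub_eq_left_of_degree_lt] <;> rw [degree_C_mul_X_pow 2 he]
      · rfl
      · exact degree_C_le.trans_lt (by decide)) h
  exact ⟨a, b, by simp at h; linear_combination h⟩

omit [Fintype F] in
theorem tri {x y p1 p2 q1 q2 w u : Fin 7 → F} (xx : x ⬝ᵥ x = 1) (yy : y ⬝ᵥ y = 1) (xy : x ⬝ᵥ y = 0)
    (a1 : p1 ⬝ᵥ q1 = 1) (a2 : p1 ⬝ᵥ q2 = 0) (a3 : p1 ⬝ᵥ u = 0) (a4 : p1 ⬝ᵥ x = 0) (a5 : p1 ⬝ᵥ y = 0)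
    (a6 : p1 ⬝ᵥ p2 = 0) (a7 : p1 ⬝ᵥ p1 = 0) (a8 : p1 ⬝ᵥ w = 0) (b2 : p2 ⬝ᵥ q2 = 1) (b3 : p2 ⬝ᵥ u = 0)
    (b4 : p2 ⬝ᵥ x = 0) (b5 : p2 ⬝ᵥ y = 0) (b6 : p2 ⬝ᵥ p2 = 0) (b8 : p2 ⬝ᵥ w = 0) (c4 : w ⬝ᵥ x = 0)
    (c5 : w ⬝ᵥ y = 0) :
    (Matrix.of ![p1, p2, w, x, y, q2, q1]).det * (Matrix.of ![q1, q2, u, x, y, p2, p1]).det = w ⬝ᵥ u := by
  rw [← det_transpose (Matrix.of ![q1, q2, u, x, y, p2, p1]), ← det_mul]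
  have e : ∀ i j, (Matrix.of ![p1, p2, w, x, y, q2, q1] * (Matrix.of ![q1, q2, u, x, y, p2, p1])ᵀ) i j =
      ![p1, p2, w, x, y, q2, q1] i ⬝ᵥ ![q1, q2, u, x, y, p2, p1] j := fun _ _ => rfl
  rw [det_of_isLowerTriangular]
  · simp only [e, Fin.prod_univ_seven]
    change p1 ⬝ᵥ q1 * p2 ⬝ᵥ q2 * w ⬝ᵥ u * x ⬝ᵥ x * y ⬝ᵥ y * q2 ⬝ᵥ p2 * q1 ⬝ᵥ p1 = _
    rw [dotProduct_comm q2, dotProduct_comm q1, a1, b2, xx, yy]; ring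
  · intro i j hij
    rw [e]
    have hij' : i < j := hij
    have := dotProduct_comm p2 p1
    have := dotProduct_comm w p1
    have := dotProduct_comm w p2
    have := dotProduct_comm x p1
    have := dotProduct_comm x p2
    have := dotProduct_comm y p1
    have := dotProduct_comm y p2
    have := dotProduct_comm q2 p1
    fin_cases i <;> fin_cases j <;> first | exact absurd hij' (by decide) | simp [*]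

theorem main (q : Fintype.card F % 2 = 1) (two : (2 : F) ≠ 0) (x₁ x₂ x₃ x₄ : Fin 7 → F) (h2 : x₂ ⬝ᵥ x₂ = 1)
    (h3 : x₃ ⬝ᵥ x₃ = 1) (h : x₂ ⬝ᵥ x₃ = 0) :
    ∃ x : Fin 7 → F, x ⬝ᵥ x = 1 ∧ x ⬝ᵥ x₁ = 0 ∧ x ⬝ᵥ x₂ = 0 ∧ x ⬝ᵥ x₃ = 0 ∧ x ⬝ᵥ x₄ = 0 := by
  by_contra hc
  let W : (Fin 7 → F) → Prop := fun x => x ⬝ᵥ x₁ = 0 ∧ x ⬝ᵥ x₂ = 0 ∧ x ⬝ᵥ x₃ = 0 ∧ x ⬝ᵥ x₄ = 0
  have lin : ∀ x y, W x → W y → ∀ a b : F, W (a • x + b • y) := fun x y hx hy a b => by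
    simp only [W, add_dotProduct, smul_dotProduct, hx.1, hx.2.1, hx.2.2.1, hx.2.2.2, hy.1, hy.2.1,
      hy.2.2.1, hy.2.2.2, smul_zero, add_zero, and_self]
  have nrm : ∀ (x y : Fin 7 → F) (a b : F), (a • x + b • y) ⬝ᵥ (a • x + b • y) =
      x ⬝ᵥ x * a ^ 2 + y ⬝ᵥ y * b ^ 2 + 2 * a * b * x ⬝ᵥ y := fun x y a b => by
    simp only [add_dotProduct, dotProduct_add, smul_dotProduct, dotProduct_smul, smul_eq_mul,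
      dotProduct_comm y x]
    ring
  obtain ⟨w, u, hw, wu, hp⟩ : ∃ w u, W w ∧ w ⬝ᵥ u = 1 ∧ ∀ p, W p → p ⬝ᵥ u = 0 → p ⬝ᵥ p = 0 ∧ p ⬝ᵥ w = 0 := by
    by_cases h0 : ∃ w, W w ∧ w ⬝ᵥ w ≠ 0
    · obtain ⟨w, hw, w0⟩ := h0
      refine ⟨w, (w ⬝ᵥ w)⁻¹ • w, hw, by rw [dotProduct_smul, smul_eq_mul, inv_mul_cancel₀ w0],
        fun p hp e => ?_⟩
      rw [dotProduct_smul, smul_eq_mul] at e
      have e1 := (mul_eq_zero.1 e).resolve_left (inv_ne_zero w0)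
      refine ⟨by_contra fun p0 => ?_, e1⟩
      obtain ⟨a, b, e2⟩ := bin q p0 w0
      exact hc ⟨a • p + b • w, by rw [nrm, e1, mul_zero, add_zero, e2], lin p w hp hw a b⟩
    · push Not at h0
      obtain ⟨w, w0, w1, w2, w3, w4, -⟩ := ker x₁ x₂ x₃ x₄ 0 0
      obtain ⟨u, hu⟩ := dual w0
      refine ⟨w, u, ⟨w1, w2, w3, w4⟩, hu, fun p hp _ => ⟨h0 p hp, ?_⟩⟩
      have := h0 _ (lin p w hp ⟨w1, w2, w3, w4⟩ 1 1)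
      rw [nrm, h0 p hp, h0 w ⟨w1, w2, w3, w4⟩] at this
      exact (mul_eq_zero.1 (by linear_combination this : 2 * p ⬝ᵥ w = 0)).resolve_left two
  obtain ⟨p2, b0, b1, b2, b3, b4, b5, -⟩ := ker x₁ x₂ x₃ x₄ u 0
  obtain ⟨q2, e2⟩ := dual b0
  obtain ⟨p1, a0, a1, a2, a3, a4, a5, a6⟩ := ker x₁ x₂ x₃ x₄ u q2
  obtain ⟨q1, e1⟩ := dual a0
  obtain ⟨a7, a8⟩ := hp p1 ⟨a1, a2, a3, a4⟩ a5
  obtain ⟨b7, b8⟩ := hp p2 ⟨b1, b2, b3, b4⟩ b5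
  have a9 : p1 ⬝ᵥ p2 = 0 := by
    have := (hp _ (lin p1 p2 ⟨a1, a2, a3, a4⟩ ⟨b1, b2, b3, b4⟩ 1 1) (by simp [a5, b5])).1
    rw [nrm, a7, b7] at this
    exact (mul_eq_zero.1 (by linear_combination this : 2 * p1 ⬝ᵥ p2 = 0)).resolve_left two
  have t1 := tri h2 h3 h e1 a6 a5 a2 a3 a9 a7 a8 e2 b5 b2 b3 b7 b8 hw.2.1 hw.2.2.1
  have t2 := tri h2 h3 h e1 a6 a8 a2 a3 a9 a7 a8 e2 b8 b2 b3 b7 b8 hw.2.1 hw.2.2.1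
  have t3 : (Matrix.of ![q1, q2, w, x₂, x₃, p2, p1]).det = (Matrix.of ![p1, p2, w, x₂, x₃, q2, q1]).det := by
    have := det_permute (Equiv.swap (0 : Fin 7) 6 * Equiv.swap 1 5) (Matrix.of ![p1, p2, w, x₂, x₃, q2, q1])
    rw [map_mul, Equiv.Perm.sign_swap (by decide), Equiv.Perm.sign_swap (by decide)] at this
    simp only [mul_neg, mul_one, neg_neg, Units.val_one, Int.cast_one, one_mul] at this
    rw [← this]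
    congr 1
    ext i j
    fin_cases i <;> rfl
  rw [t3] at t2
  generalize (Matrix.of ![p1, p2, w, x₂, x₃, q2, q1]).det = c at t1 t2
  have c0 : c ≠ 0 := fun e => by rw [e, zero_mul, wu] at t1; exact zero_ne_one t1
  refine hc ⟨c⁻¹ • w + (0 : F) • w, ?_, lin w w hw hw _ _⟩
  rw [nrm, ← t2]
  field_simp
  ring

end GEOA
end

open Subgroup H1.A10 H45 H69 Gold Cfsg H67 Matrix

variable {G : Type} [Group G] [Finite G] {ι : M →* G} {π : G → B} {F : Type} [Field F] [Fintype F]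
  {H L : Subgroup G} {ψ : GL (Fin 6) F → G} {σ : G} {n : ℕ}
  {J : Type} [Fintype J] [DecidableEq J] {Q : QuadraticForm F (J → F)} {θ : L →* GL J F}

theorem nbr (q : Q8 F) (x₁ x₂ x₃ x₄ : Fin 7 → F) (h2 : x₂ ⬝ᵥ x₂ = 1) (h3 : x₃ ⬝ᵥ x₃ = 1) (h : x₂ ⬝ᵥ x₃ = 0) :
    ∃ x : Fin 7 → F, x ⬝ᵥ x = 1 ∧ x ⬝ᵥ x₁ = 0 ∧ x ⬝ᵥ x₂ = 0 ∧ x ⬝ᵥ x₃ = 0 ∧ x ⬝ᵥ x₄ = 0 :=
  GEOA.main (by rcases q with e | e <;> omega) q.two x₁ x₂ x₃ x₄ h2 h3 h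

end H24.T12
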