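import Cfsg.Agent.Lib.A12.Defs2
import Cfsg.Agent.Lib.A12.GEOA
/-! Package GEOC of `blueprint/A12/README.md`. -/
set_option autoImplicit false
set_option linter.unusedSectionVars false
namespace H24.T12
open Subgroup H1.A10 H45 H69 Gold Cfsg H67 Matrix

variable {G : Type} [Group G] [Finite G] {ι : M →* G} {π : G → B} {F : Type} [Field F] [Fintype F]
  {H L : Subgroup G} {ψ : GL (Fin 6) F → G} {σ : G} {n : ℕ}
  {J : Type} [Fintype J] [DecidableEq J] {Q : QuadraticForm F (J → F)} {θ : L →* GL J F}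

namespace GC

/-- `d` is the negative of the reflection in the unit vector `x` -/
def U (d : OG F 7) (x : Fin 7 → F) : Prop := x ⬝ᵥ x = 1 ∧ d.1 = -rv x

theorem isoO (g : OG F 7) : Iso g.1 := iso_RG (le_sup_left (a := OG F 7) g.2)

theorem dot_iso {g : GL (Fin 7) F} (hg : Iso g) (x : Fin 7 → F) :
    (g.val *ᵥ x) ⬝ᵥ (g.val *ᵥ x) = x ⬝ᵥ x := by
  rw [← QS_dot, ← QS_dot, hg]

theorem U.conj {d : OG F 7} {x : Fin 7 → F} (h : U d x) (g : OG F 7) :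
    U (g * d * g⁻¹) (g.1.val *ᵥ x) := by
  refine ⟨by rw [dot_iso (isoO g), h.1], ?_⟩
  rw [← (isoO g).conj, Subgroup.coe_mul, Subgroup.coe_mul, Subgroup.coe_inv, h.2, mul_neg, neg_mul]

theorem U.eq {d d' : OG F 7} {x : Fin 7 → F} (h : U d x) (h' : U d' x) : d = d' :=
  Subtype.ext (h.2.trans h'.2.symm)

theorem U.fix {d g : OG F 7} {x : Fin 7 → F} (h : U d x) (hg : g.1.val *ᵥ x = x) : g ∈ 𝐂[d] := by
  have h1 := h.conj g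
  rw [hg] at h1
  rw [mem_centralizer_singleton_iff, ← mul_inv_eq_iff_eq_mul]
  exact h1.eq h

theorem U.ne0 {d : OG F 7} {x : Fin 7 → F} (h : U d x) : QS F 7 x ≠ 0 := by
  rw [QS_dot, h.1]; exact one_ne_zero

theorem U.orth (h2 : (2 : F) ≠ 0) {d d' : OG F 7} {x y : Fin 7 → F} (h : U d x) (h' : U d' y) :
    (d ≠ d' ∧ d ∈ 𝐂[d']) ↔ x ⬝ᵥ y = 0 := by
  have e1 : d ∈ 𝐂[d'] ↔ rv x * rv y = rv y * rv x := by
    rw [mem_centralizer_singleton_iff, Subtype.ext_iff, Subgroup.coe_mul, Subgroup.coe_mul, h.2, h'.2,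
      neg_mul_neg, neg_mul_neg]
  have e2 : d = d' ↔ rv x = rv y := by rw [Subtype.ext_iff, h.2, h'.2, neg_inj]
  rw [e1, Ne, e2, rv_comm h2 h.ne0 h'.ne0]
  constructor
  · rintro ⟨h1, h3⟩
    exact h3.resolve_left h1
  · intro h1
    refine ⟨fun h3 => ?_, Or.inr h1⟩
    obtain ⟨c, hc, rfl⟩ := rv_inj h2 h.ne0 h'.ne0 h3
    rw [dotProduct_smul, h.1, smul_eq_mul, mul_one] at h1
    exact hc h1

theorem wit1 (h2 : (2 : F) ≠ 0) {x y : Fin 7 → F} (hx : x ⬝ᵥ x = 1) (hy : y ⬝ᵥ y = 1) :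
    ∃ g : OG F 7, g.1.val *ᵥ x = y := by
  obtain ⟨g, hg, h⟩ := wit (n := 7) (k := 1) h2 (by norm_num) (by norm_num) (fun _ => 1)
    (fun _ => one_ne_zero) (fun _ => x) (fun _ => y)
    (fun i j => by rw [hx, if_pos (Subsingleton.elim i j)])
    (fun i j => by rw [hy, if_pos (Subsingleton.elim i j)])
  exact ⟨⟨g, hg⟩, h 0⟩

theorem wit3 (h2 : (2 : F) ≠ 0) {x y z x' y' z' : Fin 7 → F} (hx : x ⬝ᵥ x = 1) (hy : y ⬝ᵥ y = 1)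
    (hz : z ⬝ᵥ z = 1) (hxy : x ⬝ᵥ y = 0) (hxz : x ⬝ᵥ z = 0) (hyz : y ⬝ᵥ z = 0)
    (hx' : x' ⬝ᵥ x' = 1) (hy' : y' ⬝ᵥ y' = 1) (hz' : z' ⬝ᵥ z' = 1) (hxy' : x' ⬝ᵥ y' = 0)
    (hxz' : x' ⬝ᵥ z' = 0) (hyz' : y' ⬝ᵥ z' = 0) :
    ∃ g : OG F 7, g.1.val *ᵥ x = x' ∧ g.1.val *ᵥ y = y' ∧ g.1.val *ᵥ z = z' := by
  have k : ∀ {x y z : Fin 7 → F}, x ⬝ᵥ x = 1 → y ⬝ᵥ y = 1 → z ⬝ᵥ z = 1 → x ⬝ᵥ y = 0 → x ⬝ᵥ z = 0 →
      y ⬝ᵥ z = 0 → ∀ i j : Fin 3, ![x, y, z] i ⬝ᵥ ![x, y, z] j = if i = j then (1 : F) else 0 := by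
    intro x y z hx hy hz hxy hxz hyz i j
    have hyx := (dotProduct_comm y x).trans hxy
    have hzx := (dotProduct_comm z x).trans hxz
    have hzy := (dotProduct_comm z y).trans hyz
    fin_cases i <;> fin_cases j <;> simpa
  obtain ⟨g, hg, h⟩ := wit (n := 7) (k := 3) h2 (by norm_num) (by norm_num) (fun _ => 1)
    (fun _ => one_ne_zero) ![x, y, z] ![x', y', z'] (k hx hy hz hxy hxz hyz)
    (k hx' hy' hz' hxy' hxz' hyz')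
  exact ⟨⟨g, hg⟩, h 0, h 1, h 2⟩

theorem wit2 (h2 : (2 : F) ≠ 0) {x y x' y' : Fin 7 → F} (hx : x ⬝ᵥ x = 1) (hy : y ⬝ᵥ y = 1)
    (hxy : x ⬝ᵥ y = 0) (hx' : x' ⬝ᵥ x' = 1) (hy' : y' ⬝ᵥ y' = 1) (hxy' : x' ⬝ᵥ y' = 0) :
    ∃ g : OG F 7, g.1.val *ᵥ x = x' ∧ g.1.val *ᵥ y = y' := by
  have k : ∀ {x y : Fin 7 → F}, x ⬝ᵥ x = 1 → y ⬝ᵥ y = 1 → x ⬝ᵥ y = 0 →
      ∀ i j : Fin 2, ![x, y] i ⬝ᵥ ![x, y] j = if i = j then (1 : F) else 0 := by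
    intro x y hx hy hxy i j
    have hyx := (dotProduct_comm y x).trans hxy
    fin_cases i <;> fin_cases j <;> simpa
  obtain ⟨g, hg, h⟩ := wit (n := 7) (k := 2) h2 (by norm_num) (by norm_num) (fun _ => 1)
    (fun _ => one_ne_zero) ![x, y] ![x', y'] (k hx hy hxy) (k hx' hy' hxy')
  exact ⟨⟨g, hg⟩, h 0, h 1⟩

theorem ev_dot (i j : Fin 7) : (ev i : Fin 7 → F) ⬝ᵥ ev j = if i = j then 1 else 0 := by
  simp [Pi.single_apply, eq_comm]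

theorem U.of_conj {t d : OG F 7} {x : Fin 7 → F} (h : U t x) (hd : IsConj t d) : ∃ y, U d y := by
  obtain ⟨c, rfl⟩ := isConj_iff.1 hd
  exact ⟨_, h.conj c⟩

theorem U.pm {d g : OG F 7} {i : Fin 7} {ρ : Equiv.Perm (Fin 7)} (h : U d (ev i))
    (hg : g.1 = pm F ρ) : U (g * d * g⁻¹) (ev (ρ i)) := by
  refine ⟨by rw [ev_dot, if_pos rfl], ?_⟩
  rw [Subgroup.coe_mul, Subgroup.coe_mul, Subgroup.coe_inv, h.2, hg, mul_neg, neg_mul, pm_rf]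

theorem pm_one : pm F (1 : Equiv.Perm (Fin 7)) = 1 := by
  have := pm_mul (F := F) (1 : Equiv.Perm (Fin 7)) 1
  rw [mul_one] at this
  exact left_eq_mul.1 this

end GC

theorem geoC (q : Q8 F) {t s b : OG F 7} (ht : t.1 = -(rf 6 : GL (Fin 7) F)) (hs : s.1 = pm F (Equiv.swap 0 1 * Equiv.swap 5 6))
    (hb : b.1 = pm F (Equiv.swap 0 1 * Equiv.swap 4 5)) : Am t s b (fun x => x) s := by
  have h2 := q.two
  have u6 : GC.U t (ev 6) := ⟨by rw [GC.ev_dot, if_pos rfl], ht⟩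
  have u5 : GC.U (s * t * s⁻¹) (ev 5) := u6.pm hs
  have u4 : GC.U (b * (s * t * s⁻¹) * b⁻¹) (ev 4) := u5.pm hb
  have u6' : GC.U (b * t * b⁻¹) (ev 6) := u6.pm hb
  have hss : s * s = 1 := Subtype.ext (by
    rw [Subgroup.coe_mul, hs, ← pm_mul, Subgroup.coe_one, ← GC.pm_one]
    congr 1
    decide)
  have hbr : s * b * s = b * s * b := Subtype.ext (by
    simp only [Subgroup.coe_mul, hs, hb, ← pm_mul]
    congr 1
    decide)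
  have o56 := (u5.orth h2 u6).2 (by rw [GC.ev_dot, if_neg (by decide)])
  refine ⟨fun _ _ _ _ => rfl, hss, hss, o56.1, o56.2, fun _ _ _ => rfl, ?_, hbr, hbr, ?_, ?_, ?_⟩
  · rw [mem_centralizer_singleton_iff, ← mul_inv_eq_iff_eq_mul]
    exact u6'.eq u6
  · intro d hd h1 h3
    obtain ⟨x, hx⟩ := u6.of_conj hd
    have o := (hx.orth h2 u6).1 ⟨h1, h3⟩
    obtain ⟨g, g1, g2⟩ := GC.wit2 h2 u6.1 u5.1 (by rw [GC.ev_dot, if_neg (by decide)]) u6.1 hx.1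
      ((dotProduct_comm _ _).trans o)
    exact ⟨g, u6.fix g1, (u5.conj g).eq (g2 ▸ hx)⟩
  · intro d hd h1 h3 h4 h5
    obtain ⟨x, hx⟩ := u6.of_conj hd
    have o := (hx.orth h2 u6).1 ⟨h1, h3⟩
    have o' := (hx.orth h2 u5).1 ⟨h4, h5⟩
    obtain ⟨g, g1, g2, g3⟩ := GC.wit3 h2 u6.1 u5.1 u4.1 (by rw [GC.ev_dot, if_neg (by decide)])
      (by rw [GC.ev_dot, if_neg (by decide)]) (by rw [GC.ev_dot, if_neg (by decide)]) u6.1 u5.1 hx.1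
      (by rw [GC.ev_dot, if_neg (by decide)]) ((dotProduct_comm _ _).trans o)
      ((dotProduct_comm _ _).trans o')
    exact ⟨g, u6.fix g1, u5.fix g2, (u4.conj g).eq (g3 ▸ hx)⟩
  · intro d₁ d₂ d₃ d₄ c1 c2 c3 c4 h1 h3
    obtain ⟨x₁, hx₁⟩ := u6.of_conj c1
    obtain ⟨x₂, hx₂⟩ := u6.of_conj c2
    obtain ⟨x₃, hx₃⟩ := u6.of_conj c3
    obtain ⟨x₄, hx₄⟩ := u6.of_conj c4
    obtain ⟨x, hx, o1, o2, o3, o4⟩ :=
      nbr q x₁ x₂ x₃ x₄ hx₂.1 hx₃.1 ((hx₂.orth h2 hx₃).1 ⟨h1, h3⟩)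
    obtain ⟨g, hg⟩ := GC.wit1 h2 u6.1 hx
    have u := u6.conj g
    rw [hg] at u
    obtain ⟨a4, b4⟩ := (u.orth h2 hx₄).2 o4
    exact ⟨_, isConj_iff.2 ⟨g, rfl⟩, (u.orth h2 hx₁).2 o1, (u.orth h2 hx₂).2 o2,
      (u.orth h2 hx₃).2 o3, a4, b4⟩

end H24.T12
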