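import Cfsg.Agent.Lib.A12.Defs2
import Cfsg.Agent.Lib.A12.OB
/-! Package UP of `blueprint/A12/README.md`. -/
set_option autoImplicit false
set_option linter.unusedSectionVars false
set_option linter.unusedVariables false
namespace H24.T12
open Subgroup H1.A10 H45 H69 Gold Cfsg H67 Matrix

variable {G : Type} [Group G] [Finite G] {ι : M →* G} {π : G → B} {F : Type} [Field F] [Fintype F]
  {H L : Subgroup G} {ψ : GL (Fin 6) F → G} {σ : G} {n : ℕ}
  {J : Type} [Fintype J] [DecidableEq J] {Q : QuadraticForm F (J → F)} {θ : L →* GL J F}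

namespace UP

theorem val (g : GL (Fin 6) F) : (up g).val = upM g.val := rfl

theorem ucc (g : GL (Fin 6) F) (i j : Fin 6) : (up g).val i.castSucc j.castSucc = g.val i j := by
  rw [val, upM, reindex_apply, submatrix_apply, finSumFinEquiv_symm_apply_castSucc,
    finSumFinEquiv_symm_apply_castSucc, fromBlocks_apply₁₁]

theorem cl (g : GL (Fin 6) F) (i : Fin 6) : (up g).val i.castSucc (Fin.last 6) = 0 := by
  rw [val, upM, reindex_apply, submatrix_apply, finSumFinEquiv_symm_apply_castSucc,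
    finSumFinEquiv_symm_last, fromBlocks_apply₁₂, Matrix.zero_apply]

theorem lc (g : GL (Fin 6) F) (i : Fin 6) : (up g).val (Fin.last 6) i.castSucc = 0 := by
  rw [val, upM, reindex_apply, submatrix_apply, finSumFinEquiv_symm_apply_castSucc,
    finSumFinEquiv_symm_last, fromBlocks_apply₂₁, Matrix.zero_apply]

theorem ll (g : GL (Fin 6) F) : (up g).val (Fin.last 6) (Fin.last 6) = g.val.det := by
  rw [val, upM, reindex_apply, submatrix_apply, finSumFinEquiv_symm_last, fromBlocks_apply₂₂, diagonal_apply_eq]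

/-- extension by zero -/
abbrev sn (x : Fin 6 → F) : Fin 7 → F := Fin.snoc (α := fun _ => F) x 0

theorem dot_sn (x : Fin 6 → F) (y : Fin 7 → F) : sn x ⬝ᵥ y = x ⬝ᵥ fun i => y i.castSucc := by
  rw [dotProduct, Fin.sum_univ_castSucc]
  simp only [sn, Fin.snoc_castSucc, Fin.snoc_last, zero_mul, add_zero]
  rfl

theorem ne6 (i : Fin 6) : i.castSucc ≠ (6 : Fin 7) := Fin.castSucc_ne_last i

theorem QS_sn (x : Fin 6 → F) : QS F 7 (sn x) = QS F 6 x := by
  rw [QS_dot, QS_dot, dot_sn]; simp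

theorem pm_conj (ρ : Equiv.Perm (Fin n)) (x : GL (Fin n) F) (i j : Fin n) :
    (pm F ρ * x * (pm F ρ)⁻¹).val i j = x.val (ρ⁻¹ i) (ρ⁻¹ j) := by
  change ((ρ⁻¹).toPEquiv.toMatrix * x.val * ρ.toPEquiv.toMatrix : Matrix _ _ F) i j = _
  rw [PEquiv.toMatrix_toPEquiv_mul, PEquiv.mul_toMatrix_toPEquiv]
  rfl

end UP

open UP

theorem up_inj : Function.Injective (up : GL (Fin 6) F →* GL (Fin 7) F) := fun g h e =>
  Units.ext (Matrix.ext fun i j => by rw [← ucc, ← ucc, e])

theorem up_mulVec (g : GL (Fin 6) F) (x : Fin 7 → F) :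
    (up g).val *ᵥ x = Fin.snoc (α := fun _ => F) (g.val *ᵥ fun i => x i.castSucc) (g.val.det * x 6) := by
  funext i
  refine Fin.lastCases ?_ (fun i => ?_) i
  · rw [Fin.snoc_last, mulVec, dotProduct, Fin.sum_univ_castSucc]
    simp only [lc, ll, zero_mul, Finset.sum_const_zero, zero_add]
    rfl
  · rw [Fin.snoc_castSucc, mulVec, dotProduct, Fin.sum_univ_castSucc]
    simp only [ucc, cl, zero_mul, add_zero]
    rfl

theorem up_rv {x : Fin 6 → F} (hx : QS F 6 x ≠ 0) :
    up (rv x) = rv (Fin.snoc (α := fun _ => F) x 0) * (rf 6 : GL (Fin 7) F) := by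
  refine Units.ext (matrix_ext_mulVec fun y => funext fun i => ?_)
  have ne : ∀ i : Fin 6, i.castSucc ≠ (6 : Fin 7) := fun i => Fin.castSucc_ne_last i
  have e : (fun i : Fin 6 => ((rf 6 : GL (Fin 7) F).val *ᵥ y) i.castSucc) = fun i => y i.castSucc :=
    funext fun i => by rw [rf_val, mulVec_diagonal, if_neg (ne i), one_mul]
  rw [up_mulVec, Units.val_mul, ← mulVec_mulVec, rv_mulVec (sn x), ← QS_dot, QS_sn, QS_dot, dot_sn, e, rv_mulVec,
    det_reflGL hx]
  refine Fin.lastCases ?_ (fun i => ?_) i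
  · rw [Fin.snoc_last, Pi.sub_apply, Pi.smul_apply, sn, Fin.snoc_last, smul_zero, sub_zero, rf_val, mulVec_diagonal,
      if_pos (show Fin.last 6 = 6 from rfl)]
    rfl
  · rw [Fin.snoc_castSucc, Pi.sub_apply, Pi.sub_apply, Pi.smul_apply, Pi.smul_apply, sn, Fin.snoc_castSucc,
      congrFun e i]

theorem up_rf (h2 : (2 : F) ≠ 0) (i : Fin 6) : up (rf i : GL (Fin 6) F) = rf i.castSucc * rf 6 := by
  rw [up_rv (by rw [OB.ev1]; exact one_ne_zero)]
  congr 2
  funext k
  refine Fin.lastCases ?_ (fun k => ?_) k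
  · rw [Fin.snoc_last, ev, Pi.single_eq_of_ne (Fin.castSucc_ne_last i).symm]
  · simp [Pi.single_apply]

theorem up_neg (h2 : (2 : F) ≠ 0) : up (-1 : GL (Fin 6) F) = -(rf 6 : GL (Fin 7) F) := by
  refine Units.ext (matrix_ext_mulVec fun y => funext fun i => ?_)
  rw [up_mulVec, Units.val_neg, Units.val_neg, Units.val_one, neg_mulVec, neg_mulVec, one_mulVec, rf_val,
    Pi.neg_apply, mulVec_diagonal, det_neg, det_one]
  refine Fin.lastCases ?_ (fun i => ?_) i
  · rw [Fin.snoc_last, if_pos (show Fin.last 6 = 6 from rfl), Fintype.card_fin]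
    norm_num
    rfl
  · rw [Fin.snoc_castSucc, if_neg (ne6 i), one_mul]
    rfl

theorem up_pm {ρ : Equiv.Perm (Fin 6)} (h : Equiv.Perm.sign ρ = 1) {ρ' : Equiv.Perm (Fin 7)}
    (e : ∀ i, ρ' i.castSucc = (ρ i).castSucc) : up (pm F ρ) = pm F ρ' := by
  have l : ρ' (Fin.last 6) = Fin.last 6 := by
    obtain ⟨k, hk⟩ := ρ'.surjective (Fin.last 6)
    revert hk
    refine Fin.lastCases id (fun k hk => ?_) k
    exact absurd (e k ▸ hk) (Fin.castSucc_ne_last _)
  refine Units.ext (matrix_ext_mulVec fun y => funext fun i => ?_)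
  obtain ⟨i, rfl⟩ := ρ'.surjective i
  rw [pm_mulVec, up_mulVec, det_OG (pm_mem h), one_mul]
  refine Fin.lastCases ?_ (fun i => ?_) i
  · rw [l, Fin.snoc_last]; rfl
  · rw [e, Fin.snoc_castSucc, pm_mulVec]

theorem UP.prod {l : List (Fin 6 → F)} (h : ∀ w ∈ l, QS F 6 w ≠ 0) :
    ∃ l' : List (Fin 7 → F), (∀ w ∈ l', QS F 7 w ≠ 0) ∧ Even l'.length ∧
      (l'.map fun v => QS F 7 v).prod = (l.map fun v => QS F 6 v).prod ∧
      up (prodR (QS F 6) l) = prodR (QS F 7) l' := by
  induction l with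
  | nil => exact ⟨[], by simp, by simp, rfl, by simp [prodR]⟩
  | cons a l ih =>
    obtain ⟨l', h1, h2, h3, h4⟩ := ih fun w hw => h w (by simp [hw])
    have ha := h a (by simp)
    refine ⟨[sn a, ev 6] ++ l', ?_, ?_, ?_, ?_⟩
    · simpa [QS_sn, OB.ev1, ha] using h1
    · rw [List.length_append]; exact even_two.add h2
    · simp [QS_sn, OB.ev1, h3]
    · rw [← List.singleton_append, prodR_append, prodR_append, map_mul, h4, prodR_one, prodR_two, up_rv ha]

theorem up_mem_iff (h2 : (2 : F) ≠ 0) {g : GL (Fin 6) F} (hg : Iso g) : up g ∈ OG F 7 ↔ g ∈ RG F 6 := by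
  obtain ⟨l, hl, rfl⟩ := exists_prodR (nd_QS h2) (good_QS h2 (by norm_num)) (H12.mem_isometryGroup.2 hg)
  obtain ⟨l', h1, ev', h3, h4⟩ := UP.prod hl
  rw [h4, prodR_mem_omega (nd_QS h2) (good_QS h2 (by norm_num)) h1, h3, mem_RG h2 (by norm_num) 0, rf, rv,
    ← prodR_one, ← prodR_append, prodR_mem_omega (nd_QS h2) (good_QS h2 (by norm_num)) hl,
    prodR_mem_omega (nd_QS h2) (good_QS h2 (by norm_num)) (l := l ++ [ev 0]) (by simpa [OB.ev1, or_imp, forall_and] using hl)]
  simp only [ev', true_and, List.length_append, List.length_singleton, List.map_append, List.prod_append,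
    List.map_cons, List.map_nil, List.prod_cons, List.prod_nil, OB.ev1, mul_one, Nat.even_add_one]
  tauto

theorem up_mem (h2 : (2 : F) ≠ 0) {g : GL (Fin 6) F} (hg : g ∈ RG F 6) : up g ∈ OG F 7 :=
  (up_mem_iff h2 (iso_RG hg)).2 hg

theorem up_sur (h2 : (2 : F) ≠ 0) {x : GL (Fin 7) F} (hx : x ∈ OG F 7) (h : x * rf 6 = rf 6 * x) :
    ∃ g ∈ RG F 6, up g = x := by
  have e : ∀ i j, x.val i j * (if j = 6 then -1 else 1) = (if i = 6 then -1 else 1) * x.val i j := fun i j => by
    have := congrArg (fun y : GL (Fin 7) F => y.val i j) h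
    simpa only [Units.val_mul, rf_val, mul_diagonal, diagonal_mul] using this
  have c : ∀ i : Fin 6, x.val i.castSucc (Fin.last 6) = 0 := fun i => by
    have := e i.castSucc (Fin.last 6)
    rw [if_pos (show Fin.last 6 = 6 from rfl), if_neg (ne6 i)] at this
    exact (mul_eq_zero.1 (show (2 : F) * _ = 0 by linear_combination -this)).resolve_left h2
  have r : ∀ i : Fin 6, x.val (Fin.last 6) i.castSucc = 0 := fun i => by
    have := e (Fin.last 6) i.castSucc
    rw [if_pos (show Fin.last 6 = 6 from rfl), if_neg (ne6 i)] at this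
    exact (mul_eq_zero.1 (show (2 : F) * _ = 0 by linear_combination this)).resolve_left h2
  have d := det_OG hx
  rw [det_succ_row _ (Fin.last 6), Fin.sum_univ_castSucc] at d
  simp only [r, mul_zero, zero_mul, Finset.sum_const_zero, zero_add, Fin.succAbove_last] at d
  rw [Even.neg_one_pow ⟨_, rfl⟩, one_mul] at d
  have i := H12.mem_isometryGroup.1 (omega_le_iso _ hx)
  have s : x.val (Fin.last 6) (Fin.last 6) ^ 2 = 1 := by
    have := i (ev (Fin.last 6))
    rw [OB.ev1, QS_apply, Fin.sum_univ_castSucc] at this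
    simpa only [ev, mulVec_single_one, col_apply, c, ne_eq, OfNat.ofNat_ne_zero, not_false_eq_true, zero_pow,
      Finset.sum_const_zero, zero_add] using this
  let g : GL (Fin 6) F := GeneralLinearGroup.mkOfDetNeZero (x.val.submatrix Fin.castSucc Fin.castSucc)
    (right_ne_zero_of_mul_eq_one d)
  have gv : g.val = x.val.submatrix Fin.castSucc Fin.castSucc := rfl
  have u : up g = x := by
    refine Units.ext (Matrix.ext fun a b => ?_)
    refine Fin.lastCases ?_ (fun a => ?_) a <;> refine Fin.lastCases ?_ (fun b => ?_) b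
    · rw [ll, gv]
      linear_combination x.val (Fin.last 6) (Fin.last 6) * d - (x.val.submatrix Fin.castSucc Fin.castSucc).det * s
    · rw [lc, r]
    · rw [cl, c]
    · rw [ucc, gv, submatrix_apply]
  refine ⟨g, (up_mem_iff h2 fun y => ?_).1 (u ▸ hx), u⟩
  have := i (sn y)
  rw [← u, up_mulVec, show sn y 6 = 0 from rfl, mul_zero] at this
  simpa only [sn, Fin.snoc_castSucc, QS_sn] using this

theorem up_sw (h2 : (2 : F) ≠ 0) {g : GL (Fin 6) F} (hg : g ∈ S5 F) :
    pm F (Equiv.swap 0 1 * Equiv.swap 5 6) * up g * (pm F (Equiv.swap 0 1 * Equiv.swap 5 6))⁻¹ =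
      up (pm F (Equiv.swap 0 1) * g * (pm F (Equiv.swap 0 1))⁻¹) := by
  have s : g.val *ᵥ ev 5 = ev 5 := hg.2
  have c : ∀ a, g.val a 5 = if a = 5 then 1 else 0 := fun a => by
    simpa [Pi.single_apply] using congrFun s a
  have r : ∀ a, g.val 5 a = if a = 5 then 1 else 0 := fun a => by
    have := Iso.conj (H12.mem_isometryGroup.1 (omega_le_iso _ hg.1)) (ev 5)
    rw [s, mul_inv_eq_iff_eq_mul] at this
    have := congrArg (fun y : GL (Fin 6) F => y.val 5 a) this
    simp only [Units.val_mul, rf_val, mul_diagonal, diagonal_mul, if_true] at this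
    split_ifs at this ⊢ with h
    · rw [h, c, if_pos rfl]
    · exact (mul_eq_zero.1 (show (2 : F) * _ = 0 by linear_combination this)).resolve_left h2
  have d := det_OG hg.1
  have d' := det_OG (OB.conj (H12.mem_isometryGroup.2 (iso_pm (Equiv.swap 0 1))) hg.1)
  have A : ∀ b : Fin 5, (Equiv.swap 0 1 * Equiv.swap 5 6 : Equiv.Perm (Fin 7))⁻¹ b.castSucc.castSucc =
      ((Equiv.swap 0 1 : Equiv.Perm (Fin 6))⁻¹ b.castSucc).castSucc ∧
      (Equiv.swap 0 1 : Equiv.Perm (Fin 6))⁻¹ b.castSucc ≠ 5 := by decide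
  have B1 : (Equiv.swap 0 1 * Equiv.swap 5 6 : Equiv.Perm (Fin 7))⁻¹ (Fin.last 6) = (5 : Fin 6).castSucc := by decide
  have B2 : (Equiv.swap 0 1 * Equiv.swap 5 6 : Equiv.Perm (Fin 7))⁻¹ (Fin.last 5).castSucc = Fin.last 6 := by decide
  have B3 : (Equiv.swap 0 1 : Equiv.Perm (Fin 6))⁻¹ (Fin.last 5) = 5 := by decide
  refine Units.ext (Matrix.ext fun a b => ?_)
  rw [pm_conj]
  refine Fin.lastCases ?_ (fun a => Fin.lastCases ?_ (fun a => ?_) a) a <;>
    refine Fin.lastCases ?_ (fun b => Fin.lastCases ?_ (fun b => ?_) b) b <;>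
    simp only [B1, B2, B3, (A _).1, (A _).2, ucc, cl, lc, ll, pm_conj, c, r, d, d', if_true, if_false]

end H24.T12
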