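import Cfsg.Agent.Lib.A12.Defs2
import Cfsg.Agent.Lib.A12.AMAL
import Cfsg.Agent.Lib.A12.GEOC
import Cfsg.Agent.Lib.A12.UP
import Cfsg.Agent.Lib.A12.OB2
import Cfsg.Agent.Lib.A12.EF2
/-! Package GEOB of `blueprint/A12/README.md`. -/
set_option autoImplicit false
namespace H24.T12
open Subgroup H1.A10 H45 H69 Gold Cfsg H67 Matrix

variable {G : Type} [Group G] [Finite G] {ι : M →* G} {π : G → B} {F : Type} [Field F] [Fintype F]
  {H L : Subgroup G} {ψ : GL (Fin 6) F → G} {σ : G} {n : ℕ}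
  {J : Type} [Fintype J] [DecidableEq J] {Q : QuadraticForm F (J → F)} {θ : L →* GL J F}

namespace GEOB

theorem rf_comm (i j : Fin n) : (rf i : GL (Fin n) F) * rf j = rf j * rf i :=
  Units.ext (by rw [Units.val_mul, Units.val_mul, rf_val, rf_val, diagonal_mul_diagonal, diagonal_mul_diagonal]
                simp only [mul_comm])

theorem up_nrf (h2 : (2 : F) ≠ 0) (i : Fin 6) : up (-(rf i : GL (Fin 6) F)) = -(rf i.castSucc : GL (Fin 7) F) := by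
  rw [← neg_one_mul, map_mul, up_neg h2, up_rf h2, rf_comm _ 6, neg_mul, ← mul_assoc, rv_sq, one_mul]

theorem up_c (h2 : (2 : F) ≠ 0) (g : GL (Fin 6) F) : up g * rf 6 = rf 6 * up g := by
  rw [← neg_inj, ← mul_neg, ← neg_mul, ← up_neg h2, ← map_mul, ← map_mul, mul_neg_one, neg_one_mul]

theorem mem_of_up (h2 : (2 : F) ≠ 0) {g : GL (Fin 6) F} (h : up g ∈ OG F 7) : g ∈ RG F 6 := by
  obtain ⟨g', h1, h3⟩ := up_sur h2 h (up_c h2 g)
  exact up_inj h3 ▸ h1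

theorem QS_ev (i : Fin n) : QS F n (ev i) = 1 := by
  rw [QS_dot, single_dotProduct, one_mul]; exact Pi.single_eq_same _ _

theorem act (o : OM H ι F ψ) (sw : Sw ι F ψ σ) {g : GL (Fin 6) F} (hg : g ∈ RG F 6) (c : g * rf 5 = rf 5 * g) :
    ∃ g', σ * ψ g * σ⁻¹ = ψ g' ∧ pm F (Equiv.swap 0 1 * Equiv.swap 5 6) * up g *
      (pm F (Equiv.swap 0 1 * Equiv.swap 5 6))⁻¹ = up g' := by
  have h2 := o.q8.two
  obtain ⟨s, hs⟩ : ∃ s : GL (Fin 7) F, s = pm F (Equiv.swap 0 1 * Equiv.swap 5 6) := ⟨_, rfl⟩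
  have sO : s ∈ OG F 7 := hs ▸ pm_mem (by simp)
  rw [← hs]
  let P : GL (Fin 6) F → Prop := fun g => g ∈ RG F 6 ∧ ∃ g', σ * ψ g * σ⁻¹ = ψ g' ∧ s * up g * s⁻¹ = up g'
  have mul : ∀ g k, P g → P k → P (g * k) := by
    rintro g k ⟨hg, g', e1, e2⟩ ⟨hk, k', e3, e4⟩
    have m1 : g' ∈ RG F 6 := mem_of_up h2 (e2 ▸ mul_mem (mul_mem sO (up_mem h2 hg)) (inv_mem sO))
    have m2 : k' ∈ RG F 6 := mem_of_up h2 (e4 ▸ mul_mem (mul_mem sO (up_mem h2 hk)) (inv_mem sO))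
    refine ⟨mul_mem hg hk, g' * k', ?_, ?_⟩
    · rw [o.mul g hg k hk, o.mul g' m1 k' m2, ← e1, ← e3, conj_mul]
    · rw [map_mul, map_mul, ← e2, ← e4, conj_mul]
  have p0 : ∀ g ∈ OG F 6, g ∈ St (ev 5) → P g := fun g h1 h3 =>
    ⟨mem_sup_left h1, _, sw.act g h1 h3, hs ▸ up_sw h2 ⟨h1, h3⟩⟩
  have p1 : P (-1) := by
    refine ⟨mem_sup_left (neg_OG h2), -(rf 5 : GL (Fin 6) F), ?_, ?_⟩
    · rw [o.neg, (o.ptt 5).2, show z = tt 6 by decide +kernel]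
      exact sw.pa 6
    · rw [up_neg h2, up_nrf h2, mul_neg, neg_mul, hs, pm_rf]; rfl
  have p2 : P (-(rf 0 : GL (Fin 6) F)) := by
    refine ⟨(o.ptt 0).1, -(rf 1 : GL (Fin 6) F), ?_, ?_⟩
    · rw [(o.ptt 0).2, (o.ptt 1).2]
      exact sw.pa 0
    · rw [up_nrf h2, up_nrf h2, mul_neg, neg_mul, hs, pm_rf]; rfl
  have p3 : ∀ g ∈ RG F 6, g ∈ St (ev 5) → P g := fun g h1 h3 => by
    rcases (mem_RG h2 (by omega) 0).1 h1 with h | h
    · exact p0 g h h3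
    · have r0 : (rf 0 : GL (Fin 6) F) ∈ St (ev 5) := by
        rw [mem_St, rv_mulVec, single_dotProduct]
        simp
      have := mul _ _ (mul _ _ (p0 _ h (mul_mem h3 r0)) p2) p1
      rwa [mul_neg_one, mul_neg, neg_neg, mul_assoc, rv_sq, mul_one] at this
  have iso := iso_RG hg
  have n5 : QS F 6 (g.val *ᵥ ev 5) = 1 := (iso _).trans (QS_ev 5)
  obtain ⟨a, -, ha⟩ := rv_inj h2 (x := ev 5) (y := g.val *ᵥ ev 5) (by rw [QS_ev]; exact one_ne_zero)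
    (by rw [n5]; exact one_ne_zero) (by rw [← iso.conj, c, mul_inv_cancel_right])
  rw [ha, QuadraticMap.map_smul, QS_ev, smul_eq_mul, mul_one] at n5
  rcases mul_self_eq_one_iff.1 n5 with rfl | rfl
  · exact (p3 g hg (ha.trans (one_smul _ _))).2
  · have := mul _ _ (p3 (g * -1) (mul_mem hg p1.1) (by
      rw [mem_St, mul_neg_one, Units.val_neg, neg_mulVec, ha, neg_smul, neg_neg, one_smul])) p1
    rw [mul_neg_one, mul_neg_one, neg_neg] at this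
    exact this.2

end GEOB

open GEOB in
theorem geoB (o : OM H ι F ψ) (sw : Sw ι F ψ σ) (br : σ * ψ (al6 F) * σ = ψ (al6 F) * σ * ψ (al6 F)) :
    ∃ Φ : OG F 7 →* G, (∀ g ∈ RG F 6, ψ g ∈ Φ.range) ∧ σ ∈ Φ.range := by
  have h2 := o.q8.two
  have eb : up (al6 F) = pm F (Equiv.swap 0 1 * Equiv.swap 4 5) := up_pm (by simp) (by decide)
  obtain ⟨t, ht⟩ : ∃ t : OG F 7, t.1 = -(rf 6 : GL (Fin 7) F) :=
    ⟨⟨_, up_neg h2 ▸ up_mem h2 (mem_sup_left (neg_OG h2))⟩, rfl⟩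
  obtain ⟨s, hs⟩ : ∃ s : OG F 7, s.1 = pm F (Equiv.swap 0 1 * Equiv.swap 5 6) := ⟨⟨_, pm_mem (by simp)⟩, rfl⟩
  obtain ⟨b, hb⟩ : ∃ b : OG F 7, b.1 = pm F (Equiv.swap 0 1 * Equiv.swap 4 5) := ⟨⟨_, pm_mem (by simp)⟩, rfl⟩
  have A := geoC o.q8 ht hs hb
  obtain ⟨φ, hφ⟩ : ∃ φ : OG F 7 → G, ∀ (x : OG F 7) g, up g = x.1 → φ x = ψ g :=
    ⟨fun x => ψ (Function.invFun up x.1), fun x g e => by
      simp only [← e, Function.leftInverse_invFun up_inj g]⟩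
  have sur : ∀ x ∈ 𝐂[t], ∃ g ∈ RG F 6, up g = x.1 := fun x hx => up_sur h2 x.2 (by
    have : x.1 * t.1 = t.1 * x.1 := congrArg Subtype.val (mem_centralizer_singleton_iff.1 hx)
    rwa [ht, mul_neg, neg_mul, neg_inj] at this)
  have B : Am t s b φ σ := by
    refine ⟨fun x hx y hy => ?_, A.ss, sw.sq, A.ne, A.cm, fun x hx hx' => ?_, A.bt, A.br, ?_, A.tr1, A.tr2, A.geo⟩
    · obtain ⟨g, hg, e⟩ := sur x hx
      obtain ⟨k, hk, e'⟩ := sur y hy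
      rw [hφ x g e, hφ y k e', hφ (x * y) (g * k) (by rw [map_mul, e, e']; rfl), o.mul g hg k hk]
    · obtain ⟨g, hg, e⟩ := sur x hx
      have c : x.1 * (s.1 * t.1 * s.1⁻¹) = s.1 * t.1 * s.1⁻¹ * x.1 :=
        congrArg Subtype.val (mem_centralizer_singleton_iff.1 hx')
      rw [ht, hs, mul_neg, neg_mul, pm_rf, mul_neg, neg_mul, neg_inj, ← e] at c
      obtain ⟨g', e1, e2⟩ := act o sw hg (up_inj (by
        rw [map_mul, map_mul, up_rf h2, mul_assoc, ← up_c h2, ← mul_assoc, ← mul_assoc]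
        exact congrArg (· * rf 6) c))
      rw [hφ x g e, e1, hφ _ g' (by rw [← e2, ← hs, e]; rfl)]
    · rw [hφ b _ (eb.trans hb.symm), br]
  obtain ⟨Φ, h1, h3⟩ := amal B
  refine ⟨Φ, fun g hg => ⟨⟨up g, up_mem h2 hg⟩, ?_⟩, s, h3⟩
  rw [h1 _ (mem_centralizer_singleton_iff.2 (Subtype.ext ?_)), hφ _ g rfl]
  change up g * t.1 = t.1 * up g
  rw [ht, mul_neg, neg_mul, up_c h2]

end H24.T12
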