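import Cfsg.Agent.Lib.A12.Defs2
import Cfsg.Agent.Lib.A12.OB
import Cfsg.Agent.Lib.QF.Classify
import Cfsg.Agent.Lib.Orth12.Forms
/-! Package ISO7 of `blueprint/A12/README.md`. -/
set_option autoImplicit false
namespace H24.T12
open Subgroup H1.A10 H45 H69 Gold Cfsg H67 Matrix

variable {G : Type} [Group G] [Finite G] {ι : M →* G} {π : G → B} {F : Type} [Field F] [Fintype F]
  {H L : Subgroup G} {ψ : GL (Fin 6) F → G} {σ : G} {n : ℕ}
  {J : Type} [Fintype J] [DecidableEq J] {Q : QuadraticForm F (J → F)} {θ : L →* GL J F}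

namespace ISO7
open H12

theorem o_odd {V : Type*} [AddCommGroup V] [Module F V] [FiniteDimensional F V] {Q : QuadraticForm F V} {m : ℕ}
    (hQ : Nondeg Q) (h : Module.finrank F V = 2 * m + 1) : Nonempty (O Q ≃* O (QOdd F m)) := by
  obtain ⟨c, hc, -, Φ, hΦ⟩ := H66.exists_equiv_odd (nondeg_iff.1 hQ) (m := m) h
  let s : Unit ⊕ (Fin m ⊕ Fin m) → F := Sum.elim (fun _ => 1) (Sum.elim (fun _ => c) fun _ => 1)
  have hs : ∀ i, s i ≠ 0 := by rintro (i | i | i) <;> simp [s, hc]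
  let ψ : (Unit ⊕ (Fin m ⊕ Fin m) → F) ≃ₗ[F] (Unit ⊕ (Fin m ⊕ Fin m) → F) :=
    LinearEquiv.piCongrRight fun i => LinearEquiv.smulOfNeZero F F (s i) (hs i)
  have e : O Q = O (c⁻¹ • Q) := Subgroup.ext fun k => by simp [mem_O, hc]
  refine ⟨(MulEquiv.subgroupCongr e).trans (congrO (Q := QOdd F m) (ψ.trans Φ) fun v => ?_).symm⟩
  rw [QuadraticMap.smul_apply, LinearEquiv.trans_apply, hΦ, H66.qOdd_apply, QOdd_apply, quadFormOdd]
  simp only [ψ, s, LinearEquiv.piCongrRight_apply, LinearEquiv.smulOfNeZero_apply, Sum.elim_inl, Sum.elim_inr,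
    smul_eq_mul, one_mul, mul_assoc, ← Finset.mul_sum]
  field_simp

end ISO7

theorem iso7 (q : Q8 F) : IsSimpleGroup (OG F 7) ∧ Nonempty (OG F 7 ≃* POmega F (quadFormOdd 3 F)) := by
  classical
  have h2 := q.two
  have hQ : H12.Nondeg (QS F 7) := nd_QS h2
  have h7 : Module.finrank F (Fin 7 → F) = 2 * 3 + 1 := by simp
  obtain ⟨e⟩ := ISO7.o_odd hQ h7
  obtain ⟨x, y, h⟩ := hQ.exists_hyp_of_three_le (by omega)
  have hc := h.card_center_Om_of_not_mem hQ (H12.good_of_two_ne_zero hQ h2) (by omega)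
    (Or.inl (H12.negO_not_mem_Om_of_odd hQ h2 (by rw [h7]; decide)))
  have e1 : OG F 7 ≃* H12.Om (QS F 7) :=
    (equivMapOfInjective _ _ (subtype_injective _)).symm.trans (H12.commCongr (H12.isoEquiv (QS F 7) fun _ => rfl))
  have e2 : OG F 7 ≃* H12.Om (QS F 7) ⧸ center (H12.Om (QS F 7)) :=
    e1.trans ((QuotientGroup.quotientMulEquivOfEq hc).trans QuotientGroup.quotientBot).symm
  have := H12.isSimpleGroup_POm hQ (by omega)
  exact ⟨e2.isSimpleGroup, ⟨e2.trans (H12.pcommCongr (e.trans (H12.oddIso F 3).symm))⟩⟩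

end H24.T12
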