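import Cfsg.Agent.Lib.A12.Defs2
import Cfsg.Agent.Lib.A12.GEN
import Cfsg.Agent.Lib.A12.AUT5
/-! Package ST5 of `blueprint/A12/README.md`. -/
set_option autoImplicit false
set_option linter.unusedSectionVars false
namespace H24.T12
open Subgroup H1.A10 H45 H69 Gold Cfsg H67 Matrix

variable {G : Type} [Group G] [Finite G] {ι : M →* G} {π : G → B} {F : Type} [Field F] [Fintype F]
  {H L : Subgroup G} {ψ : GL (Fin 6) F → G} {σ : G} {n : ℕ}
  {J : Type} [Fintype J] [DecidableEq J] {Q : QuadraticForm F (J → F)} {θ : L →* GL J F}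

namespace ST5

/-- the matrix `g ⊕ 1` -/
def eM (g : Matrix (Fin n) (Fin n) F) : Matrix (Fin (n + 1)) (Fin (n + 1)) F :=
  reindex finSumFinEquiv finSumFinEquiv (fromBlocks g 0 0 (1 : Matrix (Fin 1) (Fin 1) F))

theorem eM_mul (g h : Matrix (Fin n) (Fin n) F) : eM (g * h) = eM g * eM h := by
  simp [eM, fromBlocks_multiply]

theorem eM_one : eM (1 : Matrix (Fin n) (Fin n) F) = 1 := by simp [eM]

theorem det_eM (g : Matrix (Fin n) (Fin n) F) : (eM g).det = g.det := by simp [eM]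

theorem eM_cc (g : Matrix (Fin n) (Fin n) F) (i j : Fin n) : eM g i.castSucc j.castSucc = g i j := by
  simp [eM]

theorem eM_cl (g : Matrix (Fin n) (Fin n) F) (i : Fin n) : eM g i.castSucc (Fin.last n) = 0 := by
  simp [eM]

theorem eM_lc (g : Matrix (Fin n) (Fin n) F) (i : Fin n) : eM g (Fin.last n) i.castSucc = 0 := by
  simp [eM]

theorem eM_ll (g : Matrix (Fin n) (Fin n) F) : eM g (Fin.last n) (Fin.last n) = 1 := by
  simp [eM]

theorem eM_c (g : Matrix (Fin n) (Fin n) F) (v : Fin (n + 1) → F) (i : Fin n) :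
    (eM g *ᵥ v) i.castSucc = (g *ᵥ fun j => v j.castSucc) i := by
  simp [mulVec, dotProduct, Fin.sum_univ_castSucc, eM_cc, eM_cl]

theorem eM_l (g : Matrix (Fin n) (Fin n) F) (v : Fin (n + 1) → F) :
    (eM g *ᵥ v) (Fin.last n) = v (Fin.last n) := by
  simp [mulVec, dotProduct, Fin.sum_univ_castSucc, eM_lc, eM_ll]

/-- the embedding `g ↦ g ⊕ 1` -/
def eG : GL (Fin n) F →* GL (Fin (n + 1)) F := Units.map ⟨⟨eM, eM_one⟩, eM_mul⟩

theorem eG_val (g : GL (Fin n) F) : (eG g).val = eM g.val := rfl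

theorem eG_inj : Function.Injective (eG : GL (Fin n) F → _) := fun a b h =>
  Units.ext (Matrix.ext fun i j => by rw [← eM_cc a.val, ← eG_val, h, eG_val, eM_cc])

/-- extension by zero -/
def sn (x : Fin n → F) : Fin (n + 1) → F := Fin.snoc (α := fun _ => F) x 0

theorem sn_c (x : Fin n → F) (i : Fin n) : sn x i.castSucc = x i := by simp [sn]

theorem sn_l (x : Fin n → F) : sn x (Fin.last n) = 0 := by simp [sn]

theorem QS_succ (v : Fin (n + 1) → F) :
    QS F (n + 1) v = QS F n (fun j => v j.castSucc) + v (Fin.last n) ^ 2 := by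
  rw [QS_apply, QS_apply, Fin.sum_univ_castSucc]

theorem QS_sn (x : Fin n → F) : QS F (n + 1) (sn x) = QS F n x := by
  simp [QS_succ, sn_c, sn_l]

theorem sn_dot (x : Fin n → F) (v : Fin (n + 1) → F) : sn x ⬝ᵥ v = x ⬝ᵥ fun j => v j.castSucc := by
  simp [dotProduct, Fin.sum_univ_castSucc, sn_c, sn_l]

theorem eG_rv (x : Fin n → F) : eG (rv x) = rv (sn x) := by
  refine Units.ext (ext_of_mulVec_single fun k => ?_)
  generalize (Pi.single k 1 : Fin (n + 1) → F) = v
  rw [rv_mulVec, sn_dot, sn_dot, eG_val]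
  funext i
  induction i using Fin.lastCases with
  | last => simp [eM_l, sn_l]
  | cast i => simp [eM_c, rv_mulVec, sn_c]

theorem eG_iso {g : GL (Fin n) F} (hg : Iso g) : Iso (eG g) := fun v => by
  rw [QS_succ, QS_succ v, eG_val, eM_l, funext (eM_c g.val v), hg]

theorem eG_St (g : GL (Fin n) F) : eG g ∈ St (ev (Fin.last n)) := by
  rw [mem_St, eG_val]
  funext i
  induction i using Fin.lastCases with
  | last => rw [eM_l]
  | cast i => simp [eM_cl]

theorem iso_iff {g : GL (Fin n) F} : Iso g ↔ g ∈ isometryGroup F (QS F n) := H12.mem_isometryGroup.symm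

theorem eG_OG {g : GL (Fin n) F} (hg : g ∈ OG F n) : eG g ∈ OG F (n + 1) :=
  map_mem_omegaGL eG (fun _ h => iso_iff.1 (eG_iso (iso_iff.2 h))) hg

theorem eG_prodR (l : List (Fin n → F)) : eG (prodR (QS F n) l) = prodR (QS F (n + 1)) (l.map sn) := by
  rw [prodR, prodR, map_list_prod, List.map_map, List.map_map]
  exact congrArg List.prod (List.map_congr_left fun x _ => eG_rv x)

theorem exists_eG (h2 : (2 : F) ≠ 0) {g : GL (Fin (n + 1)) F} (hg : Iso g) (hs : g ∈ St (ev (Fin.last n))) :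
    ∃ g', Iso g' ∧ eG g' = g := by
  have hc : ∀ i, g.val i (Fin.last n) = (Pi.single (Fin.last n) 1 : Fin (n + 1) → F) i := fun i => by
    have := congrFun (mem_St.1 hs) i
    rwa [mulVec_single_one, col_apply] at this
  have hr : ∀ v, (g.val *ᵥ v) (Fin.last n) = v (Fin.last n) := fun v => by
    have h1 : QuadraticMap.polar (QS F (n + 1)) (g.val *ᵥ v) (g.val *ᵥ ev (Fin.last n)) =
        QuadraticMap.polar (QS F (n + 1)) v (ev (Fin.last n)) := by
      simp only [QuadraticMap.polar, ← mulVec_add, hg _]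
    rw [mem_St.1 hs, polar_QS, polar_QS] at h1
    simpa using mul_left_cancel₀ h2 h1
  have he : eM (g.val.submatrix Fin.castSucc Fin.castSucc) = g.val := by
    ext i j
    induction i using Fin.lastCases with
    | last =>
      have := hr (Pi.single j 1)
      rw [mulVec_single_one, col_apply] at this
      rw [this]
      induction j using Fin.lastCases with
      | last => simp [eM_ll]
      | cast j => simp [eM_lc]
    | cast i =>
      induction j using Fin.lastCases with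
      | last => simp [eM_cl, hc]
      | cast j => rw [eM_cc, submatrix_apply]
  have hd : (g.val.submatrix Fin.castSucc Fin.castSucc).det ≠ 0 := by
    rw [← det_eM, he]
    exact g.det_ne_zero
  refine ⟨GeneralLinearGroup.mkOfDetNeZero _ hd, fun x => ?_, Units.ext he⟩
  have h1 := hg (sn x)
  rw [QS_succ, hr, sn_l, QS_sn, ← he, funext (eM_c _ _), funext (sn_c x)] at h1
  simpa using h1

theorem exists_OG (h2 : (2 : F) ≠ 0) (hn : 5 ≤ n) {g : GL (Fin (n + 1)) F} (hg : g ∈ OG F (n + 1))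
    (hs : g ∈ St (ev (Fin.last n))) : ∃ g' ∈ OG F n, eG g' = g := by
  obtain ⟨g', h1, rfl⟩ := exists_eG h2 (iso_iff.2 (omega_le_iso _ hg)) hs
  obtain ⟨l, hl, rfl⟩ := exists_prodR (nd_QS h2) (good_QS h2 hn) (iso_iff.1 h1)
  refine ⟨_, (prodR_mem_omega (nd_QS h2) (good_QS h2 hn) hl).2 ?_, rfl⟩
  rw [eG_prodR, prodR_mem_omega (nd_QS h2) (good_QS h2 (by omega)) (by simpa [QS_sn] using hl)] at hg
  simpa [Function.comp_def, QS_sn] using hg

theorem cen_om (h2 : (2 : F) ≠ 0) {z : Omega F (QS F 5)} (hz : z ∈ center _) : z = 1 := by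
  have h1 : omJ _ z ∈ center (GL (Fin 5) F) := by
    refine (pomInn_eq_one_iff ⟨_, rfl, nd_QS h2⟩ (by simp) (omega_le_GO _) (g := ⟨_, omJ_mem z⟩)).1
      ((indAut_eq_one_iff _ _).2 fun s => ⟨1, one_mem _, ?_⟩)
    change omJ _ z * omJ _ s * (omJ _ z)⁻¹ = _
    rw [← map_mul, ← mem_center_iff.1 hz s, map_mul, mul_inv_cancel_right, map_one, mul_one]
  rcases iso_mem_ZZ (nd_QS h2) bot_le (omega_le_iso _ (omJ_mem z)) (center_le_ZZ ⊥ h1) with h | h
  · exact omJ_inj (by rw [mem_bot.1 h, map_one])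
  · have h3 := det_scalar_mul (-1 : Fˣ) (omJ _ z)
    rw [mem_bot.1 h, det_omega (omJ_mem z)] at h3
    refine absurd ?_ h2
    simp only [Units.val_one, det_one, Units.val_neg, Fintype.card_fin, mul_one] at h3
    linear_combination h3

/-- the stabiliser of the last vector is `Ω₅` -/
theorem exists_equiv (h2 : (2 : F) ≠ 0) : ∃ φ : Omega F (QS F 5) ≃* S5 F, ∀ x, (φ x : GL (Fin 6) F) = eG (omJ _ x) := by
  let f : Omega F (QS F 5) →* S5 F := (eG.comp (omJ _)).codRestrict _ fun x => ⟨eG_OG (omJ_mem x), eG_St _⟩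
  refine ⟨MulEquiv.ofBijective f ⟨fun a b h => omJ_inj (eG_inj (congrArg Subtype.val h)), fun g => ?_⟩,
    fun _ => rfl⟩
  obtain ⟨g', h1, e⟩ := exists_OG h2 le_rfl g.2.1 g.2.2
  obtain ⟨x, rfl⟩ := (range_omJ _).ge h1
  exact ⟨x, Subtype.ext e⟩

end ST5

open ST5

theorem gen5 (h2 : (2 : F) ≠ 0) :
    S5 F ≤ closure {g | ∃ x y, QS F 6 x = 1 ∧ QS F 6 y = 1 ∧ x 5 = 0 ∧ y 5 = 0 ∧ g = rv x * rv y} := by
  intro g hg
  obtain ⟨g', h1, rfl⟩ := exists_OG h2 le_rfl hg.1 hg.2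
  refine mem_comap.1 ((closure_le (comap eG _)).2 ?_ (genO h2 le_rfl h1))
  rintro _ ⟨x, y, hx, hy, rfl⟩
  exact subset_closure ⟨sn x, sn y, (QS_sn x).trans hx, (QS_sn y).trans hy, sn_l x, sn_l y, by
    rw [map_mul, eG_rv, eG_rv]⟩

theorem st5 (q : Q8 F) (α : MulAut (S5 F)) {k : ℕ} (hα : α ^ 2 ^ k = 1) :
    ∃ h : GL (Fin 6) F, Iso h ∧ h ∈ St (ev 5) ∧ ∀ g : S5 F, (α g : GL (Fin 6) F) = h * g * h⁻¹ := by
  have h2 := q.two
  obtain ⟨φ, hφ⟩ := exists_equiv h2
  let γ := MulAut.congr φ.symm α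
  obtain ⟨s, hs⟩ := aut5 q (quotAut γ)
  have h1 : pomGam _ (s ^ 2 ^ k) = 1 := by
    rw [map_pow, hs, ← map_pow, ← map_pow, hα, map_one, map_one]
  have h3 : s.1.right = 1 := q.aut _ (k := k) (by
    have := ((pomGam_eq_one_iff ⟨_, rfl, nd_QS h2⟩ (by simp)).1 h1).2
    rwa [Subgroup.coe_pow, ← SemidirectProduct.rightHom_eq_right, map_pow,
      SemidirectProduct.rightHom_eq_right] at this)
  have h4 : s.1 = SemidirectProduct.inl s.1.left := SemidirectProduct.ext rfl h3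
  have h5 : s.1.left ∈ GO (QS F 5) := inl_mem_GamO.1 (h4 ▸ s.2)
  rw [GO_eq_of_odd (nd_QS h2) (by simp; decide)] at h5
  obtain ⟨c, hc⟩ := mem_ZZ.1 h5
  refine ⟨eG (GeneralLinearGroup.scalar _ c * s.1.left), eG_iso (iso_iff.2 hc.1), eG_St _, fun g => ?_⟩
  obtain ⟨x, rfl⟩ := φ.surjective g
  obtain ⟨y, hy⟩ := exists_j_eq ⟨gamAut _ F s, gam_mem_stab s.2⟩ x
  have h6 := indAut_mk omJ_inj _ hy
  rw [← pomGam_eq, hs, quotAut_mk, QuotientGroup.eq] at h6
  have h7 : α (φ x) = φ y := by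
    rw [← inv_mul_eq_one.1 (cen_om h2 h6)]
    simp [γ]
  rw [h7, hφ, hφ, hy, ← map_inv, ← map_mul, ← map_mul]
  congr 1
  change gamAut _ F s.1 _ = MulAut.conj (GeneralLinearGroup.scalar _ c * s.1.left) _
  rw [gamAut_eq, h3, map_one, mul_one, map_mul, conj_of_mem_center (g := GeneralLinearGroup.scalar _ c)
    (by rw [GeneralLinearGroup.center_eq_range_scalar]; exact ⟨_, rfl⟩), one_mul]

end H24.T12
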