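import Cfsg.Agent.Lib.A12.Defs2
import Cfsg.Agent.Lib.A12.OB2
import Cfsg.Agent.Lib.A12.EF2
import Cfsg.Agent.Lib.A12.ST5
import Cfsg.Agent.Lib.A12.WIT
/-! Package SIGA of `blueprint/A12/README.md`. -/
set_option autoImplicit false
set_option linter.unusedSectionVars false
namespace H24.T12
open Subgroup H1.A10 H45 H69 Gold Cfsg H67 Matrix

variable {G : Type} [Group G] [Finite G] {ι : M →* G} {π : G → B} {F : Type} [Field F] [Fintype F]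
  {H L : Subgroup G} {ψ : GL (Fin 6) F → G} {σ : G} {n : ℕ}
  {J : Type} [Fintype J] [DecidableEq J] {Q : QuadraticForm F (J → F)} {θ : L →* GL J F}

namespace SIGA

theorem QS_ev (i : Fin n) : QS F n (ev i) = 1 := by
  rw [QS_dot]; simp

theorem neg_RG (h2 : (2 : F) ≠ 0) : (-1 : GL (Fin 6) F) ∈ RG F 6 := (le_sup_left : OG F 6 ≤ _) (neg_OG h2)

theorem nrv_RG (h2 : (2 : F) ≠ 0) {x : Fin 6 → F} (hx : QS F 6 x = 1) : -rv x ∈ RG F 6 := by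
  rw [← neg_one_mul]; exact mul_mem (neg_RG h2) (rv_RG h2 (by norm_num) hx)

theorem move (h2 : (2 : F) ≠ 0) {x y : Fin 6 → F} (hx : QS F 6 x ≠ 0) (e : QS F 6 y = QS F 6 x) :
    ∃ g ∈ OG F 6, g * rv x * g⁻¹ = rv y := by
  obtain ⟨g, hg, h⟩ := wit h2 (n := 6) (by norm_num) (k := 1) (by norm_num) (fun _ => QS F 6 x) (fun _ => hx)
    (fun _ => x) (fun _ => y) (fun i j => by rw [if_pos (Subsingleton.elim _ _), QS_dot])
    (fun i j => by rw [if_pos (Subsingleton.elim _ _), ← e, QS_dot])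
  exact ⟨g, hg, by rw [(iso_RG ((le_sup_left : OG F 6 ≤ _) hg)).conj, h 0]⟩

theorem rv_ne (h2 : (2 : F) ≠ 0) {x : Fin 6 → F} (hx : QS F 6 x ≠ 0) : rv x ≠ 1 := fun e => by
  have h := rv_mulVec x x
  rw [e, Units.val_one, one_mulVec, ← QS_dot, mul_div_assoc, div_self hx, mul_one, eq_sub_iff_add_eq, add_eq_left,
    smul_eq_zero] at h
  rcases h with h | h
  · exact h2 h
  · exact hx (by rw [h, map_zero])

theorem ttz (d : Dat ι π) (i : Fin 7) : IsConj (ι z) (ι (tt i)) := by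
  obtain ⟨g, _, p⟩ := d.tr i
  exact isConj_iff.2 ⟨g, p.eq⟩

theorem cj (o : OM H ι F ψ) {g h : GL (Fin 6) F} (hg : g ∈ RG F 6) (hh : h ∈ RG F 6) :
    ψ (g * h * g⁻¹) = ψ g * ψ h * (ψ g)⁻¹ := by
  rw [o.mul _ (mul_mem hg hh) _ (inv_mem hg), o.mul _ hg _ hh, o.inv hg]

theorem unit_of (h2 : (2 : F) ≠ 0) {x : Fin 6 → F} (hx : QS F 6 x ≠ 0) (h : rv x ∈ RG F 6) :
    ∃ y, QS F 6 y = 1 ∧ rv y = rv x := by
  have sq : IsSquare (QS F 6 x * QS F 6 (ev 0)) := by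
    rcases (mem_RG h2 (by norm_num) 0).1 h with h | h
    · exfalso
      have := det_OG h
      rw [det_reflGL hx] at this
      exact h2 (by linear_combination -this)
    · exact (rr_mem h2 (by norm_num) hx (by rw [QS_ev]; exact one_ne_zero)).1 h
  rw [QS_ev, mul_one] at sq
  obtain ⟨r, hr⟩ := sq
  have r0 : r ≠ 0 := fun e => hx (by rw [hr, e, mul_zero])
  refine ⟨r⁻¹ • x, ?_, rv_smul (inv_ne_zero r0) x⟩
  rw [QuadraticMap.map_smul, hr, smul_eq_mul]; field_simp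

theorem pa_pow {y : G} {ρ : Equiv.Perm (Fin 7)} (h : PA ι y ρ) (k : ℕ) : PA ι (y ^ k) (ρ ^ k) := by
  induction k with
  | zero => intro i; rw [pow_zero, pow_zero]; exact Cj.refl _
  | succ k ih => rw [pow_succ, pow_succ]; exact ih.mul h

end SIGA
open SIGA

theorem OM.zH (d : Dat ι π) (p : P7 ι) (o : OM 𝐂[ι z] ι F ψ) {y : G} (hy : y ∈ 𝐂[ι z]) :
    IsConj (ι z) y ↔ y = ι z ∨ ∃ x, QS F 6 x = 1 ∧ y = ψ (-rv x) := by
  have h2 := o.q8.two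
  constructor
  · intro c
    obtain ⟨k, hk, i, rfl⟩ := d.zH p hy c
    induction i using Fin.lastCases with
    | last => exact Or.inl (Cj.of_cent hk).eq
    | cast j =>
      obtain ⟨s, hs, a⟩ := o.act k hk
      have e1 : ga s (-1) = -1 := o.eq (a _ (neg_RG h2)).1 (neg_RG h2) (by
        rw [← (a _ (neg_RG h2)).2, o.neg]; exact (Cj.of_cent hk).eq)
      have m := (a _ (rv_RG h2 (by norm_num) (QS_ev j))).1
      rw [ga_rv hs] at m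
      obtain ⟨c, hc⟩ := H67.mem_GamO.1 hs
      obtain ⟨x, hx, e⟩ := unit_of h2 (by rw [hc, QS_ev, map_one, mul_one]; exact c.ne_zero) m
      refine Or.inr ⟨x, hx, ?_⟩
      rw [← (o.ptt j).2, (a _ (o.ptt j).1).2, e, ← ga_rv hs, ← neg_one_mul (rf j : GL (Fin 6) F), ← neg_one_mul (ga s _)]
      exact congrArg ψ ((map_mul _ _ _).trans (congrArg (· * _) e1))
  · rintro (rfl | ⟨x, hx, rfl⟩)
    · exact IsConj.refl _
    obtain ⟨g, hg, e⟩ := move h2 (x := ev 0) (y := x) (by rw [QS_ev]; exact one_ne_zero) (by rw [hx, QS_ev])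
    refine (ttz d (0 : Fin 6).castSucc).trans (isConj_iff.2 ⟨ψ g, ?_⟩)
    rw [← (o.ptt 0).2, ← cj o ((le_sup_left : OG F 6 ≤ _) hg) (o.ptt 0).1, mul_neg, neg_mul, e]

theorem OM.n56 (d : Dat ι π) (p : P7 ι) (o : OM 𝐂[ι z] ι F ψ) :
    ∃ y, El2 y ∧ PA ι y (Equiv.swap 0 1 * Equiv.swap 5 6) := by
  obtain ⟨g, hg, q⟩ := d.tr 5
  obtain ⟨ρ, hρ, r⟩ := d.pa p hg
  have e : ρ 6 = 5 := (by decide +kernel : ∀ i, tt i = tt 5 → i = 5) _ (d.sy.right (r 6) (q.congr tt6.symm (Eq.refl _)))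
  obtain ⟨ρ', -, -, r'⟩ := o.pa' (ρ' := ρ⁻¹ * (Equiv.swap 0 1 * Equiv.swap 5 6))
    (by rw [map_mul, map_inv, hρ]; decide) (by
      rw [Equiv.Perm.mul_apply, Equiv.Perm.inv_eq_iff_eq, e]; decide)
  have r2 := r.mul r'
  rw [mul_inv_cancel_left] at r2
  obtain ⟨k, j, hj, ej⟩ := Nat.exists_eq_two_pow_mul_odd (orderOf_pos (g * ψ (pm F ρ'))).ne'
  refine ⟨(g * ψ (pm F ρ')) ^ j, ⟨k, by rw [← pow_mul, mul_comm j, ← ej, pow_orderOf_eq_one]⟩, ?_⟩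
  have := pa_pow r2 j
  obtain ⟨j, rfl⟩ := hj
  rwa [pow_succ (Equiv.swap 0 1 * Equiv.swap 5 6 : Equiv.Perm (Fin 7)), pow_mul (Equiv.swap 0 1 * Equiv.swap 5 6 : Equiv.Perm (Fin 7)),
    (by decide : (Equiv.swap 0 1 * Equiv.swap 5 6 : Equiv.Perm (Fin 7)) ^ 2 = 1), one_pow, one_mul] at this

namespace SIGA

theorem dot5 (x : Fin 6 → F) : x ⬝ᵥ ev 5 = x 5 := by simp

theorem rr_S5 (h2 : (2 : F) ≠ 0) {x y : Fin 6 → F} (hx : QS F 6 x = 1) (hy : QS F 6 y = 1) (x5 : x 5 = 0) (y5 : y 5 = 0) :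
    rv x * rv y ∈ S5 F := by
  refine ⟨(rr_mem h2 (by norm_num) (by rw [hx]; exact one_ne_zero) (by rw [hy]; exact one_ne_zero)).2
    (by rw [hx, hy]; exact ⟨1, rfl⟩), mul_mem (mem_St.2 ?_) (mem_St.2 ?_)⟩
  · rw [rv_mulVec, dot5, x5]; simp
  · rw [rv_mulVec, dot5, y5]; simp

theorem one5 (d : Dat ι π) (p : P7 ι) (o : OM 𝐂[ι z] ι F ψ) {y : G} (h : PA ι y (Equiv.swap 0 1 * Equiv.swap 5 6))
    {x : Fin 6 → F} (hx : QS F 6 x = 1) (x5 : x 5 = 0) :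
    ∃ x', QS F 6 x' = 1 ∧ x' 5 = 0 ∧ y * ψ (-rv x) * y⁻¹ = ψ (-rv x') := by
  have h2 := o.q8.two
  have n1 : ∀ {x : Fin 6 → F}, QS F 6 x = 1 → QS F 6 x ≠ 0 := fun e => by rw [e]; exact one_ne_zero
  have t5 : ψ (-(rf 5 : GL (Fin 6) F)) = ι (tt 5) := (o.ptt 5).2
  have q5 : y * ι (tt 5) * y⁻¹ = ι z := ((h 5).congr rfl (by decide +kernel)).eq
  have q6 : y * ι z * y⁻¹ = ι (tt 5) := ((h 6).congr tt6 (by decide +kernel)).eq
  have m := nrv_RG h2 hx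
  have m5 := (o.ptt 5).1
  have c6 : ι z * ψ (-rv x) = ψ (-rv x) * ι z := o.le _ m _ rfl
  have c5 : ι (tt 5) * ψ (-rv x) = ψ (-rv x) * ι (tt 5) := by
    rw [← t5, ← o.mul _ m5 _ m, ← o.mul _ m _ m5, neg_mul_neg, neg_mul_neg,
      (rv_comm h2 (n1 hx) (n1 (QS_ev 5))).2 (Or.inr (by rw [dot5, x5]))]
  have hc : y * ψ (-rv x) * y⁻¹ ∈ 𝐂[ι z] := by
    rintro _ rfl
    rw [← q5]; simp only [mul_assoc, inv_mul_cancel_left]; rw [← mul_assoc (ι _), c5, mul_assoc]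
  have hz : IsConj (ι z) (y * ψ (-rv x) * y⁻¹) :=
    ((o.zH d p (o.le _ m)).2 (Or.inr ⟨x, hx, rfl⟩)).trans (isConj_iff.2 ⟨y, rfl⟩)
  rcases (o.zH d p hc).1 hz with e | ⟨x', hx', e⟩
  · exfalso
    rw [← q5, mul_left_inj, mul_right_inj, ← t5] at e
    obtain ⟨c, -, e'⟩ := rv_inj h2 (n1 hx) (n1 (QS_ev 5)) (neg_injective (o.eq m m5 e))
    simpa [x5] using congrFun e' 5
  refine ⟨x', hx', ?_, e⟩
  have m' := nrv_RG h2 hx'
  have c' : ψ (-rv x') * ι (tt 5) = ι (tt 5) * ψ (-rv x') := by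
    rw [← e, ← q6]; simp only [mul_assoc, inv_mul_cancel_left]; rw [← mul_assoc (ι _), c6, mul_assoc]
  rw [← t5, ← o.mul _ m5 _ m', ← o.mul _ m' _ m5] at c'
  have c'' := o.eq (mul_mem m' m5) (mul_mem m5 m') c'
  rw [neg_mul_neg, neg_mul_neg] at c''
  rcases (rv_comm h2 (n1 hx') (n1 (QS_ev 5))).1 c'' with e' | e'
  · exfalso
    rw [e', t5, ← q6, mul_left_inj, mul_right_inj, ← o.neg] at e
    exact rv_ne h2 (n1 hx) (neg_injective (o.eq m (neg_RG h2) e))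
  · rw [← dot5 x', e']

end SIGA

theorem OM.n5 (d : Dat ι π) (p : P7 ι) (o : OM 𝐂[ι z] ι F ψ) {y : G} (h : PA ι y (Equiv.swap 0 1 * Equiv.swap 5 6))
    {g : GL (Fin 6) F} (hg : g ∈ S5 F) : ∃ g' ∈ S5 F, y * ψ g * y⁻¹ = ψ g' := by
  have h2 := o.q8.two
  have le : ∀ {g : GL (Fin 6) F}, g ∈ S5 F → g ∈ RG F 6 := fun hg => (le_sup_left : OG F 6 ≤ _) hg.1
  suffices g ∈ S5 F ∧ ∃ g' ∈ S5 F, y * ψ g * y⁻¹ = ψ g' from this.2
  refine closure_induction (p := fun g _ => g ∈ S5 F ∧ ∃ g' ∈ S5 F, y * ψ g * y⁻¹ = ψ g') ?_ ?_ ?_ ?_ (gen5 h2 hg)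
  · rintro _ ⟨x1, x2, h1, h2', a1, a2, rfl⟩
    obtain ⟨y1, k1, b1, e1⟩ := one5 d p o h h1 a1
    obtain ⟨y2, k2, b2, e2⟩ := one5 d p o h h2' a2
    refine ⟨rr_S5 h2 h1 h2' a1 a2, _, rr_S5 h2 k1 k2 b1 b2, ?_⟩
    rw [← neg_mul_neg (rv x1), ← neg_mul_neg (rv y1), o.mul _ (nrv_RG h2 h1) _ (nrv_RG h2 h2'),
      o.mul _ (nrv_RG h2 k1) _ (nrv_RG h2 k2), ← e1, ← e2]
    group
  · exact ⟨one_mem _, 1, one_mem _, by rw [o.one]; group⟩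
  · rintro a b - - ⟨ha, a', ha', ea⟩ ⟨hb, b', hb', eb⟩
    refine ⟨mul_mem ha hb, _, mul_mem ha' hb', ?_⟩
    rw [o.mul _ (le ha) _ (le hb), o.mul _ (le ha') _ (le hb'), ← ea, ← eb]; group
  · rintro a - ⟨ha, a', ha', ea⟩
    refine ⟨inv_mem ha, _, inv_mem ha', ?_⟩
    rw [o.inv (le ha), o.inv (le ha'), ← ea]; group

end H24.T12
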