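import Cfsg.Agent.Lib.A12.Defs2
import Cfsg.Agent.Lib.A12.SIGA
/-! Package SIGMA of `blueprint/A12/README.md`. -/
set_option autoImplicit false
namespace H24.T12
open Subgroup H1.A10 H45 H69 Gold Cfsg H67 Matrix

variable {G : Type} [Group G] [Finite G] {ι : M →* G} {π : G → B} {F : Type} [Field F] [Fintype F]
  {H L : Subgroup G} {ψ : GL (Fin 6) F → G} {σ : G} {n : ℕ}
  {J : Type} [Fintype J] [DecidableEq J] {Q : QuadraticForm F (J → F)} {θ : L →* GL J F}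

namespace SIGMA

omit [Fintype F] in
theorem iso_iff {g : GL (Fin n) F} : Iso g ↔ g ∈ isometryGroup F (QS F n) :=
  ⟨fun h x _ => h x, fun h x => h x x⟩

omit [Fintype F] in
theorem conj_OG {g h : GL (Fin n) F} (hh : Iso h) (hg : g ∈ OG F n) : h * g * h⁻¹ ∈ OG F n := by
  obtain ⟨x, hx, rfl⟩ := hg
  exact ⟨_, (inferInstance : (commutator (isometryGroup F (QS F n))).Normal).conj_mem x hx ⟨h, iso_iff.1 hh⟩, rfl⟩

omit [Fintype F] in
theorem conj_S5 {g h : GL (Fin 6) F} (hh : Iso h) (h5 : h ∈ St (ev 5)) (hg : g ∈ S5 F) : h * g * h⁻¹ ∈ S5 F :=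
  ⟨conj_OG hh hg.1, (St (ev 5)).mul_mem ((St (ev 5)).mul_mem h5 hg.2) ((St (ev 5)).inv_mem h5)⟩

theorem pm_St {ρ : Equiv.Perm (Fin 6)} (h : ρ 5 = 5) : pm F ρ ∈ St (ev 5) := by
  refine mem_St.2 (funext fun j => ?_)
  obtain ⟨i, rfl⟩ := ρ.surjective j
  rw [pm_mulVec, ev, Pi.single_apply, Pi.single_apply]
  exact if_congr (by rw [← ρ.apply_eq_iff_eq, h]) rfl rfl

theorem rf_St {i : Fin 6} (h : i ≠ 5) : (rf i : GL (Fin 6) F) ∈ St (ev 5) := by
  refine mem_St.2 (funext fun j => ?_)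
  rw [rf_val, mulVec_diagonal, ev, Pi.single_apply]
  split_ifs with h1 h2
  · exact absurd (h1.symm.trans h2) h
  all_goals simp

theorem rr_S5 (h2 : (2 : F) ≠ 0) {i j : Fin 6} (hi : i ≠ 5) (hj : j ≠ 5) :
    (rf i * rf j : GL (Fin 6) F) ∈ S5 F := by
  have e : ∀ i : Fin 6, QS F 6 (ev i) = 1 := fun i => by simp [QS_dot]
  exact ⟨(rr_mem h2 (by norm_num) (by simp [e]) (by simp [e])).2 (by simp [e]), mul_mem (rf_St hi) (rf_St hj)⟩

theorem prod_rf : (rf 0 * (rf 1 * rf 2 * (rf 3 * rf 4) * rf 5) : GL (Fin 6) F) = -1 := by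
  refine Units.ext ?_
  simp only [Units.val_mul, rf_val, diagonal_mul_diagonal, Units.val_neg, Units.val_one]
  rw [← diagonal_one, diagonal_neg]
  congr 1
  funext k
  fin_cases k <;> simp

theorem comm_rf {h : GL (Fin 6) F} (hh : Iso h) (h5 : h ∈ St (ev 5))
    (e : ∀ i j : Fin 6, i ≠ 5 → j ≠ 5 → Commute h (rf i * rf j)) (i : Fin 6) : h * rf i = rf i * h := by
  have c5 : Commute h (rf 5) := by
    have := hh.conj (ev 5)
    rwa [mem_St.1 h5, mul_inv_eq_iff_eq_mul] at this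
  have c0 : Commute h (rf 0) := by
    have c := ((e 1 2 (by decide) (by decide)).mul_right (e 3 4 (by decide) (by decide))).mul_right c5
    rw [eq_mul_inv_of_mul_eq prod_rf]
    exact (Commute.one_right h).neg_right.mul_right c.inv_right
  by_cases i5 : i = 5
  · exact i5 ▸ c5
  · have := c0.mul_right (e 0 i (by decide) i5)
    rwa [← mul_assoc, rv_sq, one_mul] at this

omit [Finite G] in
theorem pa_a (u : V) : PA ι (ι (a u)) 1 := fun i =>
  Cj.of' ((by decide +kernel : ∀ u i, a u * tt i * (a u)⁻¹ = tt i) u i)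

/-- the rotation of the first five points -/
def rot (u : V) : V := v (u.n % 16 * 2 + u.n % 32 / 16 + u.n / 32 * 32)

theorem fix5 (s : Sy ι) {g : G} {u : V}
    (p : PA ι g (Equiv.swap 0 1 * Equiv.swap 1 2 * Equiv.swap 2 3 * Equiv.swap 3 4)) (h : Cj ι g (a u) (a u)) :
    a u = 1 ∨ a u = dd 5 6 ∨ a u = tt 5 ∨ a u = tt 6 := by
  have k : ∀ u, Cj ι g (a u) (a (rot u)) := fun u => by
    induction u using V.ind with
    | h0 => exact Cj.one g
    | h u i ih =>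
      refine (ih.mul (p.pdd i.castSucc 6)).congr ?_ ?_
      · revert u i
        exact fun u i _ => (by decide +kernel : ∀ u i, a u * dd (Fin.castSucc i) 6 = a (u + d i)) u i
      · exact (by decide +kernel : ∀ u i, a (rot u) *
          dd ((Equiv.swap 0 1 * Equiv.swap 1 2 * Equiv.swap 2 3 * Equiv.swap 3 4 : Equiv.Perm (Fin 7))
            (Fin.castSucc i)) ((Equiv.swap 0 1 * Equiv.swap 1 2 * Equiv.swap 2 3 * Equiv.swap 3 4 :
              Equiv.Perm (Fin 7)) 6) = a (rot (u + d i))) u i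
  exact (by decide +kernel : ∀ u, a u = a (rot u) → a u = 1 ∨ a u = dd 5 6 ∨ a u = tt 5 ∨ a u = tt 6) u
    (s.right h (k u))

theorem exists_aut (o : OM H ι F ψ) {y : G} {k : ℕ} (hy : y ^ 2 ^ k = 1)
    (h : ∀ g ∈ S5 F, ∃ g' ∈ S5 F, y * ψ g * y⁻¹ = ψ g') :
    ∃ α : MulAut (S5 F), α ^ 2 ^ k = 1 ∧ ∀ g : S5 F, y * ψ g * y⁻¹ = ψ (α g) := by
  have R : ∀ g : S5 F, (g : GL (Fin 6) F) ∈ RG F 6 := fun g => mem_sup_left g.2.1
  choose f h1 h2 using h
  let φ : S5 F →* S5 F := MonoidHom.mk' (fun g => ⟨f g g.2, h1 g g.2⟩) fun a b => Subtype.ext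
    (o.eq (R ⟨_, h1 _ _⟩) (R (⟨_, h1 a a.2⟩ * ⟨_, h1 b b.2⟩)) (by
      rw [← h2, coe_mul, coe_mul, o.mul _ (R a) _ (R b), o.mul _ (R ⟨_, h1 a a.2⟩) _ (R ⟨_, h1 b b.2⟩),
        ← h2, ← h2, conj_mul]))
  have hφ : ∀ g : S5 F, y * ψ g * y⁻¹ = ψ (φ g) := fun g => h2 g g.2
  have inj : Function.Injective φ := (injective_iff_map_eq_one φ).2 fun g e => by
    have := hφ g
    rw [e, coe_one, o.one, conj_eq_one_iff] at this
    exact Subtype.ext (o.inj _ (R g) this)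
  refine ⟨MulEquiv.ofBijective φ (Finite.injective_iff_bijective.1 inj), ?_, hφ⟩
  generalize hα : MulEquiv.ofBijective φ (Finite.injective_iff_bijective.1 inj) = α
  replace hφ : ∀ g : S5 F, y * ψ g * y⁻¹ = ψ (α g) := hα ▸ hφ
  have pw : ∀ (m : ℕ) (g : S5 F), y ^ m * ψ g * (y ^ m)⁻¹ = ψ (((α : MulAut (S5 F)) ^ m) g) := fun m => by
    induction m with
    | zero => simp
    | succ m ih =>
      intro g
      rw [pow_succ', pow_succ', MulAut.mul_apply, ← hφ, ← ih]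
      group
  refine MulEquiv.ext fun g => Subtype.ext (o.eq (R _) (R _) ?_)
  rw [← pw, hy]
  simp

end SIGMA

open SIGMA

theorem sigma (d : Dat ι π) (p : P7 ι) (o : OM 𝐂[ι z] ι F ψ) : ∃ σ, Sw ι F ψ σ := by
  have s := d.sy
  have h2 := o.q8.two
  have R : ∀ {g : GL (Fin 6) F}, g ∈ S5 F → g ∈ RG F 6 := fun hg => mem_sup_left hg.1
  obtain ⟨y, ⟨k, hk⟩, hy⟩ := o.n56 d p
  obtain ⟨α, hα, eα⟩ := exists_aut o hk fun g hg => o.n5 d p hy hg
  obtain ⟨h, hi, h5, eh⟩ := st5 o.q8 α hα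
  have act : ∀ g ∈ S5 F, y * ψ g * y⁻¹ = ψ (h * g * h⁻¹) := fun g hg => by
    rw [← eh ⟨g, hg⟩]; exact eα ⟨g, hg⟩
  set t : GL (Fin 6) F := pm F (Equiv.swap 0 1) with ht
  have t5 : t ∈ St (ev 5) := pm_St (by decide)
  have ti : Iso t := iso_pm _
  have t2 : t * t = 1 := by
    rw [ht, ← pm_mul, Equiv.swap_mul_self, ← mul_left_cancel_iff (a := pm F 1), ← pm_mul, mul_one, mul_one]
  have i' : Iso (t⁻¹ * h) := iso_iff.2 (mul_mem (inv_mem (iso_iff.1 ti)) (iso_iff.1 hi))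
  have s' : t⁻¹ * h ∈ St (ev 5) := mul_mem (inv_mem t5) h5
  obtain ⟨r', u, hu⟩ := o.diag i' (comm_rf i' s' fun i j i5 j5 => by
    have m := rr_S5 h2 i5 j5
    have e1 := act _ m
    have k : ∀ i : Fin 6, i ≠ 5 → (Equiv.swap 0 1 * Equiv.swap 5 6 : Equiv.Perm (Fin 7)) i.castSucc =
        (Equiv.swap 0 1 i).castSucc := by decide
    rw [o.pdd, (hy.pdd _ _).eq, k i i5, k j j5, ← o.pdd, ← pm_rf, ← pm_rf, conj_mul] at e1
    have e2 := o.eq (R (conj_S5 ti t5 m)) (R (conj_S5 hi h5 m)) e1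
    show t⁻¹ * h * _ = _ * (t⁻¹ * h)
    calc t⁻¹ * h * (rf i * rf j) = t⁻¹ * (h * (rf i * rf j) * h⁻¹) * h := by group
      _ = _ := by rw [← e2]; group)
  have act' : ∀ g ∈ S5 F, y * ι (a u) * ψ g * (y * ι (a u))⁻¹ = ψ (t * g * t⁻¹) := fun g hg => by
    have i'' : Iso (t⁻¹ * h)⁻¹ := iso_iff.2 (inv_mem (iso_iff.1 i'))
    have e1 := act _ (conj_S5 i'' (inv_mem s') hg)
    rw [o.mul _ (mul_mem (inv_mem r') (R hg)) _ (inv_mem (inv_mem r')), o.mul _ (inv_mem r') _ (R hg),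
      o.inv (inv_mem r'), o.inv r', hu, ← map_inv, a_inv] at e1
    calc _ = y * (ι (a u) * ψ g * (ι (a u))⁻¹) * y⁻¹ := by group
      _ = _ := by rw [e1]; congr 1; group
  have hy' : PA ι (y * ι (a u)) (Equiv.swap 0 1 * Equiv.swap 5 6) := by simpa using hy.mul (pa_a u)
  have e2 : El2 (y * ι (a u) * (y * ι (a u))) := by
    have P := isPGroup_sup_of_le_normalizer_right (IsPGroup.of_card (p := 2) (G := zpowers y) (by
      rw [Nat.card_zpowers]
      exact ((Nat.dvd_prime_pow Nat.prime_two).1 (orderOf_dvd_of_pow_eq_one hk)).choose_spec.2))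
      (s.two_map EE) (zpowers_le.2 (hy.ne s))
    have m : y * ι (a u) ∈ zpowers y ⊔ EE.map ι :=
      mul_mem (mem_sup_left (mem_zpowers y)) (mem_sup_right ⟨_, a_EE u, rfl⟩)
    obtain ⟨j, hj⟩ := P ⟨_, mul_mem m m⟩
    exact ⟨j, congrArg Subtype.val hj⟩
  generalize y * ι (a u) = y' at act' hy' e2
  obtain ⟨x, hx, ex⟩ := two_cE s (PA.cent (by
    have := hy'.mul hy'
    rwa [show (Equiv.swap 0 1 * Equiv.swap 5 6 * (Equiv.swap 0 1 * Equiv.swap 5 6) : Equiv.Perm (Fin 7)) = 1 by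
      decide] at this)) e2
  rw [eq_a hx] at ex
  have m5 : pm F (Equiv.swap 0 1 * Equiv.swap 1 2 * Equiv.swap 2 3 * Equiv.swap 3 4) ∈ S5 F :=
    ⟨pm_mem (by decide), pm_St (by decide)⟩
  have c5 := fix5 s (o.pa (ρ := Equiv.swap 0 1 * Equiv.swap 1 2 * Equiv.swap 2 3 * Equiv.swap 3 4) (by decide)
    (by decide)) (u := x.f) (by
      have e1 := act' _ (conj_S5 ti t5 m5)
      rw [← act' _ m5, show ∀ g : GL (Fin 6) F, t * (t * g * t⁻¹) * t⁻¹ = t * t * g * (t * t)⁻¹ from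
        fun g => by group, t2, one_mul, inv_one, mul_one] at e1
      rw [Cj, ex, mul_inv_eq_iff_eq_mul]
      conv_lhs => rw [← e1]
      group)
  have fx : Cj ι y' (a x.f) (a x.f) := by rw [Cj, ex]; group
  have k5 : Cj ι y' (tt 5) (tt 6) := hy' 5
  have k6 : Cj ι y' (tt 6) (tt 5) := hy' 6
  rcases c5 with c | c | c | c
  · exact ⟨y', by rw [← ex, c, map_one], hy', fun g h1 h2 => act' g ⟨h1, h2⟩⟩
  · refine ⟨y' * ι z, ?_, mul_one (Equiv.swap (0 : Fin 7) 1 * Equiv.swap 5 6) ▸ hy'.mul (pa_a (v 63)),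
      fun g h1 h2 => ?_⟩
    · calc y' * ι z * (y' * ι z) = y' * ι (tt 6) * y'⁻¹ * (y' * y') * ι z := by rw [tt6]; group
        _ = 1 := by rw [k6.eq, ← ex, c, ← map_mul, ← map_mul, show tt 5 * dd 5 6 * z = 1 by decide, map_one]
    · rw [← act' g ⟨h1, h2⟩, mul_assoc y', mem_centralizer_singleton_iff.1 (o.le g (R ⟨h1, h2⟩)) |>.symm]
      group
  · rw [c] at fx
    exact absurd (s.right fx k5) (by decide)
  · rw [c] at fx
    exact absurd (s.right fx k6) (by decide)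

end H24.T12
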