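import Cfsg.Agent.Lib.A12.Defs2
/-! Package SET of `blueprint/A12/README.md`. -/
set_option autoImplicit false
namespace H24.T12
namespace SET
open Equiv Subgroup Finset

abbrev Ω := I × Z2

def toP : B →* Perm Ω where
  toFun w := ⟨fun p => (w.s p.1, p.2 + w.f p.1), fun p => (w.s⁻¹ p.1, p.2 + w.f (w.s⁻¹ p.1)),
    fun p => by simp [add_assoc, zz], fun p => by simp [add_assoc, zz]⟩
  map_one' := Equiv.ext fun p => by simp
  map_mul' a b := Equiv.ext fun p => by simp [add_assoc]

theorem toP_apply (w : B) (p : Ω) : toP w p = (w.s p.1, p.2 + w.f p.1) := rfl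

theorem toP_inj : Function.Injective toP := fun a b h => by
  have := fun i => Prod.ext_iff.1 (congrArg (fun c : Perm Ω => c (i, 0)) h)
  simp only [toP_apply, zero_add] at this
  exact B.ext (funext fun i => (this i).2) (Equiv.ext fun i => (this i).1)

theorem exists_toP {c : Perm Ω} (h : c * toP z0 = toP z0 * c) : ∃ w, toP w = c := by
  have a : ∀ i x, c (i, x) = ((c (i, 0)).1, x + (c (i, 0)).2) := fun i x => by
    rcases z01 x with rfl | rfl
    · simp
    · simpa [toP_apply, add_comm] using congrArg (fun c : Perm Ω => c (i, 0)) h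
  have inj : Function.Injective fun i => (c (i, 0)).1 := fun i j e => by
    have : c (i, (c (i, 0)).2) = c (j, (c (j, 0)).2) := by rw [a, a j, zz, zz]; exact Prod.ext e rfl
    exact congrArg Prod.fst (c.injective this)
  exact ⟨⟨fun i => (c (i, 0)).2, Equiv.ofBijective _ inj.bijective_of_finite⟩, Equiv.ext fun p => (a p.1 p.2).symm⟩

theorem index_W : W.index = 2 := index_eq_two_iff.2 ⟨ee (dl 0), fun b => by
  rw [mem_W, mem_W, sum_mul, ee_f, sum_dl]
  rcases z01 (∑ i, b.f i) with z | z <;> simp [z, zz]⟩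

theorem conj_mul_aux {c d : Perm Ω} : Perm.sign d = Perm.sign (c * d * c⁻¹) := by
  rw [map_mul, map_mul, map_inv, mul_right_comm, mul_inv_cancel, one_mul]

theorem sign_toP {w : B} : toP w ∈ alternatingGroup Ω ↔ w ∈ W := by
  have d : toP (ee (dl 0)) = swap (0, 0) (0, 1) := by decide +kernel
  have le : W ≤ (alternatingGroup Ω).comap toP := W_ind (fun i j _ => by
      have : toP (sw i j) = prodCongrLeft fun _ => swap i j := Equiv.ext fun p => by simp [toP_apply, prodCongrLeft]
      rw [mem_comap, this, Perm.mem_alternatingGroup, Perm.sign_prodCongrLeft]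
      simp) fun j => by
    have : e 0 j = ee (dl 0) * (sw 0 j * ee (dl 0) * (sw 0 j)⁻¹) := by revert j; decide +kernel
    rw [mem_comap, this, Perm.mem_alternatingGroup, map_mul toP, map_mul toP, map_mul toP, map_inv,
      map_mul Perm.sign (toP _), ← conj_mul_aux]
    exact Int.units_mul_self _
  refine ⟨fun h => by_contra fun n => ?_, fun h => le h⟩
  have m : w * ee (dl 0) ∈ W := by
    rw [mem_W, sum_mul, ee_f, sum_dl, (z01 _).resolve_left n]; rfl
  have := mul_mem (inv_mem h) (le m)
  rw [map_mul, inv_mul_cancel_left, d, Perm.mem_alternatingGroup, Perm.sign_swap (by decide)] at this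
  exact absurd this (by decide)

def e12 : Ω ≃ Fin 12 := finProdFinEquiv

/-- the Weyl group inside the alternating group -/
def kap : W →* alternatingGroup (Fin 12) :=
  (e12.altCongrHom : _ →* _).comp ((toP.comp W.subtype).codRestrict _ fun w => sign_toP.2 w.2)

theorem kap_val (w : W) : (kap w).1 = e12.permCongr (toP w) := rfl

theorem kap_inj : Function.Injective kap := fun _ _ h =>
  Subtype.ext (toP_inj (e12.permCongr.injective (congrArg Subtype.val h)))

theorem pc_mul (a b : Perm Ω) : e12.permCongr (a * b) = e12.permCongr a * e12.permCongr b :=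
  Equiv.ext fun _ => by simp

theorem pc_z0 : e12.permCongr (toP z0) = swap (0 : Fin 12) 1 * swap (2 : Fin 12) 3 * swap (4 : Fin 12) 5 *
    swap (6 : Fin 12) 7 * swap (8 : Fin 12) 9 * swap (10 : Fin 12) 11 := by decide +kernel

end SET

open Subgroup H1.A10 H45 H69 Gold Cfsg

variable {G : Type} [Group G] [Finite G] {ι : M →* G} {π : G → B} {g k : G}

theorem card_W : Nat.card W = 2 ^ 9 * 45 := by
  have := W.card_mul_index
  rw [SET.index_W, Nat.card_congr eqB, Nat.card_prod, Nat.card_fun, Nat.card_perm] at this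
  simp only [Nat.card_eq_fintype_card, ZMod.card, Fintype.card_fin] at this ⊢
  norm_num [Nat.factorial] at this; omega

theorem W_iso : Nonempty (W ≃* (alternatingGroup (Fin 12) ⊓ Subgroup.centralizer ({(Equiv.swap (0 : Fin 12) 1 * Equiv.swap (2 : Fin 12) 3 * Equiv.swap (4 : Fin 12) 5 * Equiv.swap (6 : Fin 12) 7 * Equiv.swap (8 : Fin 12) 9 * Equiv.swap (10 : Fin 12) 11)} : Set (Equiv.Perm (Fin 12))) : Subgroup (Equiv.Perm (Fin 12)))) := by
  rw [← SET.pc_z0]
  have m : ∀ x : W, ((alternatingGroup (Fin 12)).subtype.comp SET.kap) x ∈ (alternatingGroup (Fin 12) ⊓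
      centralizer {SET.e12.permCongr (SET.toP z0)} : Subgroup (Equiv.Perm (Fin 12))) := fun x => by
    refine mem_inf.2 ⟨(SET.kap x).2, mem_centralizer_singleton_iff.2 ?_⟩
    change SET.e12.permCongr (SET.toP x) * _ = _ * SET.e12.permCongr (SET.toP x)
    rw [← SET.pc_mul, ← SET.pc_mul, ← map_mul, ← map_mul, z0_comm]
  refine ⟨MulEquiv.ofBijective (((alternatingGroup (Fin 12)).subtype.comp SET.kap).codRestrict _ m)
    ⟨fun x y h => SET.kap_inj (Subtype.ext (congrArg Subtype.val h :)), fun c => ?_⟩⟩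
  · obtain ⟨c, h1, h2⟩ := c
    obtain ⟨c, rfl⟩ := SET.e12.permCongr.surjective c
    have h3 := mem_centralizer_singleton_iff.1 h2
    rw [← SET.pc_mul, ← SET.pc_mul] at h3
    obtain ⟨x, rfl⟩ := SET.exists_toP (SET.e12.permCongr.injective h3)
    have h4 : x ∈ W := SET.sign_toP.1 (by
      have := Equiv.Perm.mem_alternatingGroup.1 h1
      rwa [Equiv.Perm.sign_permCongr] at this)
    exact ⟨⟨x, h4⟩, rfl⟩

theorem exists_sy (S : Sylow 2 G) (hS : ∃ P : Sylow 2 ↥(alternatingGroup (Fin 12)),
    Nonempty (↥(S : Subgroup G) ≃* ↥(P : Subgroup ↥(alternatingGroup (Fin 12))))) : ∃ ι : M →* G, Sy ι := by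
  obtain ⟨Q, ⟨φ⟩⟩ := hS
  let κ0 : M →* alternatingGroup (Fin 12) := SET.kap.comp (w.codRestrict W w_W)
  have i0 : Function.Injective κ0 := fun a b e => w_inj (congrArg Subtype.val (SET.kap_inj e))
  have pM : IsPGroup 2 M := IsPGroup.of_card card_M
  obtain ⟨Q', hQ'⟩ := (pM.of_surjective κ0.rangeRestrict κ0.rangeRestrict_surjective).exists_le_sylow
  let ψ := Sylow.equiv Q' Q
  let ι : M →* S := φ.symm.toMonoidHom.comp (ψ.toMonoidHom.comp (κ0.codRestrict _ fun x => hQ' ⟨x, rfl⟩))
  have inj : Function.Injective ι := fun a b e => i0 (congrArg Subtype.val (ψ.injective (φ.symm.injective e)))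
  have inj' : Function.Injective ((S : Subgroup G).subtype.comp ι) := Subtype.val_injective.comp inj
  refine ⟨(S : Subgroup G).subtype.comp ι, inj', ?_⟩
  have e : ((S : Subgroup G).subtype.comp ι).range = S := by
    refine eq_of_le_of_card_ge (by rintro _ ⟨a, rfl⟩; exact Subtype.prop _) ?_
    rw [← Nat.card_congr (MonoidHom.ofInjective inj').toEquiv, card_M, Nat.card_congr φ.toEquiv]
    obtain ⟨n, c⟩ := Q.isPGroup'.exists_card_eq
    rw [c]
    refine Nat.pow_le_pow_right (by decide) (not_lt.1 fun l => ?_)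
    have := (pow_dvd_pow 2 l).trans (c.symm.dvd.trans (card_subgroup_dvd_card _))
    rw [nat_card_alternatingGroup, Nat.card_eq_fintype_card, Fintype.card_fin] at this
    exact absurd this (by decide)
  rw [e]
  exact isSylowIn_top S

end H24.T12
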