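import Cfsg.Agent.Lib.A12.Defs2
import Cfsg.Agent.Lib.A12.AUT6
/-! Lifting the identification of the central quotient to a homomorphism onto the orthogonal group. -/
set_option autoImplicit false
namespace H24.T12
open Subgroup H1.A10 H45 H69 Gold Cfsg H67 Matrix
open scoped commutatorElement

namespace FRA

theorem comm_eq {A : Type*} [Group A] {a b a' b' : A} (ha : a⁻¹ * a' ∈ center A) (hb : b⁻¹ * b' ∈ center A) :
    ⁅a', b'⁆ = ⁅a, b⁆ := by
  have e1 : ∀ x, a' * x * a'⁻¹ = a * x * a⁻¹ := fun x => by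
    calc a' * x * a'⁻¹ = a * (a⁻¹ * a' * x) * a'⁻¹ := by group
      _ = _ := by rw [← mem_center_iff.1 ha x]; group
  have e2 : b' * a⁻¹ * b'⁻¹ = b * a⁻¹ * b⁻¹ := by
    calc b' * a⁻¹ * b'⁻¹ = b * (b⁻¹ * b' * a⁻¹) * b'⁻¹ := by group
      _ = _ := by rw [← mem_center_iff.1 hb a⁻¹]; group
  rw [commutatorElement_def, commutatorElement_def, e1, mul_assoc, mul_assoc, ← mul_assoc b', e2]
  group

theorem hom_eq {A S : Type*} [Group A] [Group S] (hA : commutator A = ⊤) {f g : A →* S}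
    (h : ∀ a, (f a)⁻¹ * g a ∈ center S) (a : A) : f a = g a := by
  have : commutator A ≤ f.eqLocus g := commutator_le.2 fun a _ b _ => by
    show f _ = g _
    rw [map_commutatorElement, map_commutatorElement, comm_eq (h a) (h b)]
  exact this (hA ▸ mem_top a)

theorem top_of_self {A : Type*} [Group A] {Γ : Subgroup A} (h : ⁅Γ, Γ⁆ = Γ) : commutator Γ = ⊤ := by
  apply Subgroup.map_injective Γ.subtype_injective
  rw [Subgroup.map_subtype_commutator, h, ← MonoidHom.range_eq_map, range_subtype]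

theorem sur_comm {A S : Type*} [Group A] [Group S] (hS : commutator S = ⊤) {P : Subgroup A} (f : A →* S)
    (h : ∀ s, ∃ a ∈ P, f a = s) (s : S) : ∃ a ∈ ⁅P, P⁆, f a = s := by
  have e : P.map f = ⊤ := eq_top_iff.2 fun s _ => h s
  have : s ∈ ⁅P, P⁆.map f := by rw [map_commutator, e, ← commutator_def, hS]; exact mem_top s
  exact this

theorem lift {A S K : Type} [Group A] [Group S] [Group K] [Finite A] [Finite S] (m2 : Mul2 K)
    (hA : commutator A = ⊤) (hS : commutator S = ⊤) {κ : A →* K} {μ : S →* K} (h1 : Function.Surjective κ)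
    (h2 : Function.Surjective μ) {ζ : A} (z1 : ζ ≠ 1) (z2 : κ ζ = 1)
    (k1 : ∀ a, κ a = 1 → a ∈ center A ∧ a * a = 1) (k2 : ∀ s, μ s = 1 → s ∈ center S ∧ s * s = 1) :
    ∃ θ : A →* S, Function.Surjective θ ∧ ∀ a, μ (θ a) = κ a := by
  set P : Subgroup (A × S) := (κ.comp (MonoidHom.fst A S)).eqLocus (μ.comp (MonoidHom.snd A S))
  have mP : ∀ x : A × S, x ∈ P ↔ κ x.1 = μ x.2 := fun _ => Iff.rfl
  have s1 := sur_comm hA (P := P) (MonoidHom.fst A S) fun a =>
    (h2 (κ a)).elim fun s e => ⟨(a, s), (mP _).2 e.symm, rfl⟩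
  have s2 := sur_comm hS (P := P) (MonoidHom.snd A S) fun s =>
    (h1 (μ s)).elim fun a e => ⟨(a, s), (mP _).2 e, rfl⟩
  have le : ⁅P, P⁆ ≤ P := commutator_le_self P
  have kk : ∀ x ∈ P, κ x.1 = 1 → x ∈ center (A × S) ∧ x * x = 1 := fun x hx e => by
    have e' := k2 _ (((mP x).1 hx).symm.trans e)
    exact ⟨mem_center_iff.2 fun y => Prod.ext (mem_center_iff.1 (k1 _ e).1 _) (mem_center_iff.1 e'.1 _),
      Prod.ext (k1 _ e).2 e'.2⟩
  have pf : ⁅⁅P, P⁆, ⁅P, P⁆⁆ = ⁅P, P⁆ := le_antisymm (commutator_le_self _) (commutator_le.2 fun a ha b hb => by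
    have c : ∀ a ∈ P, ∃ a' ∈ ⁅P, P⁆, a'⁻¹ * a ∈ center (A × S) := fun a ha => by
      obtain ⟨a', h', e⟩ := s1 a.1
      refine ⟨a', h', (kk _ (mul_mem (inv_mem (le h')) ha) ?_).1⟩
      rw [Prod.fst_mul, Prod.fst_inv, show a'.1 = a.1 from e, inv_mul_cancel, map_one]
    obtain ⟨a', ha', ea⟩ := c a ha
    obtain ⟨b', hb', eb⟩ := c b hb
    rw [comm_eq ea eb]
    exact commutator_mem_commutator ha' hb')
  set p1 : (⁅P, P⁆ : Subgroup (A × S)) →* A := (MonoidHom.fst A S).comp (Subgroup.subtype _)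
  have t1 : Function.Surjective p1 := fun a => (s1 a).elim fun x e => ⟨⟨x, e.1⟩, e.2⟩
  have st : IsStemExtension (κ.comp p1) := ⟨h1.comp t1, fun x hx => mem_center_iff.2 fun y =>
    Subtype.ext (mem_center_iff.1 (kk _ (le x.2) hx).1 _), by rw [top_of_self pf]; exact le_top⟩
  have i1 : Function.Injective p1 := (injective_iff_map_eq_one _).2 fun x hx => by
    by_contra hne
    obtain ⟨g, hg⟩ := t1 ζ
    have a1 : (κ.comp p1) x = 1 := by rw [MonoidHom.comp_apply, hx, map_one]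
    have a2 : (κ.comp p1) g = 1 := by rw [MonoidHom.comp_apply, hg, z2]
    have := m2 _ _ st x g a1 a2 (Subtype.ext (kk _ (le x.2) a1).2) (Subtype.ext (kk _ (le g.2) a2).2) hne
      fun e => z1 (by rw [← hg, e, map_one])
    exact z1 (by rw [← hg, ← this, hx])
  set e := MulEquiv.ofBijective p1 ⟨i1, t1⟩
  refine ⟨((MonoidHom.snd A S).comp (Subgroup.subtype _)).comp e.symm.toMonoidHom, fun s => ?_, fun a => ?_⟩
  · obtain ⟨x, hx, e1⟩ := s2 s
    exact ⟨e ⟨x, hx⟩, by simpa using e1⟩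
  · obtain ⟨x, rfl⟩ := e.surjective a
    show μ (e.symm (e x)).1.2 = κ x.1.1
    rw [e.symm_apply_apply]
    exact ((mP _).1 (le x.2)).symm

theorem exists_aut {A K : Type*} [Group A] [Group K] [Finite K] {κ : A →* K} (h : Function.Surjective κ)
    (c : MulAut A) (hc : ∀ a, κ a = 1 → κ (c a) = 1) : ∃ β : MulAut K, ∀ a, β (κ a) = κ (c a) := by
  set β := κ.liftOfSurjective h ⟨κ.comp c.toMonoidHom, fun a ha => hc a ha⟩
  have e : ∀ a, β (κ a) = κ (c a) := fun a => κ.liftOfRightInverse_comp_apply _ _ _ a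
  have s : Function.Surjective β := fun k => by
    obtain ⟨a, rfl⟩ := h k
    exact ⟨κ (c.symm a), by rw [e, MulEquiv.apply_symm_apply]⟩
  exact ⟨MulEquiv.ofBijective β ⟨Finite.injective_iff_surjective.2 s, s⟩, e⟩

variable {F : Type} [Field F] [Fintype F] {J : Type} [Fintype J] [DecidableEq J] {Q : QuadraticForm F (J → F)}

theorem cen_om (hJ : Fintype.card J = 6) (hQ : H12.Nondeg Q) {s : Omega F Q} (hs : s ∈ center (Omega F Q)) :
    omJ Q s = 1 ∨ omJ Q s = -1 := by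
  have h1 : omJ Q s ∈ center (GL J F) := by
    refine (pomInn_eq_one_iff ⟨Q, rfl, hQ⟩ (by omega) le_rfl (g := ⟨_, omega_le_GO Q (omJ_mem s)⟩)).1 ?_
    refine (indAut_conj omJ_inj s).trans ?_
    rw [(QuotientGroup.eq_one_iff s).2 hs, map_one]
  obtain ⟨c, hc⟩ := GeneralLinearGroup.mem_center_iff_val_mem_range_scalar.1 h1
  obtain ⟨j⟩ : Nonempty J := Fintype.card_pos_iff.1 (by omega)
  obtain ⟨v, hv⟩ := hQ.exists_Q_ne (v := Pi.single j 1) (by simp)
  have h2 := H12.mem_isometryGroup.1 (omega_le_iso Q (omJ_mem s)) v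
  rw [← hc, scalar_apply, ← smul_one_eq_diagonal, smul_mulVec, one_mulVec, QuadraticMap.map_smul, smul_eq_mul,
    mul_eq_right₀ hv, mul_self_eq_one_iff] at h2
  exact h2.imp (fun e => Units.ext (by rw [← hc, e, map_one]; rfl))
    fun e => Units.ext (by rw [← hc, e, map_neg, map_one]; rfl)

theorem perf_om (hJ : Fintype.card J = 6) (hQ : H12.Nondeg Q) : commutator (Omega F Q) = ⊤ :=
  eq_top_iff.2 fun s _ => (H12.mem_commutator_congr (H12.commCongr (H12.isoEquiv Q fun _ => rfl)) s).1 (by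
    rw [H12.commutator_Om_eq_top hQ (by simp; omega)]; exact mem_top _)

end FRA

variable {G : Type} [Group G] [Finite G] {ι : M →* G} {π : G → B} {F : Type} [Field F] [Fintype F]
  {H L : Subgroup G} {ψ : GL (Fin 6) F → G} {σ : G} {n : ℕ}
  {J : Type} [Fintype J] [DecidableEq J] {Q : QuadraticForm F (J → F)} {θ : L →* GL J F}

open FRA in
theorem fra (l : KD ι π L) (q : Q8 F) (hJ : Fintype.card J = 6) (hQ : H12.Nondeg Q) {κ : L →* POmega F Q}
    (k : KQ ι L κ) (m2 : Mul2 (POmega F Q)) : ∃ θ : L →* GL J F, Th ι L Q θ := by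
  have := l.nrm
  have hL := top_of_self l.perf
  have zL : ι z ∈ L := (l.memL z).2 (by
    show (w z).s ∈ alternatingGroup I
    rw [w_z]; exact one_mem _)
  have zz : ι z * ι z = 1 := by rw [← map_mul, show z * z = 1 by decide, map_one]
  have zc : ∀ y ∈ zpowers (ι z), ∀ x, x * y = y * x := fun y hy x => by
    obtain ⟨i, rfl⟩ := hy
    exact (show Commute x (ι z) from l.cz x).zpow_right i
  obtain ⟨θ, hs, hθ⟩ := lift m2 hL (perf_om hJ hQ) k.sur (QuotientGroup.mk'_surjective _) (ζ := ⟨_, zL⟩)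
    (fun e => (by decide : z ≠ 1) (l.sy.inj ((congrArg Subtype.val e).trans (map_one ι).symm)))
    ((k.ker _).2 (mem_zpowers _))
    (fun a ha => ⟨mem_center_iff.2 fun x => Subtype.ext (zc _ ((k.ker a).1 ha) x), Subtype.ext (by
      obtain ⟨i, e⟩ := (k.ker a).1 ha
      show (a : G) * a = 1
      rw [← e, ← (Commute.refl _).mul_zpow, zz, _root_.one_zpow])⟩)
    fun s hs => ⟨(QuotientGroup.eq_one_iff s).1 hs, omJ_inj (by
      rcases cen_om hJ hQ ((QuotientGroup.eq_one_iff s).1 hs) with e | e <;> simp [e])⟩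
  refine ⟨(omJ Q).comp θ, hJ, hQ, ?_, fun a ha => (k.ker a).1 ?_, fun a ha => cen_om hJ hQ ?_, fun y => ?_⟩
  · rw [MonoidHom.range_comp, MonoidHom.range_eq_top.2 hs, ← MonoidHom.range_eq_map, range_omJ]
  · rw [← hθ, show θ a = 1 from omJ_inj (ha.trans (map_one _).symm), map_one]
  · exact (QuotientGroup.eq_one_iff _).1 ((hθ a).trans ((k.ker a).2 (ha ▸ mem_zpowers _)))
  obtain ⟨β, hβ⟩ := exists_aut k.sur (MulAut.conjNormal y) fun a ha => (k.ker _).2 (by
    rw [MulAut.conjNormal_apply, zc _ ((k.ker a).1 ha), mul_inv_cancel_right]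
    exact (k.ker a).1 ha)
  obtain ⟨s, rfl⟩ := aut6 q hJ hQ β
  refine ⟨s.1, s.2, fun a a' e => ?_⟩
  have := hom_eq hL (f := θ.comp (MulAut.conjNormal y).toMonoidHom)
    (g := (resAut omJ_inj ⟨_, gam_mem_stab s.2⟩).toMonoidHom.comp θ) (fun a => by
      refine QuotientGroup.eq.1 ((hθ _).trans ((hβ a).symm.trans ?_))
      rw [← hθ]
      exact indAut_mk omJ_inj _ (j_resAut omJ_inj _ _)) a
  rw [show a' = MulAut.conjNormal y a from Subtype.ext e]
  exact (congrArg (omJ Q) this).trans (j_resAut omJ_inj _ _)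

end H24.T12
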