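import Cfsg.Agent.Lib.A12.Defs2
import Cfsg.Agent.Lib.A12.FW
import Cfsg.Agent.Lib.A12.OB
/-! Package FRB of `blueprint/A12/README.md`. -/
set_option autoImplicit false
namespace H24.T12
open Subgroup H1.A10 H45 H69 Gold Cfsg H67 Matrix

namespace FRB

variable {F : Type} [Field F] {J : Type} [Fintype J] [DecidableEq J] {Q : QuadraticForm F (J → F)}

/-- the sign -/
def sn (F : Type) [Field F] (ε : Z2) : F := if ε = 0 then 1 else -1

theorem sn_add (x y : Z2) : sn F (x + y) = sn F x * sn F y := by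
  rcases z01 x with rfl | rfl <;> rcases z01 y with rfl | rfl <;> simp [sn, zz]

theorem sn_inj (h2 : (2 : F) ≠ 0) {x y : Z2} (h : sn F x = sn F y) : x = y := by
  rcases z01 x with rfl | rfl <;> rcases z01 y with rfl | rfl
  · rfl
  · exact absurd (by simp only [sn, if_true, one_ne_zero, if_false] at h; linear_combination h) h2
  · exact absurd (by simp only [sn, if_true, one_ne_zero, if_false] at h; linear_combination -h) h2
  · rfl

theorem indep {A K : Type} (T : K → Matrix J J F) (v : A → J → F) (μ : K → A → F) (h0 : ∀ a, v a ≠ 0)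
    (h : ∀ k a, T k *ᵥ v a = μ k a • v a) (d : ∀ a a', a ≠ a' → ∃ k, μ k a ≠ μ k a') :
    LinearIndependent F v := by
  classical
  rw [linearIndependent_iff']
  intro t
  induction t using Finset.strongInduction with
  | H t ih =>
    intro c hc a ha
    by_cases h1 : ∃ a' ∈ t, a ≠ a'
    · obtain ⟨a', ha', ne⟩ := h1
      obtain ⟨k, hk⟩ := d a a' ne
      have e1 : ∑ x ∈ t, (c x * (μ k x - μ k a')) • v x = 0 := by
        have e2 := congrArg (T k *ᵥ ·) hc
        simp only [mulVec_sum, mulVec_smul, h, mulVec_zero] at e2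
        simp only [mul_sub, sub_smul, Finset.sum_sub_distrib, mul_smul, e2]
        simp only [smul_comm (c _) (μ k a'), ← Finset.smul_sum, hc, smul_zero, sub_zero]
      rw [← Finset.sum_erase t (a := a') (by simp)] at e1
      have := ih _ (Finset.erase_ssubset ha') _ e1 a (Finset.mem_erase.2 ⟨ne, ha⟩)
      exact (mul_eq_zero.1 this).resolve_right (sub_ne_zero.2 hk)
    · push Not at h1
      rw [Finset.sum_eq_single_of_mem a ha fun b hb ne => absurd (h1 b hb).symm ne] at hc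
      exact (smul_eq_zero.1 hc).resolve_right (h0 a)

/-- the linear data -/
structure Dt (Q : QuadraticForm F (J → F)) (E : I → I → Matrix J J F) : Prop where
  two : (2 : F) ≠ 0
  card : Fintype.card J = 6
  mul : ∀ i j k, E i j * E j k = E i k
  self : ∀ i, E i i = 1
  symm : ∀ i j, E i j = E j i
  comm : ∀ i j, E 0 i * E 0 j = E 0 j * E 0 i
  act : ∀ σ : Equiv.Perm I, Equiv.Perm.sign σ = 1 → ∃ S : GL J F, (∀ x, Q (S.val *ᵥ x) = Q x) ∧
    ∀ i j, S.val * E i j = E (σ i) (σ j) * S.val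

/-- a common eigenvector -/
def Ev (E : I → I → Matrix J J F) (s : I → Z2) (v : J → F) : Prop :=
  v ≠ 0 ∧ ∀ i j, E i j *ᵥ v = sn F (s i + s j) • v

/-- a common eigenvector of given norm -/
def R (Q : QuadraticForm F (J → F)) (E : I → I → Matrix J J F) (c : F) (s : I → Z2) : Prop :=
  ∃ v, Q v = c ∧ Ev E s v

variable {E : I → I → Matrix J J F} (D : Dt Q E)
include D

theorem exists_ev {v : J → F} (h : v ≠ 0) :
    ∃ s u, Ev E s u ∧ ∀ j (c : F), E 0 j *ᵥ v = c • v → E 0 j *ᵥ u = c • u := by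
  have key : ∀ t : Finset I, ∃ u, u ≠ 0 ∧ (∀ j ∈ t, ∃ ε, E 0 j *ᵥ u = sn F ε • u) ∧
      ∀ j (c : F), E 0 j *ᵥ v = c • v → E 0 j *ᵥ u = c • u := fun t => by
    induction t using Finset.induction_on with
    | empty => exact ⟨v, h, by simp, fun _ _ h => h⟩
    | insert k t _ ih =>
      obtain ⟨u, u0, h1, h2⟩ := ih
      by_cases e : u - E 0 k *ᵥ u = 0
      · refine ⟨u, u0, fun j hj => ?_, h2⟩
        rcases Finset.mem_insert.1 hj with rfl | hj
        · exact ⟨0, by rw [← sub_eq_zero.1 e]; simp [sn]⟩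
        · exact h1 j hj
      · have p : ∀ j (c : F), E 0 j *ᵥ u = c • u → E 0 j *ᵥ (u - E 0 k *ᵥ u) = c • (u - E 0 k *ᵥ u) :=
          fun j c hc => by
            rw [mulVec_sub, mulVec_mulVec, D.comm, ← mulVec_mulVec, hc, mulVec_smul, smul_sub]
        refine ⟨_, e, fun j hj => ?_, fun j c hc => p j c (h2 j c hc)⟩
        rcases Finset.mem_insert.1 hj with rfl | hj
        · refine ⟨1, ?_⟩
          rw [mulVec_sub, mulVec_mulVec]
          nth_rewrite 3 [D.symm 0 j]
          rw [D.mul, D.self, one_mulVec]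
          simp [sn]
        · exact (h1 j hj).imp fun ε => p j _
  obtain ⟨u, u0, h1, h2⟩ := key Finset.univ
  choose s hs using fun j => h1 j (Finset.mem_univ j)
  refine ⟨s, u, ⟨u0, fun i j => ?_⟩, h2⟩
  rw [← D.mul i 0 j, ← mulVec_mulVec, hs, mulVec_smul, D.symm i 0, hs, smul_smul, sn_add, mul_comm]

theorem R_even {c : F} {s : I → Z2} (h : R Q E c s) {σ : Equiv.Perm I} (hσ : Equiv.Perm.sign σ = 1) :
    R Q E c (s ∘ σ) := by
  obtain ⟨v, hv, v0, e⟩ := h
  obtain ⟨S, h1, h2⟩ := D.act σ⁻¹ (by simpa using hσ)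
  refine ⟨S.val *ᵥ v, (h1 v).trans hv, fun k => v0 ?_, fun i j => ?_⟩
  · rw [← one_mulVec v, ← S.inv_mul, ← mulVec_mulVec, k, mulVec_zero]
  · have := h2 (σ i) (σ j)
    simp only [Equiv.Perm.coe_inv, Equiv.symm_apply_apply] at this
    rw [mulVec_mulVec, ← this, ← mulVec_mulVec, e, mulVec_smul]
    rfl

theorem R_swap {c : F} {s : I → Z2} (h : R Q E c s) (i j : I) : R Q E c (s ∘ Equiv.swap i j) := by
  by_cases ne : i = j
  · simpa [ne] using h
  obtain ⟨k, l, kl, e⟩ : ∃ k l : I, k ≠ l ∧ s k = s l := Fintype.exists_ne_map_eq_of_card_lt s (by simp)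
  have := R_even D h (σ := Equiv.swap k l * Equiv.swap i j) (by simp [Equiv.Perm.sign_swap, ne, kl])
  convert this using 1
  funext x
  exact (Equiv.apply_swap_eq_self e _).symm

theorem lin {A : Type} {s : A → I → Z2} {v : A → J → F} (h : ∀ a, Ev E (s a) (v a))
    (d : ∀ a a', a ≠ a' → ∃ i j, s a i + s a j ≠ s a' i + s a' j) : LinearIndependent F v :=
  indep (fun k : I × I => E k.1 k.2) v (fun k a => sn F (s a k.1 + s a k.2)) (fun a => (h a).1)
    (fun k a => (h a).2 _ _) fun a a' ne =>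
      let ⟨i, j, e⟩ := d a a' ne; ⟨(i, j), fun k => e (sn_inj D.two k)⟩

theorem not7 {c : F} {s : Fin 7 → I → Z2} (h : ∀ a, R Q E c (s a))
    (d : ∀ a a', a ≠ a' → ∃ i j, s a i + s a j ≠ s a' i + s a' j) : False := by
  choose v _ hv using h
  have := (lin D hv d).fintype_card_le_finrank
  simp [D.card] at this

omit D in
/-- the initial segments -/
def sg (n : ℕ) : I → Z2 := fun x => if x.val < n then 1 else 0

omit D in
theorem norm_form : ∀ a b c d e f : Z2, (∀ x : I, ![a, b, c, d, e, f] x = a) ∨ ∃ i j k : I, ∃ ε : Z2, ∃ n : Fin 3,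
    ∀ x : I, ε + ![a, b, c, d, e, f] (Equiv.swap 2 k (Equiv.swap 1 j (Equiv.swap 0 i x))) = sg (n.val + 1) x := by
  decide +kernel

theorem dich {c : F} {s : I → Z2} (h : R Q E c s) : (∀ x, s x = s 0) ∨ R Q E c (sg 1) := by
  have e : ![s 0, s 1, s 2, s 3, s 4, s 5] = s := by funext x; fin_cases x <;> rfl
  have := norm_form (s 0) (s 1) (s 2) (s 3) (s 4) (s 5)
  rw [e] at this
  refine this.imp id fun ⟨i, j, k, ε, n, hn⟩ => ?_
  have h1 : R Q E c (sg (n.val + 1)) := by
    obtain ⟨v, hv, v0, ev⟩ := R_swap D (R_swap D (R_swap D h 2 k) 1 j) 0 i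
    refine ⟨v, hv, v0, fun x y => ?_⟩
    rw [ev, ← hn, ← hn, add_add_add_comm, zz, zero_add]
    rfl
  fin_cases n
  · exact h1
  · exact (not7 D (s := fun a => (sg 2 ∘ Equiv.swap 0 (![0, 0, 0, 0, 0, 2, 2] a)) ∘
      Equiv.swap 1 (![1, 2, 3, 4, 5, 1, 3] a)) (fun a => R_swap D (R_swap D h1 _ _) _ _) (by decide +kernel)).elim
  · exact (not7 D (s := fun a => (sg 3 ∘ Equiv.swap 1 (![1, 1, 1, 1, 3, 3, 4] a)) ∘
      Equiv.swap 2 (![2, 3, 4, 5, 2, 4, 2] a)) (fun a => R_swap D (R_swap D h1 _ _) _ _) (by decide +kernel)).elim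

theorem zv {s : I → Z2} {v : J → F} (h : Ev E s v) :
    (E 0 1 * E 2 3 * E 4 5) *ᵥ v = sn F (s 4 + s 5 + (s 2 + s 3) + (s 0 + s 1)) • v := by
  simp only [← mulVec_mulVec, h.2, mulVec_smul, smul_smul, sn_add, mul_assoc]

omit D in
theorem smul_cancel {v : J → F} (h : v ≠ 0) {a b : F} (e : a • v = b • v) : a = b :=
  smul_left_injective F h e

theorem triv (h : E 0 1 * E 2 3 * E 4 5 = 1) : E 0 1 = 1 := by
  by_contra n
  obtain ⟨x, hx⟩ : ∃ x, x - E 0 1 *ᵥ x ≠ 0 := by
    by_contra k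
    push Not at k
    exact n (Matrix.ext_of_mulVec_single fun i => by rw [one_mulVec, ← sub_eq_zero.1 (k _)])
  obtain ⟨s, u, hu, e⟩ := exists_ev D hx
  have e1 := e 1 (sn F 1) (by
    rw [mulVec_sub, mulVec_mulVec]
    nth_rewrite 3 [D.symm 0 1]
    rw [D.mul, D.self, one_mulVec]
    simp [sn])
  rcases dich D ⟨u, rfl, hu⟩ with k | ⟨v, -, hv⟩
  · rw [hu.2, k 1, zz] at e1
    exact absurd (sn_inj D.two (smul_cancel hu.1 e1)) (by decide)
  · have := zv D hv
    rw [h, one_mulVec] at this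
    exact absurd (sn_inj D.two (x := 0) (smul_cancel hv.1 (by rw [← this]; simp [sn]))) (by decide)

theorem frame (h : E 0 1 * E 2 3 * E 4 5 = -1) (nd : H12.Nondeg Q) (iso : ∀ i j x, Q (E i j *ᵥ x) = Q x) :
    ∃ v, Ob Q v ∧ ∀ i, Ev E (dl i) (v i) := by
  have : Nonempty J := Fintype.card_pos_iff.1 (by rw [D.card]; decide)
  obtain ⟨s, u, hu, -⟩ := exists_ev D (v := fun _ => 1) one_ne_zero
  rcases dich D ⟨u, rfl, hu⟩ with k | h1
  · have := zv D hu
    rw [h, neg_mulVec, one_mulVec, k 1, k 2, k 3, k 4, k 5] at this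
    simp only [zz, add_zero] at this
    exact absurd (sn_inj D.two (y := 1) (smul_cancel hu.1 (by rw [← this]; simp [sn]))) (by decide)
  have e : ∀ i : I, sg 1 ∘ Equiv.swap 0 i = dl i := by decide +kernel
  choose v hv ev using fun i => e i ▸ R_swap D h1 0 i
  have ort : ∀ i j, i ≠ j → QuadraticMap.polar Q (v i) (v j) = 0 := fun i j ne => by
    obtain ⟨k, e1, e2⟩ := (by decide +kernel : ∀ i j : I, i ≠ j → ∃ k, dl i i + dl i k = 1 ∧ dl j i + dl j k = 0) i j ne
    have h2 : QuadraticMap.polar Q (E i k *ᵥ v i) (E i k *ᵥ v j) = QuadraticMap.polar Q (v i) (v j) := by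
      simp only [QuadraticMap.polar, ← mulVec_add, iso]
    rw [(ev i).2, (ev j).2, e1, e2, QuadraticMap.polar_smul_left, QuadraticMap.polar_smul_right] at h2
    simp only [sn, one_ne_zero, if_true, if_false, smul_eq_mul] at h2
    exact (mul_eq_zero.1 (by linear_combination -h2 : 2 * QuadraticMap.polar Q (v i) (v j) = 0)).resolve_left D.two
  refine ⟨v, ⟨⟨Q u, fun h0 => (ev 0).1 (nd _ fun x => ?_), hv⟩, ort⟩, ev⟩
  have sp := (lin D ev (by decide +kernel)).span_eq_top_of_card_eq_finrank (by simp [D.card])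
  have : Submodule.span F (Set.range v) ≤ LinearMap.ker (QuadraticMap.polarBilin Q (v 0)) := by
    rw [Submodule.span_le]
    rintro _ ⟨i, rfl⟩
    rcases eq_or_ne 0 i with rfl | ne
    · show QuadraticMap.polar Q (v 0) (v 0) = 0
      rw [QuadraticMap.polar_self, hv, h0, smul_zero]
    · exact ort _ _ ne
  exact this (sp ▸ Submodule.mem_top)

omit D

/-- generators of `FF` -/
def xe : I → M := ![1, dd 0 1, c, c * dd 2 3, tau, tau * dd 4 5]

theorem xe_w : ∀ j, w (xe j) = e 0 j := by decide +kernel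

theorem w_xx (i j : I) : w (xe i * xe j) = e i j := by rw [map_mul, xe_w, xe_w, e_symm 0 i, e_mul]

theorem xx_FF (i j : I) : xe i * xe j ∈ FF := (w_FF _).2 (by rw [w_xx]; rfl)

theorem z_eq : xe 0 * xe 1 * (xe 2 * xe 3) * (xe 4 * xe 5) = z := by decide +kernel

theorem eqns : True := by
  have := @sn.eq_1; have := @Ev.eq_1; have := @R.eq_1; have := @sg.eq_1; have := @xe.eq_1
  trivial

end FRB

variable {G : Type} [Group G] [Finite G] {ι : M →* G} {π : G → B} {F : Type} [Field F] [Fintype F]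
  {H L : Subgroup G} {ψ : GL (Fin 6) F → G} {σ : G} {n : ℕ}
  {J : Type} [Fintype J] [DecidableEq J] {Q : QuadraticForm F (J → F)} {θ : L →* GL J F}

open FRB in
theorem frb (l : KD ι π L) (q : Q8 F) (t : Th ι L Q θ) : ∃ v, Fm ι L Q θ v := by
  have mL : ∀ x : FF, ι x ∈ L := fun x => (l.memL x).2 (by
    show (w x).s ∈ alternatingGroup I
    rw [(w_FF x).1 x.2]; exact one_mem _)
  let Θ : FF →* GL J F := θ.comp ((ι.comp FF.subtype).codRestrict L mL)
  have iso : ∀ (g : L) x, Q ((θ g).val *ᵥ x) = Q x := fun g x =>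
    (map_subtype_le _ (t.rng.le ⟨g, rfl⟩) : θ g ∈ isometryGroup F Q) x x
  let y : I → I → FF := fun i j => ⟨_, xx_FF i j⟩
  have ext : ∀ {a b : FF}, w a = w b → a = b := fun h => Subtype.ext (w_inj h)
  have wy : ∀ i j, w (y i j) = e i j := w_xx
  have D : FRB.Dt Q fun i j => (Θ (y i j)).val :=
    { two := q.two
      card := t.card
      mul := fun i j k => by
        rw [← Units.val_mul, ← map_mul, ext (a := y i j * y j k) (b := y i k)
          (by rw [coe_mul, map_mul, wy, wy, wy, e_mul])]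
      self := fun i => by rw [ext (a := y i i) (b := 1) (by rw [wy, e_self, coe_one, map_one]), map_one, Units.val_one]
      symm := fun i j => by rw [ext (a := y i j) (b := y j i) (by rw [wy, wy, e_symm])]
      comm := fun i j => by
        rw [← Units.val_mul, ← Units.val_mul, ← map_mul, ← map_mul, ext (a := y 0 i * y 0 j) (b := y 0 j * y 0 i)
          (by rw [coe_mul, coe_mul, map_mul w (y 0 i : M), map_mul w (y 0 j : M), wy, wy, comm_of_s rfl rfl])]
      act := fun ρ hρ => by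
        obtain ⟨g, gN, gL, hg⟩ := l.cov (bl ρ) (bl_W ρ) hρ
        refine ⟨θ ⟨g, gL⟩, iso _, fun i j => ?_⟩
        obtain ⟨x, -, hx⟩ := (mem_normalizer_iff.1 gN _).1 (mem_map_of_mem ι (xx_FF i j))
        have h1 := l.toFr.down gN (x := xe i * xe j) (y := x) hx.symm
        rw [hg, w_xx, conj_e, ← w_xx] at h1
        rw [← w_inj h1] at hx
        have h2 : (⟨g, gL⟩ : L) * ⟨_, mL (y i j)⟩ = ⟨_, mL (y (ρ i) (ρ j))⟩ * ⟨g, gL⟩ :=
          Subtype.ext (mul_inv_eq_iff_eq_mul.1 hx.symm)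
        have h3 := congrArg (fun a => (θ a).val) h2
        simp only [map_mul, Units.val_mul] at h3
        exact h3 }
  have zF : z ∈ FF := (w_FF _).2 (by rw [w_z]; rfl)
  have ez : (Θ (y 0 1)).val * (Θ (y 2 3)).val * (Θ (y 4 5)).val = (θ ⟨_, mL ⟨z, zF⟩⟩).val := by
    rw [← Units.val_mul, ← Units.val_mul, ← map_mul, ← map_mul,
      show y 0 1 * y 2 3 * y 4 5 = ⟨z, zF⟩ from Subtype.ext z_eq]
    rfl
  have z2 : ι z * ι z = 1 := by rw [← map_mul, show z * z = 1 by decide +kernel, map_one]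
  have zp : ∀ {g : G}, g ∈ zpowers (ι z) → g = 1 ∨ g = ι z := fun ⟨k, hk⟩ => by
    rcases Int.even_or_odd' k with ⟨m, rfl | rfl⟩
    · exact Or.inl (by simp only [← hk, _root_.zpow_mul, zpow_two, z2, _root_.one_zpow])
    · exact Or.inr (by simp only [← hk, _root_.zpow_add, _root_.zpow_mul, zpow_two, z2, _root_.one_zpow, zpow_one, one_mul])
  rcases t.zz ⟨_, mL ⟨z, zF⟩⟩ rfl with h | h
  · have h1 := triv D (by rw [ez, h, Units.val_one])
    rcases zp (t.ker ⟨_, mL (y 0 1)⟩ (Units.ext h1)) with k | k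
    · exact absurd (l.sy.inj (k.trans ι.map_one.symm)) (by decide +kernel : xe 0 * xe 1 ≠ 1)
    · exact absurd (l.sy.inj k) (by decide +kernel : xe 0 * xe 1 ≠ z)
  obtain ⟨v, ob, ev⟩ := frame D (by rw [ez, h, Units.val_neg, Units.val_one]) t.nd fun i j => iso _
  refine ⟨v, t, ob, (injective_iff_map_eq_one θ).2 fun a ha => ?_, fun x hx a ha i => ?_⟩
  · rcases zp (t.ker a ha) with k | k
    · exact Subtype.ext k
    · rw [show a = ⟨_, mL ⟨z, zF⟩⟩ from Subtype.ext k, h] at ha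
      have h1 := zv D (ev 0)
      rw [ez, h, ha, Units.val_one, one_mulVec] at h1
      exact absurd (sn_inj q.two (x := 0) (smul_cancel (ev 0).1 (by rw [← h1]; simp [sn]))) (by decide)
  · let K : Subgroup B :=
      { carrier := {b | ∃ x : FF, w x = b ∧ (Θ x).val *ᵥ v i = sn F (b.f i) • v i}
        one_mem' := ⟨1, map_one w, by simp [sn]⟩
        mul_mem' := by
          rintro _ _ ⟨a, rfl, ha⟩ ⟨b, rfl, hb⟩
          refine ⟨a * b, map_mul w _ _, ?_⟩
          rw [map_mul, Units.val_mul, ← mulVec_mulVec, hb, mulVec_smul, ha, smul_smul, mul_f, (w_FF _).1 b.2, sn_add]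
          rfl
        inv_mem' := by
          rintro _ ⟨a, rfl, ha⟩
          exact ⟨a, eq_inv_of_mul_eq_one_left (sq_of_s ((w_FF _).1 a.2)), by
            rw [inv_eq_of_mul_eq_one_left (sq_of_s ((w_FF _).1 a.2))]; exact ha⟩ }
    have le : FB ≤ K := FB_ind fun j => ⟨y 0 j, wy 0 j, by
      rw [(ev i).2, e_f, (by decide +kernel : ∀ i j : I, dl i j = dl j i) i 0,
        (by decide +kernel : ∀ i j : I, dl i j = dl j i) i j]⟩
    obtain ⟨x', e1, e2⟩ := le ⟨w_W x, (w_FF x).1 hx⟩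
    rw [show a = ⟨_, mL x'⟩ from Subtype.ext (by rw [ha, ← w_inj e1])]
    exact e2

end H24.T12
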