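import Cfsg.Agent.Lib.A12.Defs2
import Cfsg.Agent.Lib.A12.FW
import Cfsg.Agent.Lib.A12.OB
/-! Package FRC of `blueprint/A12/README.md`. -/
set_option autoImplicit false
namespace H24.T12
open Subgroup H1.A10 H45 H69 Gold Cfsg H67 Matrix

variable {G : Type} [Group G] [Finite G] {ι : M →* G} {π : G → B} {F : Type} [Field F] [Fintype F]
  {H L : Subgroup G} {ψ : GL (Fin 6) F → G} {σ : G} {n : ℕ}
  {J : Type} [Fintype J] [DecidableEq J] {Q : QuadraticForm F (J → F)} {θ : L →* GL J F}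

namespace FRC
open QuadraticMap
set_option linter.unusedSectionVars false

/-- `y` acts on `L` as the semisimilarity `s` -/
structure Ac (Q : QuadraticForm F (J → F)) (θ : L →* GL J F) (y : G) (s : GamL J F) : Prop where
  mem : s ∈ GamO Q
  act : ∀ l l' : L, (l' : G) = y * l * y⁻¹ → θ l' = gamAut J F s (θ l)

variable {v : Fin 6 → J → F} {y y' : G} {s s' : GamL J F}

theorem exA (t : Th ι L Q θ) (y : G) : ∃ s, Ac Q θ y s :=
  let ⟨s, h, h'⟩ := t.act y; ⟨s, h, h'⟩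

theorem Ac.mul (hL : L.Normal) (a : Ac Q θ y s) (b : Ac Q θ y' s') : Ac Q θ (y * y') (s * s') := by
  refine ⟨mul_mem a.mem b.mem, fun l l' e => ?_⟩
  rw [map_mul, MulAut.mul_apply, ← b.act l ⟨_, hL.conj_mem _ l.2 y'⟩ rfl]
  exact a.act _ _ (by rw [e]; group)

theorem iso (t : Th ι L Q θ) (l : L) (x : J → F) : Q ((θ l).val *ᵥ x) = Q x :=
  omega_le_iso Q (t.rng ▸ (⟨l, rfl⟩ : θ l ∈ θ.range)) x x

theorem isoP (t : Th ι L Q θ) (l : L) (x x' : J → F) :
    polar Q ((θ l).val *ᵥ x) ((θ l).val *ᵥ x') = polar Q x x' := by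
  simp only [polar, ← mulVec_add, iso t]

theorem Ac.ofL (t : Th ι L Q θ) (l : L) : Ac Q θ l (SemidirectProduct.inl (θ l)) := by
  refine ⟨inl_mem_GamO.2 (iso_le_GO _ fun x _ => iso t l x), fun a b e => ?_⟩
  rw [gamAut_inl, MulAut.conj_apply, ← map_inv, ← map_mul, ← map_mul]
  exact congrArg θ (Subtype.ext e)

theorem gact_lin (h : s.right = 1) (x : J → F) : gact s x = s.left.val *ᵥ x := by
  change s.left.val *ᵥ (fun i => s.right (x i)) = _
  rw [h]; rfl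

theorem Ac.uniq (hL : L.Normal) (t : Th ι L Q θ) (a : Ac Q θ y s) (b : Ac Q θ y s') :
    s.right = s'.right ∧ ∃ c : F, ∀ x, gact s x = c • gact s' x := by
  have h : pomGam Q ⟨s * s'⁻¹, mul_mem a.mem (inv_mem b.mem)⟩ = 1 := by
    rw [pomGam_eq, indAut_eq_one_iff]
    intro g
    refine ⟨1, one_mem _, ?_⟩
    obtain ⟨l, hl⟩ : omJ Q g ∈ θ.range := t.rng ▸ omJ_mem g
    have e : (l : G) = y * (⟨_, hL.conj_mem _ l.2 y⁻¹⟩ : L) * y⁻¹ := by simp only []; group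
    rw [map_one, mul_one, ← hl]
    change gamAut J F (s * s'⁻¹) (θ l) = θ l
    conv_lhs => rw [b.act _ _ e, ← MulAut.mul_apply, ← map_mul, inv_mul_cancel_right, ← a.act _ _ e]
  obtain ⟨h1, h2⟩ := (pomGam_eq_one_iff ⟨Q, rfl, t.nd⟩ (by rw [t.card]; decide)).1 h
  obtain ⟨c, hc⟩ := GeneralLinearGroup.mem_center_iff_val_mem_range_scalar.1 h1
  refine ⟨mul_inv_eq_one.1 (by simpa using h2), c, fun x => ?_⟩
  have := gact_lin h2 (gact s' x)
  rw [← hc, gact_mul, inv_gact] at this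
  rw [this]
  ext i
  simp [mulVec_diagonal]

theorem vne (o : Ob Q v) (i : I) : v i ≠ 0 := by
  obtain ⟨c, hc, h⟩ := o.nrm
  intro e
  exact hc (by rw [← h i, e, map_zero])

theorem canc (o : Ob Q v) {i : I} {a b : F} (h : a • v i = b • v i) : a = b :=
  smul_left_injective F (vne o i) h

theorem pol (o : Ob Q v) {c : F} (h : ∀ i, Q (v i) = c) (i j : I) :
    polar Q (v i) (v j) = if i = j then 2 * c else 0 := by
  split_ifs with e
  · rw [e, polar_self, h, two_nsmul, two_mul]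
  · exact o.ort i j e

theorem exB (h2 : (2 : F) ≠ 0) (hJ : Fintype.card J = 6) (o : Ob Q v) :
    ∃ b : Module.Basis I F (J → F), ∀ i, b i = v i := by
  obtain ⟨c, hc, h⟩ := o.nrm
  have li : LinearIndependent F v := by
    rw [Fintype.linearIndependent_iff]
    intro g hg i
    have := congrArg (fun x => polarBilin Q x (v i)) hg
    simp only [map_sum, map_smul, LinearMap.sum_apply, LinearMap.smul_apply, polarBilin_apply_apply,
      pol o h, smul_eq_mul, mul_ite, mul_zero, Finset.sum_ite_eq', Finset.mem_univ, if_true, map_zero,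
      LinearMap.zero_apply] at this
    exact (mul_eq_zero.1 this).resolve_right (mul_ne_zero h2 hc)
  exact ⟨basisOfLinearIndependentOfCardEqFinrank li (by simp [hJ]), fun i => by simp⟩

theorem mext (h2 : (2 : F) ≠ 0) (hJ : Fintype.card J = 6) (o : Ob Q v) {A A' : Matrix J J F}
    (h : ∀ i, A *ᵥ v i = A' *ᵥ v i) : A = A' := by
  obtain ⟨b, hb⟩ := exB h2 hJ o
  exact Matrix.toLin'.injective (b.ext fun i => by rw [hb, toLin'_apply, toLin'_apply, h])

theorem online (h2 : (2 : F) ≠ 0) (hJ : Fintype.card J = 6) (o : Ob Q v) {x : J → F} {j : I}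
    (h : ∀ k, k ≠ j → polar Q x (v k) = 0) : ∃ a : F, x = a • v j := by
  obtain ⟨b, hb⟩ := exB h2 hJ o
  obtain ⟨c, hc, hn⟩ := o.nrm
  refine ⟨b.repr x j, ?_⟩
  have e := b.sum_repr x
  conv_lhs => rw [← e]
  rw [Finset.sum_eq_single j (fun k _ hk => ?_) (by simp), hb]
  have := congrArg (fun x => polarBilin Q x (v k)) e
  simp only [map_sum, map_smul, LinearMap.sum_apply, LinearMap.smul_apply, polarBilin_apply_apply, hb,
    pol o hn, smul_eq_mul, mul_ite, mul_zero, Finset.sum_ite_eq', Finset.mem_univ, if_true, h k hk] at this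
  rw [(mul_eq_zero.1 this).resolve_right (mul_ne_zero h2 hc), zero_smul]

theorem tab1 : ∀ j k : I, k ≠ j → ∃ x ∈ FF, (w x).f j = 0 ∧ (w x).f k ≠ 0 := by decide +kernel

theorem FF_L (l : KD ι π L) {x : M} (hx : x ∈ FF) : ι x ∈ L :=
  (l.memL x).2 (by
    change (w x).s ∈ alternatingGroup I
    rw [(w_FF x).1 hx]; exact one_mem _)

theorem line (l : KD ι π L) (h2 : (2 : F) ≠ 0) (t : Fm ι L Q θ v) (hy : y ∈ NF ι) (a : Ac Q θ y s) (i : I) :
    ∃ c : F, c ≠ 0 ∧ gact s (v i) = c • v ((π y).s i) := by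
  obtain ⟨c, hc⟩ := online h2 t.card t.toOb (x := gact s (v i)) (j := (π y).s i) fun k hk => by
    obtain ⟨x', hx', h0, h1⟩ := tab1 _ _ hk
    obtain ⟨x, hx, e⟩ : y⁻¹ * ι x' * y⁻¹⁻¹ ∈ FF.map ι :=
      (mem_normalizer_iff.1 (inv_mem hy) _).1 ⟨x', hx', rfl⟩
    have cj : Cj ι y x x' := by
      change y * ι x * y⁻¹ = ι x'
      rw [e]; group
    have e0 : (w x).f i = 0 := by
      rw [← l.toFr.down hy cj] at h0
      simp only [mul_f, inv_f, inv_s, (w_FF x).1 hx, Equiv.Perm.coe_inv, Equiv.symm_apply_apply,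
        Equiv.Perm.one_apply] at h0
      rw [add_comm ((w x).f i), ← add_assoc, zz, zero_add] at h0
      exact h0
    have p := isoP t.toTh ⟨_, FF_L l hx'⟩ (gact s (v i)) (v k)
    rw [t.dia x' hx' _ rfl k, if_neg h1, a.act ⟨_, FF_L l hx⟩ ⟨_, FF_L l hx'⟩ cj.eq.symm, gamAut_gact,
      t.dia x hx _ rfl i, if_pos e0, one_smul, polar_smul_right, smul_eq_mul] at p
    exact (mul_eq_zero.1 (by linear_combination -p : 2 * polar Q (gact s (v i)) (v k) = 0)).resolve_left h2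
  refine ⟨c, fun e => vne t.toOb i ?_, hc⟩
  rw [e, zero_smul] at hc
  exact sact_eq_zero hc

theorem sgn_fix (α : RingAut F) {a b : F} (h : a * a = b * b) {m : F} (e : α b = m * b) : α a = m * a := by
  rcases mul_self_eq_mul_self_iff.1 h with rfl | rfl
  · exact e
  · rw [map_neg, e, mul_neg]

theorem refl_v (h2 : (2 : F) ≠ 0) (o : Ob Q v) {p r : I} (ne : p ≠ r) {ε : F} (he : ε * ε = 1) (i : I) :
    (reflGL Q (v p - ε • v r)).val *ᵥ v i = (if i = p ∨ i = r then ε else 1) • v (Equiv.swap p r i) := by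
  obtain ⟨c, hc, h⟩ := o.nrm
  have hq : Q (v p - ε • v r) = 2 * c := by
    rw [sub_eq_add_neg, QuadraticMap.map_add Q, ← neg_smul, polar_smul_right, o.ort _ _ ne, Q.map_smul, h, h,
      smul_eq_mul, smul_eq_mul]
    linear_combination c * he
  have h2c := mul_ne_zero h2 hc
  rw [reflGL_mulVec, hq, polar_sub_right, polar_smul_right, pol o h, pol o h]
  by_cases e : i = p
  · subst e
    rw [if_pos rfl, if_neg ne, if_pos (Or.inl rfl), Equiv.swap_apply_left, smul_zero, sub_zero,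
      inv_mul_cancel₀ h2c, one_smul, sub_sub_cancel]
  by_cases e' : i = r
  · subst e'
    rw [if_pos rfl, if_neg e, if_pos (Or.inr rfl), Equiv.swap_apply_right, zero_sub, smul_eq_mul, mul_neg,
      mul_left_comm, inv_mul_cancel₀ h2c, mul_one, neg_smul, sub_neg_eq_add, smul_sub, smul_smul, he, one_smul,
      add_sub_cancel]
  · rw [if_neg e, if_neg e', if_neg (not_or.2 ⟨e, e'⟩), Equiv.swap_apply_of_ne_of_ne e e']
    simp

theorem refl (l : KD ι π L) (q : Q8 F) (t : Fm ι L Q θ v) {x : M} {p r : I} (ne : p ≠ r) (hx : x * x = 1)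
    (hs : ∀ i, (w x).s i = Equiv.swap p r i) {i0 : I} (h0 : i0 ≠ p ∧ i0 ≠ r)
    (hc : ∀ j, j ≠ p → j ≠ r → j ≠ i0 →
      sw j i0 * w x * (sw j i0)⁻¹ = w x ∧ ∃ k, (k ≠ p ∧ k ≠ r) ∧ k ≠ j ∧ k ≠ i0) :
    ∃ ε : F, ε * ε = 1 ∧ Ac Q θ (ι x) (SemidirectProduct.inl (reflGL Q (v p - ε • v r))) := by
  obtain ⟨s, a⟩ := exA t.toTh (ι x)
  obtain ⟨h1, lam, hl⟩ := (a.mul l.nrm a).uniq l.nrm t.toTh (s' := SemidirectProduct.inl (θ 1))
    (by rw [← map_mul, hx, map_one]; exact Ac.ofL t.toTh 1)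
  have hr : s.right = 1 := q.aut _ (k := 1) (by simpa [pow_two] using h1)
  have ln := line l q.two t (mem_NF x) a
  simp only [l.emb, hs] at ln
  choose c c0 hcv using ln
  obtain ⟨N, hN, hn⟩ := t.nrm
  obtain ⟨μ, hμ⟩ := a.mem
  have sq : ∀ i, c i * c i = μ := fun i => by
    have := hμ (v i)
    rw [hcv, Q.map_smul, hn, hn, hr, smul_eq_mul] at this
    exact mul_right_cancel₀ hN this
  have sm : ∀ (b : F) z, gact s (b • z) = b • gact s z := fun b z => by rw [gact_smul, hr]; rfl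
  have pr : ∀ i, c i * c (Equiv.swap p r i) = lam := fun i => by
    have := hl (v i)
    rw [gact_mul, hcv, sm, hcv, smul_smul, Equiv.swap_apply_self, map_one, map_one, gact_one] at this
    exact canc t.toOb this
  have e1 : c r = c p := by
    have := pr p
    rw [Equiv.swap_apply_left, ← pr i0, Equiv.swap_apply_of_ne_of_ne h0.1 h0.2, sq, ← sq p] at this
    exact mul_left_cancel₀ (c0 p) this
  have e2 : ∀ j, j ≠ p → j ≠ r → c j = c i0 := fun j hp hr' => by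
    by_cases hj : j = i0
    · rw [hj]
    obtain ⟨hb, k, hk, hkj, hk0⟩ := hc j hp hr' hj
    obtain ⟨g, hg, hπ, cj⟩ := l.toFr.fus (sw_W j i0) hb
    obtain ⟨s', a'⟩ := exA t.toTh g
    obtain ⟨-, m, hm⟩ := (a'.mul l.nrm a).uniq l.nrm t.toTh (s' := s * s')
      (by rw [show g * ι x = ι x * g from mul_inv_eq_iff_eq_mul.1 cj]; exact a.mul l.nrm a')
    have key : ∀ i, i ≠ p → i ≠ r → Equiv.swap j i0 i ≠ p → Equiv.swap j i0 i ≠ r →
        s'.right (c i) = m * c (Equiv.swap j i0 i) := fun i h1 h2 h3 h4 => by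
      obtain ⟨β, β0, hβ⟩ := line l q.two t hg a' i
      have := hm (v i)
      rw [gact_mul, gact_mul, hcv, Equiv.swap_apply_of_ne_of_ne h1 h2, gact_smul, hβ, hπ, sw_s, sm, hcv,
        Equiv.swap_apply_of_ne_of_ne h3 h4, smul_smul, smul_smul, smul_smul] at this
      exact mul_right_cancel₀ β0 ((canc t.toOb this).trans (by ring))
    have k1 := key k hk.1 hk.2 (by rw [Equiv.swap_apply_of_ne_of_ne hkj hk0]; exact hk.1)
      (by rw [Equiv.swap_apply_of_ne_of_ne hkj hk0]; exact hk.2)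
    have k2 := key j hp hr' (by rw [Equiv.swap_apply_left]; exact h0.1) (by rw [Equiv.swap_apply_left]; exact h0.2)
    rw [Equiv.swap_apply_of_ne_of_ne hkj hk0] at k1
    rw [Equiv.swap_apply_left, sgn_fix _ ((sq j).trans (sq k).symm) k1] at k2
    refine mul_left_cancel₀ (fun e => c0 k ?_) k2
    rw [e, zero_mul] at k1
    exact (map_eq_zero _).1 k1
  have he : c p / c i0 * (c p / c i0) = 1 := by
    rw [div_mul_div_comm, sq, sq, div_self μ.ne_zero]
  refine ⟨c p / c i0, he, inl_mem_GamO.2 (reflGL_mem_GO _), fun g g' e => ?_⟩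
  have hm : s.left.val = c i0 • (reflGL Q (v p - (c p / c i0) • v r)).val := mext q.two t.card t.toOb fun i => by
    rw [← gact_lin hr, hcv, smul_mulVec, refl_v q.two t.toOb ne he, smul_smul]
    congr 1
    split_ifs with h
    · rw [mul_div_cancel₀ _ (c0 i0)]
      rcases h with rfl | rfl
      exacts [rfl, e1]
    · rw [mul_one, e2 i (not_or.1 h).1 (not_or.1 h).2]
  rw [a.act g g' e, gamAut_inl, gamAut_eq, hr, map_one, mul_one, MulAut.conj_apply, MulAut.conj_apply,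
    mul_inv_eq_iff_eq_mul, mul_assoc, mul_assoc, ← inv_mul_eq_iff_eq_mul, ← mul_assoc]
  refine Units.ext ?_
  simp only [Units.val_mul, hm, Matrix.mul_smul, Matrix.smul_mul, Units.inv_mul, Matrix.one_mul, Matrix.mul_one]

theorem fixC (l : KD ι π L) (h2 : (2 : F) ≠ 0) (t : Fm ι L Q θ v) {x x' : M} {b : B} (hb : b ∈ W)
    (e : b * w x * b⁻¹ = w x') :
    (ι x ∈ L ↔ ι x' ∈ L) ∧ ∀ (g g' : L) (i : I) (η : F), (g : G) = ι x → (g' : G) = ι x' → η * η = 1 →
      (θ g).val *ᵥ v i = η • v i → (θ g').val *ᵥ v (b.s i) = η • v (b.s i) := by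
  obtain ⟨k, hk, hπ, cj⟩ := l.toFr.fus hb e
  refine ⟨⟨fun h => cj.eq ▸ l.nrm.conj_mem _ h k, fun h => cj.symm.eq ▸ l.nrm.conj_mem _ h k⁻¹⟩,
    fun g g' i η hg hg' hη h => ?_⟩
  obtain ⟨s, a⟩ := exA t.toTh k
  obtain ⟨β, β0, hβ⟩ := line l h2 t hk a i
  have := gamAut_gact s (θ g) (v i)
  rw [← a.act g g' (by rw [hg, hg', cj.eq]), h, gact_smul, hβ, hπ, mulVec_smul, smul_comm,
    sgn_fix (m := 1) (b := 1) _ (by rw [hη, mul_one]) (by simp), one_mul] at this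
  exact smul_right_injective _ β0 this

theorem tab2 : (w (dd 0 2)).s 4 = 4 ∧ sw 1 2 * w (dd 0 2) * (sw 1 2)⁻¹ = w sg ∧
    sw 1 3 * w (dd 0 2) * (sw 1 3)⁻¹ = w (dd 0 2 * sg) := by decide +kernel

theorem fix02 (l : KD ι π L) (h2 : (2 : F) ≠ 0) (t : Fm ι L Q θ v) (g : L) (hg : (g : G) = ι (dd 0 2)) :
    (θ g).val *ᵥ v 4 = v 4 := by
  obtain ⟨η, -, h⟩ := line l h2 t (hg ▸ mem_NF _) (Ac.ofL t.toTh g) 4
  rw [hg, l.emb, tab2.1, gact_inl] at h
  obtain ⟨N, hN, hn⟩ := t.nrm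
  have hη : η * η = 1 := by
    have := iso t.toTh g (v 4)
    rw [h, Q.map_smul, hn, smul_eq_mul] at this
    exact mul_right_cancel₀ hN (this.trans (one_mul _).symm)
  obtain ⟨m1, f1⟩ := fixC l h2 t (sw_W 1 2) tab2.2.1
  obtain ⟨-, f2⟩ := fixC l h2 t (sw_W 1 3) tab2.2.2
  have a1 := f1 g ⟨_, m1.1 (hg ▸ g.2)⟩ 4 η hg rfl hη h
  have a2 := f2 g (g * ⟨_, m1.1 (hg ▸ g.2)⟩) 4 η hg ((congrArg (· * ι sg) hg).trans (map_mul ι _ _).symm) hη h
  rw [show (sw 1 2).s 4 = 4 by decide] at a1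
  rw [show (sw 1 3).s 4 = 4 by decide, map_mul, Units.val_mul, ← mulVec_mulVec, a1, mulVec_smul, h, smul_smul,
    hη] at a2
  rw [h, ← a2, one_smul]

theorem tab3 : ∀ i : I, 2 * (i / 2) ≠ 2 * (i / 2) + 1 ∧ dd i.castSucc 6 * dd i.castSucc 6 = 1 ∧
    (∀ k, (w (dd i.castSucc 6)).s k = Equiv.swap (2 * (i / 2)) (2 * (i / 2) + 1) k) ∧
    (i + 2 ≠ 2 * (i / 2) ∧ i + 2 ≠ 2 * (i / 2) + 1) ∧
    ∀ j, j ≠ 2 * (i / 2) → j ≠ 2 * (i / 2) + 1 → j ≠ i + 2 →
      sw j (i + 2) * w (dd i.castSucc 6) * (sw j (i + 2))⁻¹ = w (dd i.castSucc 6) ∧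
        ∃ k, (k ≠ 2 * (i / 2) ∧ k ≠ 2 * (i / 2) + 1) ∧ k ≠ j ∧ k ≠ i + 2 := by decide +kernel

theorem tab4 : ∀ i j : I, dd i.castSucc 6 * dd j.castSucc 6 = dd i.castSucc j.castSucc ∧
    ∃ k : I, ¬ (k = 2 * (i / 2) ∨ k = 2 * (i / 2) + 1) ∧ ¬ (k = 2 * (j / 2) ∨ k = 2 * (j / 2) + 1) ∧
      ((dd i.castSucc j.castSucc ∈ FF ∧ (w (dd i.castSucc j.castSucc)).f k = 0) ∨
        ∃ f ∈ [1, e 0 2, e 0 4, e 2 4], ∃ b ∈ [1, sw 0 4 * sw 1 5, sw 2 4 * sw 3 5], ∑ k, (f * b).f k = 0 ∧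
          f * b * w (dd 0 2) * (f * b)⁻¹ = w (dd i.castSucc j.castSucc) ∧ (f * b).s 4 = k) := by
  decide +kernel

theorem tab5 : ∀ i j : I, i ≠ j → (i / 2 = j / 2 ∧ dd i.castSucc j.castSucc ∈ FF ∧
    (w (dd i.castSucc j.castSucc)).f (2 * (i / 2)) ≠ 0) ∨ (2 * (i / 2) ≠ 2 * (j / 2) ∧ 2 * (i / 2) ≠ 2 * (j / 2) + 1 ∧
      2 * (i / 2) + 1 ≠ 2 * (j / 2) ∧ 2 * (i / 2) + 1 ≠ 2 * (j / 2) + 1) := by decide +kernel

end FRC
open FRC QuadraticMap

theorem frc (l : KD ι π L) (q : Q8 F) {v : Fin 6 → J → F} (t : Fm ι L Q θ v) : ∃ u, Fn ι L Q θ u := by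
  choose ε he ha using fun i : I =>
    refl l q t (tab3 i).1 (tab3 i).2.1 (tab3 i).2.2.1 (tab3 i).2.2.2.1 (tab3 i).2.2.2.2
  have rv := fun i => refl_v q.two t.toOb (tab3 i).1 (he i)
  have two : ∀ (i j : Fin 6) (g : L), (g : G) = ι (dd i.castSucc j.castSucc) →
      θ g = reflGL Q (v (2 * (i / 2)) - ε i • v (2 * (i / 2) + 1)) *
        reflGL Q (v (2 * (j / 2)) - ε j • v (2 * (j / 2) + 1)) := fun i j g hg => by
    obtain ⟨e, k, hi, hj, hk⟩ := tab4 i j
    have a := (ha i).mul l.nrm (ha j)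
    rw [← map_mul, ← map_mul, e, ← hg] at a
    obtain ⟨-, c, hc⟩ := (Ac.ofL t.toTh g).uniq l.nrm t.toTh a
    simp only [gact_inl] at hc
    have fx : (θ g).val *ᵥ v k = (1 : F) • v k := by
      rcases hk with ⟨h, h'⟩ | ⟨f, -, b, -, hb, h, rfl⟩
      · rw [t.dia _ h g hg, if_pos h']
      · obtain ⟨m, f⟩ := fixC l q.two t (mem_W.2 hb) h
        exact f ⟨_, m.2 (hg ▸ g.2)⟩ g 4 1 rfl hg (one_mul _) (by rw [one_smul]; exact fix02 l q.two t _ rfl)
    have c1 : 1 = c := by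
      have := hc (v k)
      rw [fx, Units.val_mul, ← mulVec_mulVec, rv, if_neg hj, Equiv.swap_apply_of_ne_of_ne (not_or.1 hj).1
        (not_or.1 hj).2, one_smul F (v k), rv, if_neg hi, Equiv.swap_apply_of_ne_of_ne (not_or.1 hi).1
        (not_or.1 hi).2, one_smul] at this
      exact canc t.toOb ((one_smul _ _).trans this)
    exact Units.ext (mext q.two t.card t.toOb fun i => by rw [hc, ← c1, one_smul])
  obtain ⟨N, hN, hn⟩ := t.nrm
  have pp := pol t.toOb hn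
  refine ⟨fun i => v (2 * (i / 2)) - ε i • v (2 * (i / 2) + 1),
    { t.toTh with
      nrm := ⟨2 * N, mul_ne_zero q.two hN, fun i => ?_⟩
      ort := fun i j ne => ?_
      inj := t.inj
      one := fun i g g' e => by rw [(ha i).act g g' e, gamAut_inl, MulAut.conj_apply]
      two := two }⟩
  · rw [sub_eq_add_neg, QuadraticMap.map_add Q, ← neg_smul, polar_smul_right, t.ort _ _ (tab3 i).1, Q.map_smul,
      hn, hn, smul_eq_mul, smul_eq_mul]
    linear_combination N * he i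
  · simp only [polar_sub_left, polar_sub_right, polar_smul_left, polar_smul_right, pp, smul_eq_mul]
    rcases tab5 i j ne with ⟨e, h, h'⟩ | ⟨h1, h2, h3, h4⟩
    · have := t.dia _ h ⟨_, FF_L l h⟩ rfl (2 * (i / 2))
      rw [if_neg h', two i j _ rfl, Units.val_mul, ← mulVec_mulVec, rv, ← e, if_pos (Or.inl rfl),
        Equiv.swap_apply_left, mulVec_smul, rv, if_pos (Or.inr rfl), Equiv.swap_apply_right, smul_smul] at this
      rw [← e, if_pos rfl, if_pos rfl, if_neg (tab3 i).1, if_neg (tab3 i).1.symm]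
      linear_combination 2 * N * canc t.toOb this
    · simp [h1, h2, h3, h4]

end H24.T12
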