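import Cfsg.Agent.Lib.A12.Defs2
import Cfsg.Agent.Lib.A12.OB
/-! Package FRD of `blueprint/A12/README.md`. -/
set_option autoImplicit false
namespace H24.T12
open Subgroup H1.A10 H45 H69 Gold Cfsg H67 Matrix

variable {G : Type} [Group G] [Finite G] {ι : M →* G} {π : G → B} {F : Type} [Field F] [Fintype F]
  {H L : Subgroup G} {ψ : GL (Fin 6) F → G} {σ : G} {n : ℕ}
  {J : Type} [Fintype J] [DecidableEq J] {Q : QuadraticForm F (J → F)} {θ : L →* GL J F}

namespace FRD

section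
variable {K : Type} [Field K] {A C : Type} [Fintype A] [DecidableEq A] [Fintype C] [DecidableEq C]
  {P : Matrix A C K} {P' : Matrix C A K}

theorem mid (h1 : P * P' = 1) (x y : Matrix A A K) : P' * x * P * (P' * y * P) = P' * (x * y) * P := by
  calc _ = P' * x * (P * P') * y * P := by simp only [Matrix.mul_assoc]
    _ = _ := by rw [h1, Matrix.mul_one]; simp only [Matrix.mul_assoc]

/-- change of coordinates -/
def tr (h1 : P * P' = 1) (h2 : P' * P = 1) : GL A K →* GL C K where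
  toFun g := ⟨P' * g.val * P, P' * (g⁻¹).val * P, by rw [mid h1, Units.mul_inv, Matrix.mul_one, h2],
    by rw [mid h1, Units.inv_mul, Matrix.mul_one, h2]⟩
  map_one' := Units.ext (by simp [h2])
  map_mul' x y := Units.ext (by simp only [Units.val_mul]; rw [mid h1])

theorem tr_val (h1 : P * P' = 1) (h2 : P' * P = 1) (g : GL A K) : (tr h1 h2 g).val = P' * g.val * P := rfl

theorem tr_mv (h1 : P * P' = 1) (h2 : P' * P = 1) (g : GL A K) (x : C → K) :
    (tr h1 h2 g).val *ᵥ x = P' *ᵥ (g.val *ᵥ (P *ᵥ x)) := by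
  rw [tr_val, mulVec_mulVec, mulVec_mulVec]

theorem pp (h1 : P * P' = 1) (x : A → K) : P *ᵥ (P' *ᵥ x) = x := by rw [mulVec_mulVec, h1, one_mulVec]

theorem tr_tr (h1 : P * P' = 1) (h2 : P' * P = 1) (g : GL A K) : tr h2 h1 (tr h1 h2 g) = g := by
  refine Units.ext ?_
  rw [tr_val, tr_val]
  calc _ = P * P' * g.val * (P * P') := by simp only [Matrix.mul_assoc]
    _ = _ := by rw [h1, Matrix.one_mul, Matrix.mul_one]

theorem tr_inj (h1 : P * P' = 1) (h2 : P' * P = 1) : Function.Injective (tr h1 h2) :=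
  Function.LeftInverse.injective (tr_tr h1 h2)

theorem tr_neg (h1 : P * P' = 1) (h2 : P' * P = 1) : tr h1 h2 (-1) = -1 :=
  Units.ext (by rw [tr_val]; simp [h2])

variable {q : QuadraticForm K (A → K)} {q' : QuadraticForm K (C → K)} {c : K}

theorem back (h1 : P * P' = 1) (hc : c ≠ 0) (h : ∀ x, q (P *ᵥ x) = c * q' x) (y : A → K) : q' (P' *ᵥ y) = c⁻¹ * q y := by
  rw [eq_inv_mul_iff_mul_eq₀ hc, ← h, pp h1]

theorem tr_om (h1 : P * P' = 1) (h2 : P' * P = 1) (hc : c ≠ 0) (h : ∀ x, q (P *ᵥ x) = c * q' x) {g : GL A K}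
    (hg : g ∈ Geo.omegaGL q) : tr h1 h2 g ∈ Geo.omegaGL q' := by
  refine map_mem_omegaGL (tr h1 h2) (fun g hg => ?_) hg
  refine H12.mem_isometryGroup.2 fun v => ?_
  rw [tr_mv, back h1 hc h, H12.mem_isometryGroup.1 hg, h, inv_mul_cancel_left₀ hc]

theorem tr_refl (h1 : P * P' = 1) (h2 : P' * P = 1) (hc : c ≠ 0) (h : ∀ x, q (P *ᵥ x) = c * q' x) (w : C → K) :
    tr h1 h2 (reflGL q (P *ᵥ w)) = reflGL q' w := by
  refine Units.ext (Matrix.ext_iff_mulVec.2 fun x => ?_)
  have e : QuadraticMap.polar q (P *ᵥ x) (P *ᵥ w) = c * QuadraticMap.polar q' x w := by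
    simp only [QuadraticMap.polar, ← mulVec_add, h]; ring
  rw [tr_mv, reflGL_mulVec, reflGL_mulVec, mulVec_sub, mulVec_smul, pp h2, pp h2, h, e, mul_inv]
  congr 2
  field_simp

theorem map_one' (h1 : P * P' = 1) (α : K ≃+* K) : P.map α * P'.map α = 1 := by
  rw [← Matrix.map_mul, h1, Matrix.map_one _ (map_zero α) (map_one α)]

/-- change of coordinates for semilinear maps -/
def trG (h1 : P * P' = 1) (h2 : P' * P = 1) (s : GamL A K) : GamL C K :=
  ⟨⟨P' * s.left.val * P.map s.right, P'.map s.right * (s.left⁻¹).val * P, by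
    calc _ = P' * (s.left.val * (P.map s.right * P'.map s.right) * (s.left⁻¹).val) * P := by simp only [Matrix.mul_assoc]
      _ = 1 := by rw [map_one' h1, Matrix.mul_one, Units.mul_inv, Matrix.mul_one, h2], by
    calc _ = P'.map s.right * ((s.left⁻¹).val * (P * P') * s.left.val) * P.map s.right := by simp only [Matrix.mul_assoc]
      _ = 1 := by rw [h1, Matrix.mul_one, Units.inv_mul, Matrix.mul_one, map_one' h2]⟩, s.right⟩

theorem gact_trG (h1 : P * P' = 1) (h2 : P' * P = 1) (s : GamL A K) (x : C → K) :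
    gact (trG h1 h2 s) x = P' *ᵥ gact s (P *ᵥ x) := by
  have e : (fun i => s.right ((P *ᵥ x) i)) = P.map s.right *ᵥ fun i => s.right (x i) := by
    funext i
    simp [mulVec, dotProduct, map_sum]
  show (P' * s.left.val * P.map s.right) *ᵥ (fun i => s.right (x i)) = P' *ᵥ (s.left.val *ᵥ fun i => s.right ((P *ᵥ x) i))
  rw [e, mulVec_mulVec, mulVec_mulVec]

theorem trG_mem (h1 : P * P' = 1) (h2 : P' * P = 1) (hc : c ≠ 0) (h : ∀ x, q (P *ᵥ x) = c * q' x) {s : GamL A K}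
    (hs : s ∈ GamO q) : trG h1 h2 s ∈ GamO q' := by
  obtain ⟨d, hd⟩ := mem_GamO.1 hs
  refine mem_GamO.2 ⟨Units.mk0 (c⁻¹ * d * s.right c)
    (mul_ne_zero (mul_ne_zero (inv_ne_zero hc) d.ne_zero) ((map_ne_zero _).2 hc)), fun v => ?_⟩
  rw [gact_trG, back h1 hc h, hd, h, map_mul, Units.val_mk0]
  show _ = _ * s.right (q' v)
  ring

theorem tr_gam (h1 : P * P' = 1) (h2 : P' * P = 1) (s : GamL A K) (g : GL A K) :
    tr h1 h2 (gamAut A K s g) = gamAut C K (trG h1 h2 s) (tr h1 h2 g) := by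
  refine Units.ext (Matrix.ext_iff_mulVec.2 fun x => ?_)
  rw [← gact_inv (trG h1 h2 s) x, gamAut_gact, tr_mv, gact_trG, gact_trG, pp h1, gamAut_gact, tr_mv, pp h1]

end

theorem qsum (h2 : (2 : F) ≠ 0) {u : Fin 6 → J → F} {c : F} (h : ∀ i, Q (u i) = c)
    (o : ∀ i j, i ≠ j → QuadraticMap.polar Q (u i) (u j) = 0) (x : Fin 6 → F) : Q (∑ i, x i • u i) = c * QS F 6 x := by
  apply mul_left_cancel₀ h2
  have e : ∀ v, 2 * Q v = Q.polarBilin v v := fun v => by
    rw [QuadraticMap.polarBilin_apply_apply, QuadraticMap.polar_self, two_nsmul, two_mul]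
  rw [e, QS_apply, Finset.mul_sum, Finset.mul_sum, map_sum]
  refine Finset.sum_congr rfl fun i _ => ?_
  rw [LinearMap.map_sum₂, Finset.sum_eq_single i]
  · rw [map_smul, LinearMap.map_smul₂, ← e, h, smul_eq_mul, smul_eq_mul]; ring
  · intro j _ hj
    rw [map_smul, LinearMap.map_smul₂, QuadraticMap.polarBilin_apply_apply, o j i hj, smul_zero, smul_zero]
  · simp

end FRD

open FRD in
theorem frd (q : Q8 F) {u : Fin 6 → J → F} (t : Fn ι L Q θ u) :
    ∃ θ' : L →* GL (Fin 6) F, Fn ι L (QS F 6) θ' ev := by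
  have h2 := q.two
  obtain ⟨c, hc, hu⟩ := t.nrm
  let P : Matrix J (Fin 6) F := Matrix.of fun j i => u i j
  have eP : ∀ x, P *ᵥ x = ∑ i, x i • u i := fun x => by
    funext j
    simp [P, mulVec, dotProduct, Finset.sum_apply, mul_comm]
  have h : ∀ x, Q (P *ᵥ x) = c * QS F 6 x := fun x => by rw [eP, qsum h2 hu t.ort]
  have eu : ∀ i, u i = P *ᵥ ev i := fun i => by
    funext j
    simp [P]
  have inj : Function.Injective (Matrix.toLin' P) := by
    refine (injective_iff_map_eq_zero _).2 fun x hx => nd_QS h2 x fun y => ?_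
    rw [Matrix.toLin'_apply] at hx
    apply mul_left_cancel₀ hc
    have e : QuadraticMap.polar Q (P *ᵥ x) (P *ᵥ y) = c * QuadraticMap.polar (QS F 6) x y := by
      simp only [QuadraticMap.polar, ← mulVec_add, h]; ring
    rw [← e, hx, QuadraticMap.polar_zero_left, mul_zero]
  let φ := LinearMap.linearEquivOfInjective _ inj (by simp [t.card])
  let P' : Matrix (Fin 6) J F := LinearMap.toMatrix' φ.symm.toLinearMap
  have eφ : ∀ x, φ x = P *ᵥ x := fun x => Matrix.toLin'_apply P x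
  have eφ' : ∀ x, P' *ᵥ x = φ.symm x := fun x => LinearMap.toMatrix'_mulVec _ x
  have k1 : P * P' = 1 := Matrix.ext_iff_mulVec.2 fun x => by
    rw [← mulVec_mulVec, eφ', ← eφ, LinearEquiv.apply_symm_apply, one_mulVec]
  have k2 : P' * P = 1 := Matrix.ext_iff_mulVec.2 fun x => by
    rw [← mulVec_mulVec, eφ', ← eφ, LinearEquiv.symm_apply_apply, one_mulVec]
  have r : ∀ i, tr k1 k2 (reflGL Q (u i)) = reflGL (QS F 6) (ev i) := fun i => by rw [eu, tr_refl k1 k2 hc h]
  refine ⟨(tr k1 k2).comp θ, ⟨Fintype.card_fin 6, nd_QS h2, le_antisymm ?_ fun g hg => ?_, fun l hl => t.ker l ?_,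
    fun l hl => ?_, fun y => ?_⟩, ⟨⟨1, one_ne_zero, fun i => ?_⟩, fun i j hij => ?_⟩, (tr_inj k1 k2).comp t.inj,
    fun i l l' e => ?_, fun i j l e => ?_⟩
  · rintro _ ⟨l, rfl⟩
    exact tr_om k1 k2 hc h (t.rng ▸ ⟨l, rfl⟩)
  · have := tr_om k2 k1 (inv_ne_zero hc) (back k1 hc h) hg
    rw [← t.rng] at this
    obtain ⟨l, hl⟩ := this
    exact ⟨l, by rw [MonoidHom.comp_apply, hl, tr_tr]⟩
  · exact tr_inj k1 k2 (hl.trans (map_one _).symm)
  · rcases t.zz l hl with e | e
    · left; rw [MonoidHom.comp_apply, e, map_one]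
    · right; rw [MonoidHom.comp_apply, e, tr_neg]
  · obtain ⟨s, hs, e⟩ := t.act y
    exact ⟨trG k1 k2 s, trG_mem k1 k2 hc h hs, fun l l' k => by
      rw [MonoidHom.comp_apply, MonoidHom.comp_apply, e l l' k, tr_gam]⟩
  · rw [QS_dot]; simp
  · rw [polar_QS]; simp [hij.symm]
  · rw [MonoidHom.comp_apply, MonoidHom.comp_apply, t.one i l l' e, map_mul, map_mul, map_inv, r]
  · rw [MonoidHom.comp_apply, t.two i j l e, map_mul, r, r]

end H24.T12
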