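import Cfsg.Agent.Lib.A12.Defs2
import Cfsg.Agent.Lib.A12.FW
import Cfsg.Agent.Lib.A12.WIT
/-! Package FRE of `blueprint/A12/README.md`. -/
set_option autoImplicit false
set_option linter.unusedSectionVars false
namespace H24.T12
open Subgroup H1.A10 H45 H69 Gold Cfsg H67 Matrix

variable {G : Type} [Group G] [Finite G] {ι : M →* G} {π : G → B} {F : Type} [Field F] [Fintype F]
  {H L : Subgroup G} {ψ : GL (Fin 6) F → G} {σ : G} {n : ℕ}
  {J : Type} [Fintype J] [DecidableEq J] {Q : QuadraticForm F (J → F)} {θ : L →* GL J F}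

namespace FRE

theorem two_eq {Y : Type*} [Group Y] [Finite Y] (S : Sylow 2 Y) {d : Y} (hS : ∀ x ∈ S, x = 1 ∨ x = d) {a b : Y}
    (ha : a ≠ 1) (hb : b ≠ 1) (a2 : a * a = 1) (b2 : b * b = 1) (ab : a * b * (a * b) = 1) : a = b := by
  have c : Commute a b := by
    have := eq_inv_of_mul_eq_one_left ab
    rwa [_root_.mul_inv_rev, inv_eq_of_mul_eq_one_left a2, inv_eq_of_mul_eq_one_left b2] at this
  let Z : Subgroup Y :=
    { carrier := {x | x * x = 1 ∧ Commute x a ∧ Commute x b ∧ ∀ y, Commute y a → Commute y b → Commute x y}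
      one_mem' := ⟨one_mul _, .one_left _, .one_left _, fun _ _ _ => .one_left _⟩
      mul_mem' := fun {x y} hx hy => ⟨by
          rw [(hx.2.2.2 y hy.2.1 hy.2.2.1).symm.mul_mul_mul_comm, hx.1, hy.1, one_mul],
        hx.2.1.mul_left hy.2.1, hx.2.2.1.mul_left hy.2.2.1,
        fun u h h' => (hx.2.2.2 u h h').mul_left (hy.2.2.2 u h h')⟩
      inv_mem' := fun {x} hx => by rwa [inv_eq_of_mul_eq_one_left hx.1] }
  have hZ : IsPGroup 2 Z := fun x => ⟨1, Subtype.ext (by simpa [sq] using x.2.1)⟩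
  obtain ⟨P, hP⟩ := hZ.exists_le_sylow
  obtain ⟨g, rfl⟩ := MulAction.exists_smul_eq Y S P
  have k : ∀ x ∈ Z, x ≠ 1 → g⁻¹ * x * g = d := fun x hx h1 => by
    have := hP hx
    rw [Sylow.coe_subgroup_smul, mem_pointwise_smul_iff_inv_smul_mem] at this
    refine (hS _ (show _ ∈ (S : Subgroup Y) by simpa using this)).resolve_left fun e => h1 ?_
    simpa [mul_assoc] using congrArg (fun u => g * u * g⁻¹) e
  have := (k a ⟨a2, .refl _, c, fun _ h _ => h.symm⟩ ha).trans (k b ⟨b2, c.symm, .refl _, fun _ _ h => h.symm⟩ hb).symm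
  simpa using this

theorem ev1 (i : Fin n) : QS F n (ev i) = 1 := by
  simp [QS_apply, Pi.single_apply]

theorem cent (h2 : (2 : F) ≠ 0) {c : GL (Fin 6) F} (hc : c ∈ isometryGroup F (QS F 6))
    (h : ∀ x ∈ OG F 6, c * x * c⁻¹ = x) : c = 1 ∨ c = -1 := by
  have h1 := (pomInn_eq_one_iff ⟨_, rfl, nd_QS h2⟩ (by simp) (iso_le_GO (QS F 6)) (g := ⟨c, hc⟩)).1
    ((indAut_eq_one_iff omJ_inj _).2 fun s => ⟨1, one_mem _, by
      rw [map_one, mul_one]; exact h _ (omJ_mem s)⟩)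
  refine (iso_mem_ZZ (nd_QS h2) bot_le hc (center_le_ZZ ⊥ h1)).imp id fun e => ?_
  have e' : (GeneralLinearGroup.scalar (Fin 6) (-1 : Fˣ) : GL (Fin 6) F) = -1 :=
    Units.ext (by rw [scalar_val]; simp)
  rw [mem_bot, e', neg_one_mul, neg_eq_iff_eq_neg] at e
  exact e

variable {θ' : L →* GL (Fin 6) F} {g g' : GL (Fin 6) F} {y y' : G}

/-- `y` acts on `L` as `g` -/
def In (θ' : L →* GL (Fin 6) F) (y : G) (g : GL (Fin 6) F) : Prop :=
  ∀ a a' : L, (a' : G) = y * a * y⁻¹ → θ' a' = g * θ' a * g⁻¹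

theorem In.mul [L.Normal] (h : In θ' y g) (h' : In θ' y' g') : In θ' (y * y') (g * g') := fun a a' e => by
  rw [h ⟨y' * a * y'⁻¹, Normal.conj_mem inferInstance _ a.2 _⟩ a' (by rw [e]; simp [mul_assoc]), h' a _ rfl]
  simp [mul_assoc]

theorem In.of (a : L) : In θ' a (θ' a) := fun b b' e => by
  rw [show b' = a * b * a⁻¹ from Subtype.ext e, map_mul, map_mul, map_inv]

/-- the graph of the model -/
def R (ι : M →* G) (θ' : L →* GL (Fin 6) F) (g : GL (Fin 6) F) (y : G) : Prop :=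
  (∃ a : L, θ' a = g ∧ (a : G) = y) ∨ ∃ a : L, θ' a * rf 0 = g ∧ (a : G) * ι (dd 0 6) = y

theorem d2 : ι (dd 0 6) * ι (dd 0 6) = 1 := by rw [← map_mul, dd, a_sq, map_one]

variable (t : Fn ι L (QS F 6) θ' ev)
include t

theorem ind : In θ' (ι (dd 0 6)) (rf 0) := t.one 0

theorem mem (a : L) : θ' a ∈ OG F 6 := t.rng.le ⟨a, rfl⟩

theorem R.mul [L.Normal] (h : R ι θ' g y) (h' : R ι θ' g' y') : R ι θ' (g * g') (y * y') := by
  have r : (rf 0 : GL (Fin 6) F)⁻¹ = rf 0 := reflGL_inv _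
  have d : (ι (dd 0 6))⁻¹ = ι (dd 0 6) := inv_eq_of_mul_eq_one_left d2
  rcases h with ⟨a, rfl, rfl⟩ | ⟨a, rfl, rfl⟩ <;> rcases h' with ⟨b, rfl, rfl⟩ | ⟨b, rfl, rfl⟩
  · exact Or.inl ⟨a * b, map_mul .., rfl⟩
  · exact Or.inr ⟨a * b, by rw [map_mul, mul_assoc], mul_assoc ..⟩
  · refine Or.inr ⟨a * ⟨_, Normal.conj_mem inferInstance _ b.2 (ι (dd 0 6))⟩, ?_, by simp [mul_assoc]⟩
    rw [map_mul, ind t b ⟨ι (dd 0 6) * b * _, _⟩ rfl]; simp only [mul_assoc, inv_mul_cancel, mul_one]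
  · refine Or.inl ⟨a * ⟨_, Normal.conj_mem inferInstance _ b.2 (ι (dd 0 6))⟩, ?_, by simp [mul_assoc, d]⟩
    rw [map_mul, ind t b ⟨ι (dd 0 6) * b * _, _⟩ rfl, r]; simp only [mul_assoc]

theorem R.uniq (h2 : (2 : F) ≠ 0) (h : R ι θ' g y) (h' : R ι θ' g y') : y = y' := by
  have k : ∀ a b : L, θ' a * rf 0 ≠ θ' b := fun a b e => by
    have := congrArg (fun u : GL (Fin 6) F => u.val.det) e
    simp only [Units.val_mul, det_mul, det_OG (mem t _), det_reflGL ((ev1 0).trans_ne one_ne_zero)] at this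
    exact h2 (by linear_combination -this)
  rcases h with ⟨a, rfl, rfl⟩ | ⟨a, rfl, rfl⟩ <;> rcases h' with ⟨b, e, rfl⟩ | ⟨b, e, rfl⟩
  · rw [t.inj e]
  · exact absurd e (k _ _)
  · exact absurd e.symm (k _ _)
  · rw [t.inj (mul_right_cancel e)]

theorem R.rg (h2 : (2 : F) ≠ 0) (h : R ι θ' g y) : g ∈ RG F 6 := by
  refine (mem_RG h2 (by norm_num) 0).2 (h.imp ?_ ?_) <;> rintro ⟨a, rfl, -⟩
  · exact mem t a
  · rw [mul_assoc, rv_sq, mul_one]; exact mem t a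

theorem R.ex (h2 : (2 : F) ≠ 0) (h : g ∈ RG F 6) : ∃ y, R ι θ' g y := by
  rcases (mem_RG h2 (by norm_num) 0).1 h with h | h <;> obtain ⟨a, e⟩ := t.rng.ge h
  · exact ⟨_, Or.inl ⟨a, e, rfl⟩⟩
  · exact ⟨_, Or.inr ⟨a, by rw [e, mul_assoc, rv_sq, mul_one], rfl⟩⟩

variable (l : KD ι π L)
include l

omit t in
theorem nd : ι (dd 0 6) ∉ L := fun h => by
  have := (l.memL _).1 h
  simp [T0, sB, w_06] at this

omit t in
theorem split (x : M) : ι x ∈ L ∨ ι x * ι (dd 0 6) ∈ L := by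
  rw [← map_mul, l.memL, l.memL]
  rcases Int.units_eq_one_or (Equiv.Perm.sign (w x).s) with h | h
  · exact Or.inl h
  · exact Or.inr (by simp [T0, sB, w_06, h])

omit t in
theorem zL : ι z ∈ L := (l.memL _).2 (by simp [T0, sB, w_z])

theorem In.mem (h : In θ' y g) (hg : g ∈ OG F 6) : y ∈ L := by
  have := l.nrm
  obtain ⟨a, rfl⟩ := t.rng.ge hg
  have c := l.cen (y * (a : G)⁻¹) fun b hb => by
    have := (h.mul (In.of a⁻¹)) ⟨b, hb⟩ ⟨_, Normal.conj_mem inferInstance _ hb _⟩ rfl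
    rw [← map_mul, mul_inv_cancel, map_one, one_mul, inv_one, mul_one] at this
    exact (mul_inv_eq_one.2 (congrArg Subtype.val (t.inj this))).symm ▸ one_mem _
  simpa using L.mul_mem (zpowers_le.2 (zL l) c) a.2

theorem neg (h2 : (2 : F) ≠ 0) : R ι θ' (-(rf 0 : GL (Fin 6) F)) (ι (tt 0)) := by
  refine Or.inr ⟨⟨_, zL l⟩, ?_, by rw [← map_mul]; exact congrArg ι (by decide +kernel)⟩
  rcases t.zz ⟨_, zL l⟩ rfl with h | h
  · exact absurd (congrArg Subtype.val (t.inj (h.trans (map_one _).symm))) (l.sy.ne (by decide +kernel))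
  · rw [h, neg_one_mul]

theorem key (h2 : (2 : F) ≠ 0) {s : GamL (Fin 6) F} (hs : s ∈ GS F 6)
    (h : ∀ a a' : L, (a' : G) = y * a * y⁻¹ → θ' a' = ga s (θ' a)) :
    R ι θ' (ga s (rf 0)) (y * ι (dd 0 6) * y⁻¹) := by
  have := l.nrm
  have cj : ∀ (u : G) (a : L), u * a * u⁻¹ ∈ L := fun u a => Normal.conj_mem inferInstance _ a.2 u
  have i1 : In θ' (y * ι (dd 0 6) * y⁻¹) (ga s (rf 0)) := fun a a' e => by
    have e1 := h ⟨_, cj y⁻¹ a⟩ a (by simp [mul_assoc])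
    rw [h ⟨_, cj (ι (dd 0 6)) ⟨_, cj y⁻¹ a⟩⟩ a' (by rw [e]; simp [mul_assoc]), ind t _ _ rfl, ga, map_mul,
      map_mul, map_inv, e1]
  rw [ga_rv hs] at i1 ⊢
  have hw : QS F 6 (gact s (ev 0)) ≠ 0 := by
    obtain ⟨c, hc⟩ := hs
    rw [hc, ev1]; simp
  generalize gact s (ev 0) = v at *
  have i2 := i1.mul (ind t)
  have i0 : Iso (rf 0 : GL (Fin 6) F) := H12.mem_isometryGroup.1 (reflGL_mem _)
  have sq : rv v * rf 0 * (rv v * rf 0) ∈ OG F 6 := by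
    have e := i0.conj v
    rw [reflGL_inv] at e
    rw [mul_assoc, ← mul_assoc (rf 0), e, rr_mem h2 (by norm_num) hw (by rwa [i0]), i0]
    exact ⟨_, rfl⟩
  have u2 := (i2.mul i2).mem t l sq
  have u1 : y * ι (dd 0 6) * y⁻¹ * ι (dd 0 6) ∈ L := by
    let S : Sylow 2 G := ⟨ι.range, l.sy.syl.isP, fun hQ hle => l.sy.syl.max _ hle le_top hQ⟩
    have d2' : (ι (dd 0 6) : G ⧸ L) * ι (dd 0 6) = 1 := by rw [← QuotientGroup.mk_mul, d2]; rfl
    have := two_eq (S.mapSurjective (QuotientGroup.mk'_surjective L)) (d := ι (dd 0 6))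
      (a := (y * ι (dd 0 6) * y⁻¹ : G)) (b := ι (dd 0 6)) (by
        rintro _ ⟨_, ⟨x, rfl⟩, rfl⟩
        refine (split l x).imp (QuotientGroup.eq_one_iff _).2 fun e => ?_
        have := (QuotientGroup.eq_one_iff _).2 e
        rw [QuotientGroup.mk_mul, ← d2'] at this
        exact mul_right_cancel this)
      (fun e => nd l (by simpa [mul_assoc] using cj y⁻¹ ⟨_, (QuotientGroup.eq_one_iff _).1 e⟩))
      (fun e => nd l ((QuotientGroup.eq_one_iff _).1 e))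
      (by rw [← QuotientGroup.mk_mul, conj_mul, d2]; simp) d2' ((QuotientGroup.eq_one_iff _).2 u2)
    rw [← QuotientGroup.eq_one_iff, QuotientGroup.mk_mul, this, d2']
  have r1 : R ι θ' (θ' ⟨_, u1⟩ * rf 0) (y * ι (dd 0 6) * y⁻¹) :=
    Or.inr ⟨_, rfl, by rw [mul_assoc, d2, mul_one]⟩
  have c := cent h2 (c := θ' (⟨_, u1⟩ : L)⁻¹ * (rv v * rf 0))
    (mul_mem (omega_le_iso _ (mem t _)) (mul_mem (reflGL_mem _) (reflGL_mem _))) fun x hx => by
      obtain ⟨a, rfl⟩ := t.rng.ge hx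
      exact (((In.of (⟨_, u1⟩ : L)⁻¹).mul i2) a a (by simp [mul_assoc])).symm
  rw [map_inv, inv_mul_eq_iff_eq_mul, inv_mul_eq_iff_eq_mul, mul_one, mul_neg, mul_one] at c
  rcases c with c | c
  · rwa [← c, mul_assoc, rv_sq, mul_one] at r1
  exfalso
  have m : rv v * rf 0 ∈ OG F 6 := by
    rw [c, ← neg_one_mul]; exact mul_mem (neg_OG h2) (mem t _)
  rw [← neg_eq_iff_eq_neg] at c
  rw [← c, neg_mul, mul_assoc, rv_sq, mul_one] at r1
  obtain ⟨b, hb⟩ := (rr_mem h2 (by norm_num) hw ((ev1 0).trans_ne one_ne_zero)).1 m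
  rw [ev1, mul_one] at hb
  have b0 : b ≠ 0 := fun e => hw (by rw [hb, e, mul_zero])
  obtain ⟨k, hk, e⟩ := wit h2 (n := 6) (by norm_num) (k := 1) (by norm_num) (fun _ => 1) (fun _ => one_ne_zero)
    (fun _ => b⁻¹ • v) (fun _ => ev 0)
    (fun i j => by
      rw [← QS_dot, QuadraticMap.map_smul, hb, if_pos (Subsingleton.elim _ _), smul_eq_mul]; field_simp)
    fun i j => by rw [← QS_dot, ev1, if_pos (Subsingleton.elim _ _)]
  have e1 := Iso.conj (H12.mem_isometryGroup.1 (omega_le_iso _ hk)) (b⁻¹ • v)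
  rw [e 0, rv_smul (inv_ne_zero b0)] at e1
  obtain ⟨a, rfl⟩ := t.rng.ge hk
  have r2 := (R.mul t (Or.inl ⟨a, rfl, rfl⟩) r1).mul t (Or.inl ⟨a⁻¹, rfl, rfl⟩)
  rw [map_inv, mul_neg, neg_mul, e1] at r2
  have e2 := r2.uniq t h2 (neg t l h2)
  obtain ⟨k, -, -, p, -⟩ := l.toFr.fu_d 0 (by decide)
  obtain ⟨i, -, e3⟩ := l.iso _ (Fu.trans ⟨_, p⟩ ⟨a * y, show Cj ι _ _ (tt 0) from by
    rw [Cj, ← e2]; simp [mul_assoc]⟩)
  revert i
  decide +kernel

end FRE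

open FRE in
theorem fre (l : KD ι π L) (q : Q8 F) {θ' : L →* GL (Fin 6) F} (t : Fn ι L (QS F 6) θ' ev) : ∃ ψ, OM ⊤ ι F ψ := by
  classical
  have := l.nrm
  have h2 := q.two
  let ψ : GL (Fin 6) F → G := fun g => if h : ∃ y, R ι θ' g y then h.choose else 1
  have h1 : ∀ {g y}, R ι θ' g y → ψ g = y := fun {g y} h => by
    have e : ∃ y, R ι θ' g y := ⟨y, h⟩
    exact (dif_pos e).trans (e.choose_spec.uniq t h2 h)
  have h0 : ∀ {g}, g ∈ RG F 6 → R ι θ' g (ψ g) := fun h => (R.ex t h2 h).elim fun _ e => h1 e ▸ e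
  refine ⟨ψ, q, fun g hg g' hg' => h1 ((h0 hg).mul t (h0 hg')), fun g hg e => ?_, fun _ _ => trivial, fun i => ?_,
    fun x => ?_, fun y _ => ?_, fun y _ h => ?_⟩
  · have r := h0 hg
    rw [e] at r
    clear e
    rcases r with ⟨a, rfl, e⟩ | ⟨a, -, e⟩
    · rw [show a = 1 from Subtype.ext e, map_one]
    · exact absurd (eq_inv_of_mul_eq_one_right e ▸ L.inv_mem a.2) (nd l)
  · have e : ∀ i : Fin 6, dd i.castSucc 0 * dd 0 6 = dd i.castSucc 6 ∧
      Equiv.Perm.sign (w (dd i.castSucc 0)).s = 1 := by decide +kernel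
    refine h1 (Or.inr ⟨⟨ι (dd i.castSucc 0), (l.memL _).2 (e i).2⟩, ?_, by rw [← map_mul, (e i).1]⟩)
    rw [t.two i 0 _ rfl, mul_assoc, rv_sq, mul_one]
  · obtain ⟨g, r⟩ : ∃ g, R ι θ' g (ι x) := (split l x).elim (fun h => ⟨_, Or.inl ⟨⟨_, h⟩, rfl, rfl⟩⟩)
      fun h => ⟨_, Or.inr ⟨⟨_, h⟩, rfl, by rw [mul_assoc, d2, mul_one]⟩⟩
    exact ⟨g, r.rg t h2, h1 r⟩
  · obtain ⟨s, hs, h⟩ := t.act y
    refine ⟨s, hs, fun g hg => ?_⟩
    have k : ∀ a : L, R ι θ' (ga s (θ' a)) (y * a * y⁻¹) := fun a =>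
      Or.inl ⟨⟨_, Normal.conj_mem inferInstance _ a.2 y⟩, h _ _ rfl, rfl⟩
    have r : R ι θ' (ga s g) (y * ψ g * y⁻¹) := by
      rcases h0 hg with ⟨a, e, e'⟩ | ⟨a, e, e'⟩ <;> rw [← e', ← e]
      · exact k a
      · rw [← conj_mul, ga, map_mul]
        exact (k a).mul t (key t l h2 hs h)
    exact ⟨r.rg t h2, (h1 r).symm⟩
  · obtain ⟨k, rfl⟩ := l.cen y fun b hb => by
      have r : R ι θ' (θ' ⟨b, hb⟩) b := Or.inl ⟨_, rfl, rfl⟩
      have := h _ (r.rg t h2)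
      rw [h1 r] at this
      simp [this]
    have z2 : ι z * ι z = 1 := by rw [← map_mul]; exact (congrArg ι (by decide +kernel)).trans (map_one ι)
    have z2' : ι z ^ (2 : ℤ) = 1 := by rw [zpow_two, z2]
    rcases Int.even_or_odd' k with ⟨j, rfl | rfl⟩
    · exact Or.inl (by simp only [_root_.zpow_mul, z2', _root_.one_zpow])
    · exact Or.inr (by simp only [_root_.zpow_add, _root_.zpow_mul, z2', _root_.one_zpow, one_mul, zpow_one])

end H24.T12
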