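import Cfsg.Agent.Lib.A12.Defs2
import Cfsg.Agent.Lib.A12.BAS
/-! Package NFZ of `blueprint/A12/README.md`. -/
set_option autoImplicit false
namespace H24.T12
open Subgroup H1.A10 H45 H69 Gold Cfsg

variable {G : Type} [Group G] [Finite G] {ι : M →* G} {π : G → B} {g k : G}

namespace NFZ

theorem sq : ∀ x ∈ FF, x ≠ z → x ∈ R1 → ∃ y, y * y = x := by decide +kernel

theorem three : ∀ x ∈ FF, x ∉ R1 → m 16 0 * x * (m 16 0)⁻¹ ≠ x ∧ sg * x * sg⁻¹ ≠ x ∧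
    m 16 2 * x * (m 16 2)⁻¹ ≠ x ∧
    m 16 0 * x * (m 16 0)⁻¹ * (sg * x * sg⁻¹) * (m 16 2 * x * (m 16 2)⁻¹) = x := by decide +kernel

theorem par {x y t : M} (hx : x ∉ R1) (hy : y ∉ R1) (ht : t ∉ R1) : x * y * t ∉ R1 :=
  (by decide +kernel : ∀ σ τ ρ : P, ¬ bt σ.n 2 = 0 → ¬ bt τ.n 2 = 0 → ¬ bt ρ.n 2 = 0 → ¬ bt (σ * τ * ρ).n 2 = 0)
    x.s y.s t.s hx hy ht

theorem out (s : Sy ι) {x : M} (hx : x ∈ FF) (ne : x ≠ z) (h : Fu ι x z) : x ∉ R1 := fun k => by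
  obtain ⟨y, rfl⟩ := sq x hx ne k
  exact nsq s y h

end NFZ

theorem nf_z (s : Sy ι) (hg : g ∈ NF ι) : Cj ι g z z := by
  obtain ⟨x, hx, p⟩ := img hg (show z ∈ FF by decide)
  by_contra n
  have ne : x ≠ z := fun e => n (e ▸ p)
  obtain ⟨n1, n2, n3, e⟩ := NFZ.three x hx (NFZ.out s hx ne ⟨_, p.symm⟩)
  have key : ∀ t : M, t * x * t⁻¹ ≠ x → ∃ y, y ∉ R1 ∧ Cj ι g⁻¹ (t * x * t⁻¹) y := fun t nt => by
    obtain ⟨y, hy, q⟩ := img (inv_mem hg) (Normal.conj_mem inferInstance x hx t)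
    exact ⟨y, NFZ.out s hy (s.ne' q p.symm nt) ⟨_, (q.symm.comp (Cj.of t x).symm).comp p.symm⟩, q⟩
  obtain ⟨y1, h1, q1⟩ := key _ n1
  obtain ⟨y2, h2, q2⟩ := key _ n2
  obtain ⟨y3, h3, q3⟩ := key _ n3
  exact NFZ.par h1 h2 h3 (s.eq' ((q1.mul q2).mul q3) p.symm e ▸ (by decide : z ∈ R1))

end H24.T12
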