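import Cfsg.Agent.Lib.A12.Defs2
import Cfsg.Agent.Lib.A12.NFZ
/-! Package FRM1 of `blueprint/A12/README.md`. -/
set_option autoImplicit false
namespace H24.T12
open Subgroup H1.A10 H45 H69 Gold Cfsg

variable {G : Type} [Group G] [Finite G] {ι : M →* G} {π : G → B} {g k : G}

namespace FRM1

/-- the change of coordinates on `FF` -/
def tw (ε δ : Bool) (x : M) : M :=
  x * (if ε = true ∧ bt x.s.n 0 = 1 then z2 else 1) * (if δ = true ∧ bt x.s.n 2 = 1 then z else 1)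

/-- `x` is fused to `z2` in the normaliser of `FF` -/
def Dn (ι : M →* G) (x : M) : Prop := ∃ g ∈ NF ι, Cj ι g z2 x

theorem tw_tw : ∀ ε δ x, tw ε δ (tw ε δ x) = x := by decide +kernel
theorem tw_mem : ∀ ε δ, ∀ x ∈ FF, tw ε δ x ∈ FF := by decide +kernel
theorem tw_mul : ∀ ε δ, ∀ x ∈ FF, ∀ y ∈ FF, tw ε δ (x * y) = tw ε δ x * tw ε δ y := by decide +kernel
theorem tw_one : ∀ ε δ, tw ε δ 1 = 1 := by decide +kernel
theorem tw_01 : ∀ ε δ, w (tw ε δ (dd 0 1)) = e 0 1 := by decide +kernel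
theorem tw_sw : ∀ ε δ, ∀ x ∈ FF, w (tw ε δ (dd 0 6 * x * (dd 0 6)⁻¹)) =
    bl (Equiv.swap 0 1) * w (tw ε δ x) * (bl (Equiv.swap 0 1))⁻¹ := by decide +kernel
theorem tw_cl : ∀ ε δ, ∀ x ∈ FF, wt (w (tw ε δ x)) = 2 → ∃ t, t * dd 0 1 * t⁻¹ = x ∨ t * z2 * t⁻¹ = x ∨
    t * (if ε = true then c * z else c) * t⁻¹ = x ∨ t * (if δ = true then tau * z else tau) * t⁻¹ = x := by
  decide +kernel
theorem tw_or : ∀ ε δ, ∀ x ∈ FF, wt (w (tw ε δ x)) = 2 ∨ wt (w (tw ε δ (x * z))) = 2 ∨ x = 1 ∨ x = z := by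
  decide +kernel
theorem ex_e : ∀ j, ∃ x ∈ FF, w x = e 0 j := by decide +kernel
theorem in_U : ∀ y ∈ EE, y ∈ FF → y ≠ 1 → y ≠ z → (y = dd 0 1 ∨ y = dd 2 3 ∨ y = z2) ∨
    (y * z = dd 0 1 ∨ y * z = dd 2 3 ∨ y * z = z2) := by decide +kernel
theorem cm45 : ∀ x ∈ FF, ∀ u, a u * x * a u * x = dd 4 5 → bt x.s.n 2 = 1 := by decide +kernel
theorem to_tau : ∀ x ∈ FF, bt x.s.n 2 = 1 → ∃ t, t * x * t⁻¹ = tau ∨ t * x * t⁻¹ = tau * z := by decide +kernel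
theorem adj : ∀ a b c d : I, wt (e a b * e c d) = 2 → a ≠ b → c ≠ d →
    ∃ o p q, e a b = e o p ∧ e c d = e o q := by decide +kernel
theorem adj3 : ∀ o p q c d : I, wt (e o p * e c d) = 2 → wt (e o q * e c d) = 2 → wt (e o p * e o q) = 2 →
    wt (e o p) = 2 → wt (e o q) = 2 → e o p * e o q ≠ e c d → ∃ r, e c d = e o r := by decide +kernel
theorem e_one : ∀ o p : I, 1 = e o p → p = o := by decide +kernel
theorem e12 : ∀ j : I, e 0 1 * e 0 2 ≠ e 0 j := by decide +kernel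
theorem j012 : ∀ j : I, j = 0 ∨ j = 1 ∨ j = 2 ∨ (0 ≠ j ∧ 1 ≠ j ∧ 2 ≠ j) := by decide

theorem star {X : I → B} (hs : ∀ j, (X j).s = 1) (h0 : X 0 = 1) (h : ∀ i j, i ≠ j → wt (X i * X j) = 2)
    (h3 : ∀ j, X 1 * X 2 ≠ X j) : ∃ σ : Equiv.Perm I, ∀ j, X j = e (σ 0) (σ j) := by
  have h1 : ∀ j, 0 ≠ j → wt (X j) = 2 := fun j n => by simpa [h0] using h 0 j n
  obtain ⟨a, b, n1, e1⟩ := exists_e (hs 1) (h1 1 (by decide))
  obtain ⟨c, d, n2, e2⟩ := exists_e (hs 2) (h1 2 (by decide))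
  obtain ⟨o, p, q, e3, e4⟩ := adj a b c d (e1 ▸ e2 ▸ h 1 2 (by decide)) n1 n2
  rw [← e1] at e3
  rw [← e2] at e4
  have : ∀ j, ∃ r, X j = e o r := fun j => by
    rcases j012 j with rfl | rfl | rfl | ⟨j0, j1, j2⟩
    · exact ⟨o, h0.trans (e_self o).symm⟩
    · exact ⟨p, e3⟩
    · exact ⟨q, e4⟩
    · obtain ⟨c', d', -, e5⟩ := exists_e (hs j) (h1 j j0)
      rw [e5]
      exact adj3 o p q c' d' (e3 ▸ e5 ▸ h 1 j j1) (e4 ▸ e5 ▸ h 2 j j2) (e3 ▸ e4 ▸ h 1 2 (by decide))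
        (e3 ▸ h1 1 (by decide)) (e4 ▸ h1 2 (by decide)) (e3 ▸ e4 ▸ e5 ▸ h3 j)
  choose f hf using this
  have hi : Function.Injective f := fun i j k => by
    by_contra n
    have := h i j n
    rw [hf i, hf j, k, sq_of_s (e_s _ _), wt_one] at this
    exact absurd this (by decide)
  refine ⟨Equiv.ofBijective f (Finite.injective_iff_bijective.1 hi), fun j => ?_⟩
  rw [Equiv.ofBijective_apply, Equiv.ofBijective_apply, e_one o (f 0) (h0.symm.trans (hf 0)), hf j]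

variable {x y : M} {β : M → B} {σ τ : Equiv.Perm I}

theorem Dn.cj (h : Dn ι x) (hg : g ∈ NF ι) (p : Cj ι g x y) : Dn ι y :=
  let ⟨_, h1, h2⟩ := h; ⟨_, mul_mem hg h1, h2.comp p⟩

theorem Dn.of (h : Dn ι x) {t : M} (e : t * x * t⁻¹ = y) : Dn ι y := h.cj (mem_NF t) (Cj.of' e)

theorem dn_z2 : Dn ι z2 := ⟨1, one_mem _, Cj.refl _⟩

theorem Dn.not (s : Sy ι) (h : Dn ι x) : ¬ Dn ι (x * z) := fun h' => by
  obtain ⟨g, hg, p⟩ := h
  obtain ⟨g', -, p'⟩ := h'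
  exact nf24 s ⟨_, p'.comp ((p.symm.mul (nf_z s (inv_mem hg))).congr rfl (by decide))⟩

theorem or_cj (s : Sy ι) (h : Dn ι x ∨ Dn ι (x * z)) (hg : g ∈ NF ι) (p : Cj ι g x y) :
    Dn ι y ∨ Dn ι (y * z) := h.imp (fun h => h.cj hg p) fun h => h.cj hg (p.mul (nf_z s hg))

theorem af_mul (h : AF ι β g σ) (h' : AF ι β k τ) : AF ι β (g * k) (σ * τ) := fun x hx => by
  obtain ⟨y, hy, p, e⟩ := h' x hx
  obtain ⟨y', hy', p', e'⟩ := h y hy
  exact ⟨y', hy', p.comp p', by rw [e', e, bl_mul]; group⟩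

theorem af_inv (s : Sy ι) (hg : g ∈ NF ι) (h : AF ι β g σ) : AF ι β g⁻¹ σ⁻¹ := fun y hy => by
  obtain ⟨x, hx, p⟩ := img (inv_mem hg) hy
  obtain ⟨y', -, p', e⟩ := h x hx
  obtain rfl := s.left p p'.symm
  exact ⟨x, hx, p, by rw [e, bl_inv]; group⟩

theorem eqns : True := by
  have := @tw.eq_1
  have := @Dn.eq_1
  trivial

end FRM1

open FRM1

theorem frm1 (s : Sy ι) (h2 : X2 ι k) (h3 : ∃ g ∈ NF ι, ∃ y ∈ EE, Cj ι g c y) : ∃ β, S6 ι β := by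
  have d01 : Dn ι (dd 0 1) := dn_z2.cj h2.nf (dd45 ▸ h2.c2)
  have d23 : Dn ι (dd 2 3) := d01.cj h2.nf h2.c0
  have cF : c ∈ FF := by decide
  have dc : Dn ι c ∨ Dn ι (c * z) := by
    obtain ⟨g, hg, y, hy, p⟩ := h3
    refine or_cj s ?_ (inv_mem hg) p.symm
    have : ∀ x, x = dd 0 1 ∨ x = dd 2 3 ∨ x = z2 → Dn ι x := by
      rintro _ (rfl | rfl | rfl)
      exacts [d01, d23, dn_z2]
    exact (in_U y hy ((s.back hg p).1 cF) (s.ne1 p (by decide)) (s.ne' p (nf_z s hg) (by decide))).imp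
      (this _) (this _)
  have dt : Dn ι tau ∨ Dn ι (tau * z) := by
    obtain ⟨c', hc', p⟩ := img h2.nf cF
    obtain ⟨y, hy, q⟩ := img h2.ne (a_EE (d 2))
    have e1 := s.eq' (((q.mul p).mul q).mul p) h2.c1 (by decide)
    rw [eq_a (mem_EE.1 hy)] at e1
    obtain ⟨t, ht | ht⟩ := to_tau c' hc' (cm45 c' hc' _ e1)
    · exact or_cj s (or_cj s dc h2.nf p) (mem_NF t) (Cj.of' ht)
    · have := or_cj s (or_cj s dc h2.nf p) (mem_NF t) (Cj.of' ht)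
      rw [show tau * z * z = tau by decide] at this
      exact this.symm
  obtain ⟨ε, hε⟩ : ∃ ε : Bool, Dn ι (if ε = true then c * z else c) :=
    dc.elim (fun h => ⟨false, h⟩) fun h => ⟨true, h⟩
  obtain ⟨δ, hδ⟩ : ∃ δ : Bool, Dn ι (if δ = true then tau * z else tau) :=
    dt.elim (fun h => ⟨false, h⟩) fun h => ⟨true, h⟩
  have D1 : ∀ x ∈ FF, wt (w (tw ε δ x)) = 2 → Dn ι x := fun x hx h => by
    obtain ⟨t, e | e | e | e⟩ := tw_cl ε δ x hx h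
    exacts [d01.of e, dn_z2.of e, hε.of e, hδ.of e]
  have D2 : ∀ x ∈ FF, Dn ι x → wt (w (tw ε δ x)) = 2 := fun x hx h => by
    rcases tw_or ε δ x hx with e | e | rfl | rfl
    · exact e
    · exact (h.not s (D1 _ (mul_mem hx (by decide)) e)).elim
    · obtain ⟨g, -, p⟩ := h
      exact (s.ne1 p (by decide) rfl).elim
    · obtain ⟨g, -, p⟩ := h
      exact (nf2 s ⟨g, p⟩).elim
  have mul : ∀ x ∈ FF, ∀ y ∈ FF, w (tw ε δ (x * y)) = w (tw ε δ x) * w (tw ε δ y) := fun x hx y hy => by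
    rw [tw_mul ε δ x hx y hy, map_mul]
  have inj : ∀ x y, w (tw ε δ x) = w (tw ε δ y) → x = y := fun x y e => by
    rw [← tw_tw ε δ x, w_inj e, tw_tw]
  have one : w (tw ε δ 1) = 1 := by rw [tw_one, map_one]
  have mem : ∀ x ∈ FF, w (tw ε δ x) ∈ FB := fun x hx => ⟨w_W _, (w_FF _).1 (tw_mem ε δ x hx)⟩
  have sur : ∀ b ∈ FB, ∃ x ∈ FF, w (tw ε δ x) = b := fun b hb => by
    obtain ⟨x, hx, rfl⟩ := FB_ind (K := FF.map w) ex_e hb
    exact ⟨_, tw_mem ε δ x hx, by rw [tw_tw]⟩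
  have act : ∀ g ∈ NF ι, ∃ σ, AF ι (fun x => w (tw ε δ x)) g σ := fun g hg => by
    choose r r1 r2 using fun j => sur _ (e_FB 0 j)
    choose f f1 f2 using fun j => img hg (r1 j)
    obtain ⟨σ, hσ⟩ := star (X := fun j => w (tw ε δ (f j))) (fun j => (mem _ (f1 j)).2)
      (by
        have := s.eq' (f2 0) (Cj.one g) (inj _ _ ((r2 0).trans ((e_self 0).trans one.symm)))
        simp only [this, one])
      (fun i j n => by
        rw [← mul _ (f1 i) _ (f1 j)]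
        refine D2 _ (mul_mem (f1 i) (f1 j)) ((D1 _ (mul_mem (r1 i) (r1 j)) ?_).cj hg ((f2 i).mul (f2 j)))
        rw [mul _ (r1 i) _ (r1 j), r2, r2, e_symm 0 i, e_mul, wt_e i j n])
      (fun j e => by
        simp only [← mul _ (f1 1) _ (f1 2)] at e
        have := s.left ((f2 1).mul (f2 2)) (inj _ _ e ▸ f2 j)
        exact e12 j (by rw [← r2, ← r2, ← mul _ (r1 1) _ (r1 2), this, r2]))
    let K : Subgroup B :=
      { carrier := {b | ∃ x ∈ FF, w (tw ε δ x) = b ∧ ∃ y ∈ FF, Cj ι g x y ∧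
          w (tw ε δ y) = bl σ * b * (bl σ)⁻¹}
        one_mem' := ⟨1, one_mem _, one, 1, one_mem _, Cj.one g, by rw [one, mul_one, mul_inv_cancel]⟩
        mul_mem' := by
          rintro _ _ ⟨x, hx, rfl, y, hy, p, e⟩ ⟨x', hx', rfl, y', hy', p', e'⟩
          exact ⟨_, mul_mem hx hx', mul _ hx _ hx', _, mul_mem hy hy', p.mul p', by
            rw [mul _ hy _ hy', e, e', conj_mul]⟩
        inv_mem' := by
          rintro _ ⟨x, hx, rfl, h⟩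
          rw [inv_eq_of_mul_eq_one_right (sq_of_s (mem x hx).2)]
          exact ⟨x, hx, rfl, h⟩ }
    refine ⟨σ, fun x hx => ?_⟩
    obtain ⟨x', -, e, h⟩ := FB_ind (K := K)
      (fun j => ⟨_, r1 j, r2 j, _, f1 j, f2 j, (hσ j).trans (conj_e (bl σ) 0 j).symm⟩) (mem x hx)
    obtain rfl := inj _ _ e
    exact h
  refine ⟨fun x => w (tw ε δ x), mul, fun x _ e => inj _ _ (e.trans one.symm), mem, sur, act, fun σ => ?_⟩
  induction σ using Equiv.Perm.swap_induction_on with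
  | one => exact ⟨1, one_mem _, fun x hx => ⟨x, hx, Cj.refl x, by rw [bl_one, one_mul, inv_one, mul_one]⟩⟩
  | swap_mul σ i j n ih =>
    obtain ⟨g, hg, h⟩ := ih
    obtain ⟨x, hx, e1⟩ := sur _ (e_FB i j)
    obtain ⟨g1, h1, p1⟩ := D1 x hx (e1 ▸ wt_e i j n)
    obtain ⟨g2, h2', p2⟩ := d01
    have hk := mul_mem h1 (inv_mem h2')
    obtain ⟨ρ, hρ⟩ := act _ hk
    obtain ⟨y, -, p, e2⟩ := hρ (dd 0 1) (by decide)
    obtain rfl := s.right p (p2.symm.comp p1)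
    simp only [e1, tw_01, conj_e, bl_s] at e2
    have e3 : Equiv.swap i j = ρ * Equiv.swap 0 1 * ρ⁻¹ := by
      rw [← Equiv.swap_apply_apply]
      rcases e_inj _ _ _ _ n e2 with ⟨rfl, rfl⟩ | ⟨rfl, rfl⟩
      exacts [rfl, Equiv.swap_comm _ _]
    have hs : AF ι (fun x => w (tw ε δ x)) (ι (dd 0 6)) (Equiv.swap 0 1) := fun x hx =>
      ⟨_, Normal.conj_mem inferInstance x hx _, Cj.of _ x, tw_sw ε δ x hx⟩
    exact ⟨_, mul_mem (mul_mem (mul_mem hk (mem_NF _)) (inv_mem hk)) hg,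
      e3 ▸ af_mul (af_mul (af_mul hρ hs) (af_inv s hk hρ)) h⟩

end H24.T12
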