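import Cfsg.Agent.Lib.A12.Defs2
import Cfsg.Agent.Lib.Core.CrossedHom
/-! Package FRM2 of `blueprint/A12/README.md`. -/
set_option autoImplicit false
namespace H24.T12
open Subgroup H1.A10 H45 H69 Gold Cfsg

variable {G : Type} [Group G] [Finite G] {ι : M →* G} {π : G → B} {g k : G}

namespace H52F2

omit [Finite G] in
theorem af_uniq (s : Sy ι) {β : M → B} (h : S6 ι β) {σ τ : Equiv.Perm I} (a : AF ι β g σ) (b : AF ι β g τ) :
    σ = τ := by
  have key : ((bl τ)⁻¹ * bl σ).s = 1 := cent_FB fun i j => by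
    obtain ⟨x, hx, ex⟩ := h.sur _ (e_FB i j)
    obtain ⟨y, -, c1, e1⟩ := a x hx
    obtain ⟨y', -, c2, e2⟩ := b x hx
    have := (e1.symm.trans (congrArg β (s.right c1 c2))).trans e2
    rw [ex] at this
    calc (bl τ)⁻¹ * bl σ * e i j = (bl τ)⁻¹ * (bl σ * e i j * (bl σ)⁻¹) * bl σ := by group
      _ = e i j * ((bl τ)⁻¹ * bl σ) := by rw [this]; group
  simp only [mul_s, inv_s, bl_s] at key
  exact (inv_mul_eq_one.1 key).symm

omit [Finite G] in
theorem af_mul {β : M → B} {σ τ : Equiv.Perm I} (a : AF ι β g σ) (b : AF ι β k τ) :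
    AF ι β (g * k) (σ * τ) := fun x hx => by
  obtain ⟨y, hy, c1, e1⟩ := b x hx
  obtain ⟨y', hy', c2, e2⟩ := a y hy
  exact ⟨y', hy', c1.comp c2, by rw [e2, e1, bl_mul]; group⟩

theorem FB_le : FB ≤ FF.map w := FB_ind fun j =>
  (by decide +kernel : ∀ j : I, ∃ x : M, x ∈ FF ∧ wV x.f * wP x.s = e 0 j) j

theorem fp_ex (t : M) : ∃ u ∈ FF, w u = w t * (bl (w t).s)⁻¹ :=
  FB_le ⟨W.mul_mem (w_W t) (W.inv_mem (bl_W _)), show (w t * (bl (w t).s)⁻¹).s = 1 by simp⟩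

theorem fp_spec : ∃ fp : M → M, (∀ t, fp t ∈ FF) ∧ (∀ t ∈ FF, fp t = t) ∧
    ∀ t t', fp (t * t') = fp t * (t * fp t' * t⁻¹) := by
  choose fp h1 h2 using fp_ex
  refine ⟨fp, h1, fun t ht => w_inj ?_, fun t t' => w_inj ?_⟩
  · rw [h2, (w_FF t).1 ht, bl_one, inv_one, mul_one]
  · have e1 : w t = w (fp t) * bl (w t).s := by rw [h2]; group
    have hc : w (fp t) * (bl (w t).s * w (fp t') * (bl (w t).s)⁻¹) =
        (bl (w t).s * w (fp t') * (bl (w t).s)⁻¹) * w (fp t) :=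
      comm_of_s ((w_FF _).1 (h1 t)) (by simp [(w_FF _).1 (h1 t')])
    have e2 : w t * w (fp t') * (w t)⁻¹ = bl (w t).s * w (fp t') * (bl (w t).s)⁻¹ := by
      calc w t * w (fp t') * (w t)⁻¹
          = w (fp t) * (bl (w t).s * w (fp t') * (bl (w t).s)⁻¹) * (w (fp t))⁻¹ := by
            conv_lhs => rw [e1]
            group
        _ = _ := by rw [hc]; group
    rw [map_mul w (fp t), map_mul w _ t⁻¹, map_mul w t, map_inv, e2, h2, h2, h2, map_mul, mul_s, bl_mul]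
    group

theorem cent_FF : ∀ x : M, x * c = c * x → x * tau = tau * x → x * dd 0 1 = dd 0 1 * x → x ∈ FF := by
  decide +kernel

end H52F2
open H52F2

theorem frm2 (s : Sy ι) {β : M → B} (h : S6 ι β) : ∃ π, Pr (NF ι) π ∧ ∀ x ∈ FF, π (ι x) = β x := by
  classical
  choose! σ hσ using h.act
  have σmul : ∀ g ∈ NF ι, ∀ k ∈ NF ι, σ (g * k) = σ g * σ k := fun g hg k hk =>
    af_uniq s h (hσ _ (mul_mem hg hk)) (af_mul (hσ g hg) (hσ k hk))
  have hβ : ∀ g ∈ NF ι, ∀ x ∈ FF, ∀ y, Cj ι g x y → β y = bl (σ g) * β x * (bl (σ g))⁻¹ :=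
    fun g hg x hx y p => by
      obtain ⟨y', -, c1, e1⟩ := hσ g hg x hx
      rw [s.right p c1, e1]
  let σh : NF ι →* B := MonoidHom.mk' (fun g => bl (σ g)) fun g k => by
    rw [← bl_mul, ← σmul _ g.2 _ k.2]; rfl
  let _ : CommGroup FB :=
    { (inferInstance : Group FB) with mul_comm := fun a b => Subtype.ext (comm_of_s a.2.2 b.2.2) }
  let φ : NF ι →* MulAut FB := (MulAut.conjNormal (H := FB)).comp σh
  have φc : ∀ (g : NF ι) (b : FB), (φ g b : B) = bl (σ g) * b * (bl (σ g))⁻¹ := fun g b => rfl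
  obtain ⟨fp, f1, f2, f3⟩ := fp_spec
  let U : Subgroup (NF ι) := ι.range.subgroupOf (NF ι)
  let f : NF ι → FB := fun g => ⟨β (fp (Function.invFun ι g)), h.mem _ (f1 _)⟩
  have fι : ∀ (t : M) (g : NF ι), (g : G) = ι t → (f g : B) = β (fp t) := fun t g e => by
    show β (fp (Function.invFun ι g)) = _
    rw [e, Function.leftInverse_invFun s.inj t]
  have hf : ∀ g ∈ U, ∀ k ∈ U, f (g * k) = f g * φ g (f k) := by
    rintro g ⟨t, ht⟩ k ⟨t', ht'⟩
    refine Subtype.ext ?_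
    have ht : (g : G) = ι t := ht.symm
    have ht' : (k : G) = ι t' := ht'.symm
    rw [fι (t * t') (g * k) (by rw [coe_mul, ht, ht', map_mul]), f3,
      h.mul _ (f1 t) _ (Normal.conj_mem inferInstance _ (f1 t') t), coe_mul, φc, fι t g ht, fι t' k ht',
      hβ g g.2 (fp t') (f1 t') (t * fp t' * t⁻¹) (ht ▸ Cj.of t _)]
  obtain ⟨D, D1, D2⟩ := H3.exists_crossedHom_corestrict φ U f hf
  have hodd : Odd U.index := by
    have := (s.syl.mono (fun _ hx => hx.elim fun x e => e ▸ mem_NF x) le_top).not_dvd_relIndex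
    exact Nat.odd_iff.2 (Nat.two_dvd_ne_zero.1 this)
  have DF : ∀ x (hx : x ∈ FF), D ⟨ι x, mem_NF x⟩ = ⟨β x, h.mem x hx⟩ := fun x hx => by
    have key : ∀ n : NF ι, ∃ y ∈ FF, Cj ι n y x ∧ ((n⁻¹ * ⟨ι x, mem_NF x⟩ * n : NF ι) : G) = ι y :=
      fun n => by
        obtain ⟨y, hy, p⟩ := img (inv_mem n.2) hx
        refine ⟨y, hy, by simpa using p.symm, ?_⟩
        rw [← p.eq]; simp
    rw [D2 _ ⟨β x, h.mem x hx⟩ (fun n => (key n).elim fun y e => ⟨y, e.2.2.symm⟩) fun n => ?_]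
    · obtain ⟨m, hm⟩ := hodd
      have : (⟨β x, h.mem x hx⟩ : FB) ^ 2 = 1 := Subtype.ext (by
        rw [coe_pow, pow_two]; exact sq_of_s (h.mem x hx).2)
      rw [hm, pow_succ, pow_mul, this, one_pow, one_mul]
    · obtain ⟨y, hy, p, e⟩ := key n
      refine Subtype.ext ?_
      rw [φc, fι y _ e, f2 y hy, ← hβ n n.2 y hy x p]
  have σF : ∀ x ∈ FF, σ (ι x) = 1 := fun x hx =>
    af_uniq s h (hσ _ (mem_NF x)) fun y hy => ⟨y, hy, Cj.of' (w_inj (by
      rw [map_mul, map_mul, map_inv, comm_of_s ((w_FF x).1 hx) ((w_FF y).1 hy)]; group)), by simp [bl_one]⟩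
  let π : G → B := fun g => if hg : g ∈ NF ι then (D ⟨g, hg⟩ : B) * bl (σ g) else 1
  have πd : ∀ g (hg : g ∈ NF ι), π g = (D ⟨g, hg⟩ : B) * bl (σ g) := fun g hg => dif_pos hg
  have πF : ∀ x ∈ FF, π (ι x) = β x := fun x hx => by
    rw [πd _ (mem_NF x), DF x hx, σF x hx, bl_one, mul_one]
  have πs : ∀ g ∈ NF ι, (π g).s = σ g := fun g hg => by
    rw [πd g hg, mul_s, (mem_FB.1 (D ⟨g, hg⟩).2).2, bl_s, one_mul]
  have πm : ∀ x ∈ NF ι, ∀ y ∈ NF ι, π (x * y) = π x * π y := fun x hx y hy => by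
    rw [πd _ (mul_mem hx hy), πd x hx, πd y hy, σmul x hx y hy, bl_mul,
      show (⟨x * y, mul_mem hx hy⟩ : NF ι) = ⟨x, hx⟩ * ⟨y, hy⟩ from rfl, D1, coe_mul, φc]
    group
  have πW : ∀ x ∈ NF ι, π x ∈ W := fun x hx => πd x hx ▸ mul_mem (D ⟨x, hx⟩).2.1 (bl_W _)
  let πh : NF ι →* B := MonoidHom.mk' (fun x => π x) fun x y => πm _ x.2 _ y.2
  refine ⟨π, ⟨πm, πW, fun b hb => ?_, fun g hg e => ?_⟩, πF⟩
  · obtain ⟨g, hg, a⟩ := h.all b.s
    have e1 : (π g).s = b.s := (πs g hg).trans (af_uniq s h (hσ g hg) a)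
    obtain ⟨x, hx, e2⟩ := h.sur (b * (π g)⁻¹) ⟨W.mul_mem hb (W.inv_mem (πW g hg)),
      show (b * (π g)⁻¹).s = 1 by rw [mul_s, inv_s, e1, mul_inv_cancel]⟩
    exact ⟨ι x * g, mul_mem (mem_NF x) hg, by rw [πm _ (mem_NF x) _ hg, πF x hx, e2]; group⟩
  · by_contra ho
    obtain ⟨m, hm⟩ := Nat.not_odd_iff_even.1 ho
    have hm0 : 0 < m := by have := orderOf_pos g; omega
    have h1 : g ^ m ≠ 1 := pow_ne_one_of_lt_orderOf hm0.ne' (by omega)
    have h2 : g ^ m * g ^ m = 1 := by rw [← pow_add, ← hm, pow_orderOf_eq_one]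
    obtain ⟨n, hn, x, -, ex⟩ := s.into (s.sylIn (Y := NF ι) fun _ hx => hx.elim fun x e => e ▸ mem_NF x)
      (pow_mem hg m) (El2.of_mul_self h2)
    have e3 : π (ι x) = 1 := by
      have : (⟨ι x, mem_NF x⟩ : NF ι) = ⟨n, hn⟩ * ⟨g, hg⟩ ^ m * ⟨n, hn⟩⁻¹ := Subtype.ext ex.symm
      show πh ⟨ι x, mem_NF x⟩ = 1
      rw [this, map_mul, map_mul, map_pow, map_inv, show πh ⟨g, hg⟩ = 1 from e]
      group
    have e4 : σ (ι x) = 1 := (πs _ (mem_NF x)).symm.trans (by rw [e3]; rfl)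
    have e5 : ∀ y ∈ FF, x * y = y * x := fun y hy => by
      have hy' : x * y * x⁻¹ ∈ FF := Normal.conj_mem inferInstance _ hy x
      have a := hβ _ (mem_NF x) y hy _ (Cj.of x y)
      rw [e4, bl_one, one_mul, inv_one, mul_one] at a
      have b : β (x * y * x⁻¹ * y) = 1 := by
        rw [h.mul _ hy' _ hy, a]; exact sq_of_s (h.mem y hy).2
      have c := h.inj _ (mul_mem hy' hy) b
      have d : y * y = 1 := w_inj (by rw [map_mul, map_one]; exact sq_of_s ((w_FF y).1 hy))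
      calc x * y = (x * y * x⁻¹ * y) * y * x := by
            rw [mul_assoc (x * y * x⁻¹), d]; group
        _ = y * x := by rw [c, one_mul]
    have hx : x ∈ FF := cent_FF x (e5 _ (by decide)) (e5 _ (by decide)) (e5 _ (by decide))
    have := h.inj x hx ((πF x hx).symm.trans e3)
    rw [this, map_one] at ex
    exact h1 (by simpa using ex)

end H24.T12
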