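import Cfsg.Agent.Lib.A12.Defs2
import Cfsg.Agent.Lib.A12.BAS
/-! Package X1 of `blueprint/A12/README.md`. -/
set_option autoImplicit false
namespace H24.T12
open Subgroup H1.A10 H45 H69 Gold Cfsg

variable {G : Type} [Group G] [Finite G] {ι : M →* G} {π : G → B} {g k : G}

namespace X1p

/-- the parity of a subset -/
def par (u : V) : ℕ := (bt u.n 0 + bt u.n 1 + bt u.n 2 + bt u.n 3 + bt u.n 4 + bt u.n 5) % 2

theorem par_add : ∀ (σ : P) (u w : V), par (u + σ • w) = 0 ↔ (par u = 0 ↔ par w = 0) := by decide +kernel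

def phi : M →* ℤˣ := MonoidHom.mk' (fun x => if par x.f = 0 then 1 else -1) fun x y => by
  by_cases a : par x.f = 0 <;> by_cases b : par y.f = 0 <;> simp [par_add, a, b]

theorem phi_one {x : M} (h : phi x = 1) : par x.f = 0 := by
  by_contra e
  simp [phi, e] at h

/-- the centre of the model -/
def Z : Subgroup M where
  carrier := {x | x = 1 ∨ x = z2 ∨ x = z4 ∨ x = z}
  one_mem' := Or.inl rfl
  mul_mem' := by rintro _ _ (rfl | rfl | rfl | rfl) (rfl | rfl | rfl | rfl) <;> decide +kernel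
  inv_mem' := by rintro _ (rfl | rfl | rfl | rfl) <;> decide +kernel

theorem mem_Z {x : M} : x ∈ Z ↔ x = 1 ∨ x = z2 ∨ x = z4 ∨ x = z := Iff.rfl

theorem tabA : ∀ (σ τ : P) (u : V), σ * σ = 1 → τ * τ = 1 → σ * τ = τ * σ →
    τ • (σ • u + u) + (σ • u + u) ≠ 0 → bt σ.n 2 = 0 ∧ bt τ.n 2 = 0 ∧ σ ≠ 1 ∧ τ ≠ 1 ∧ σ ≠ τ ∧
      a (τ • (σ • u + u) + (σ • u + u)) = z4 := by decide +kernel

theorem tabB : ∀ (σ τ : P) (u : V), bt σ.n 2 = 0 → bt τ.n 2 = 0 → σ ≠ 1 → τ ≠ 1 → σ ≠ τ → σ • u = u → τ • u = u →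
    par u = 0 → a u = 1 ∨ a u = z2 ∨ a u = z4 ∨ a u = z := by decide +kernel

theorem tabC : ∀ x ∈ R1, x ∈ EE ∨ x * c⁻¹ ∈ EE ∨ x * sg⁻¹ ∈ EE ∨ x * (c * sg)⁻¹ ∈ EE := by decide +kernel

omit [Finite G] in
theorem lemA (s : Sy ι) (hg : g ∈ NE ι) {c' s' : M} (pc : Cj ι g c c') (ps : Cj ι g sg s') :
    (bt c'.s.n 2 = 0 ∧ bt s'.s.n 2 = 0 ∧ c'.s ≠ 1 ∧ s'.s ≠ 1 ∧ c'.s ≠ s'.s) ∧ Cj ι g z4 z4 := by
  obtain ⟨e, he, p⟩ := img hg (a_EE (v 1))
  rw [eq_a he] at p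
  have q : Cj ι g (m 3 0) (a (c'.s • e.f + e.f)) := (((p.mul pc).mul p.inv).mul pc.inv).congr (by decide +kernel)
    (by rw [a_conj, mul_inv_cancel_right])
  have r : Cj ι g z4 (a (s'.s • (c'.s • e.f + e.f) + (c'.s • e.f + e.f))) :=
    (((ps.mul q).mul ps.inv).mul q.inv).congr (by decide +kernel) (by rw [conj_a, a_inv, ← a_add])
  obtain ⟨h1, h2, h3, h4, h5, h6⟩ := tabA c'.s s'.s e.f (congrArg M.s (s.sq pc (by decide +kernel)))
    (congrArg M.s (s.sq ps (by decide +kernel))) (congrArg M.s (s.comm pc ps (by decide +kernel)))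
    fun h => s.ne1 r (by decide +kernel) (by rw [h, a_zero])
  exact ⟨⟨h1, h2, h3, h4, h5⟩, h6 ▸ r⟩

theorem E_le : EE ≤ R1 := fun x hx => by
  change bt x.s.n 2 = 0
  rw [mem_EE.1 hx]
  rfl

end X1p

open X1p in
theorem x1 (s : Sy ι) (n2 : N2 G) : ∃ g, X1 ι g := by
  have : Fact (Nat.Prime 2) := ⟨Nat.prime_two⟩
  by_contra hn
  obtain ⟨g, y', h1, p, -, h2⟩ := s.thompson n2 phi (y := dd 4 6) (by decide +kernel)
  have hE : g ∈ NE ι := wcE s fun x hx => h2 x ((by decide +kernel : ∀ x ∈ EE, x * dd 4 6 = dd 4 6 * x) x hx)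
  obtain ⟨c', pc⟩ := h2 c (by decide +kernel)
  obtain ⟨s', ps⟩ := h2 sg (by decide +kernel)
  obtain ⟨⟨a1, a2, a3, a4, a5⟩, -⟩ := lemA s hE pc ps
  have hy : y' ∈ EE := (s.back hE p).1 (by decide +kernel)
  have hZ : y' ∈ Z := by
    rw [eq_a hy] at p ⊢
    exact tabB c'.s s'.s y'.f a1 a2 a3 a4 a5 (comm_a.1 (s.comm pc p (by decide +kernel)))
      (comm_a.1 (s.comm ps p (by decide +kernel))) (phi_one h1)
  have hR : g ∈ 𝐍(R1.map ι) := norm_of fun x hx => by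
    have k : ∀ {t t' : M}, Cj ι g t t' → t' ∈ R1 → x * t⁻¹ ∈ EE → ∃ y ∈ R1, Cj ι g x y := fun q m h => by
      obtain ⟨e, he, r⟩ := img hE h
      exact ⟨_, mul_mem (E_le he) m, (r.mul q).congr (inv_mul_cancel_right _ _) rfl⟩
    rcases tabC x hx with h | h | h | h
    · exact k (Cj.one g) (one_mem _) (by simpa using h)
    · exact k pc a1 h
    · exact k ps a2 h
    · exact k (pc.mul ps) (mul_mem (show c' ∈ R1 from a1) (show s' ∈ R1 from a2)) h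
  have hT : ι.range ≤ NE ι ⊓ 𝐍(R1.map ι) := le_inf (by rintro _ ⟨x, rfl⟩; exact mem_NE x)
    (range_norm fun t x hx => (by decide +kernel : ∀ σ τ : P, bt τ.n 2 = 0 → bt (σ * τ * σ⁻¹).n 2 = 0) t.s x.s hx)
  have hK : NE ι ⊓ 𝐍(R1.map ι) ≤ 𝐍(Z.map ι) := by
    refine (s.syl.mono hT le_top).eq_of_res_le (range_norm fun t x hx => ?_) (res_le_iff.2 fun k hk ho => ?_)
    · rcases hx with rfl | rfl | rfl | rfl
      · simp
      · rw [z2_comm, mul_inv_cancel_right]; exact Or.inr (Or.inl rfl)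
      · rw [z4_comm, mul_inv_cancel_right]; exact Or.inr (Or.inr (Or.inl rfl))
      · rw [z_comm, mul_inv_cancel_right]; exact Or.inr (Or.inr (Or.inr rfl))
    · obtain ⟨c', -, qc⟩ := img hk.2 (show c ∈ R1 by decide +kernel)
      obtain ⟨s', -, qs⟩ := img hk.2 (show sg ∈ R1 by decide +kernel)
      have q4 := (lemA s hk.1 qc qs).2
      obtain ⟨y, -, q2⟩ := img hk.1 (show z2 ∈ EE by decide +kernel)
      have hy : y = z2 ∨ y = z := by
        by_contra e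
        rw [not_or] at e
        exact hn ⟨k, Nat.coprime_two_right.1 ho, hk.1, fun x hx => img hk.2 hx, y, q2, e.1, e.2⟩
      have my : y ∈ Z := hy.elim (fun e => Or.inr (Or.inl e)) fun e => Or.inr (Or.inr (Or.inr e))
      have m4 : z4 ∈ Z := Or.inr (Or.inr (Or.inl rfl))
      refine norm_of ?_
      rintro _ (rfl | rfl | rfl | rfl)
      · exact ⟨1, one_mem _, Cj.one k⟩
      · exact ⟨y, my, q2⟩
      · exact ⟨z4, m4, q4⟩
      · exact ⟨_, mul_mem my m4, (q2.mul q4).congr (by decide +kernel) rfl⟩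
  exact absurd (mem_Z.1 ((s.back (hK ⟨hE, hR⟩) p).2 hZ)) (by decide +kernel)

end H24.T12
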