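import Cfsg.Agent.Lib.A12.Defs2
import Cfsg.Agent.Lib.A12.SET
import Cfsg.Agent.Lib.A12.X1
/-! Package FRM3 of `blueprint/A12/README.md`. -/
set_option autoImplicit false
namespace H24.T12
open Subgroup H1.A10 H45 H69 Gold Cfsg

variable {G : Type} [Group G] [Finite G] {ι : M →* G} {π : G → B} {g k : G}

namespace FRM3

theorem twoM : IsPGroup 2 M := IsPGroup.of_card card_M

theorem syl_w : IsSylowIn 2 w.range W := by
  have c : Nat.card w.range = 2 ^ 9 := (Nat.card_congr (MonoidHom.ofInjective w_inj).toEquiv).symm.trans card_M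
  have l : w.range ≤ W := by
    rintro _ ⟨x, rfl⟩
    exact w_W x
  obtain ⟨T, hT⟩ := exists_isSylowIn 2 W
  refine hT.of_card_le (IsPGroup.of_card c) l ?_
  obtain ⟨n, hn⟩ := hT.isP.exists_card_eq
  have d := card_dvd_of_le hT.le
  rw [card_W, hn] at d
  rw [hn, c]
  exact Nat.le_of_dvd (by norm_num) ((Nat.Coprime.pow_left n (by norm_num)).dvd_of_dvd_mul_right d)

/-- the model read in the Weyl group -/
def ph (p : Pr (NF ι) π) : M →* B :=
  MonoidHom.mk' (fun x => π (ι x)) fun x y => by rw [map_mul, p.mul _ (mem_NF x) _ (mem_NF y)]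

theorem ph_inj (s : Sy ι) (p : Pr (NF ι) π) : Function.Injective (ph p) :=
  (injective_iff_map_eq_one _).2 fun x hx => by
    have o := p.ker _ (mem_NF x) hx
    rw [orderOf_injective ι s.inj] at o
    obtain ⟨n, hn⟩ := IsPGroup.iff_orderOf.1 twoM x
    rw [hn] at o
    rcases n with _ | n
    · exact orderOf_eq_one_iff.1 hn
    · exact absurd o (Nat.not_odd_iff_even.2 (Nat.even_pow.2 ⟨even_two, n.succ_ne_zero⟩))

theorem tw (s : Sy ι) (p : Pr (NF ι) π) (β : B →* B) (bi : Function.Injective β) (bW : ∀ b ∈ W, β b ∈ W)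
    (hF : ∀ x ∈ FF, (β (π (ι x))).s = 1) (hr : ∀ x, ∃ y, w y = β (π (ι x))) :
    ∃ ι' : M →* G, (∀ x y, w y = β (π (ι x)) → ι' y = ι x) ∧ Fr ι' (β ∘ π) := by
  choose f hf using hr
  let α₀ : M →* M := MonoidHom.mk' f fun x y => w_inj (by
    rw [map_mul, hf, hf, hf, map_mul, p.mul _ (mem_NF x) _ (mem_NF y), map_mul])
  have i0 : Function.Injective α₀ := fun x y e =>
    ph_inj s p (bi ((hf x).symm.trans ((congrArg w e).trans (hf y))))
  let α : M ≃* M := MulEquiv.ofBijective α₀ (Finite.injective_iff_bijective.1 i0)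
  have ha : ∀ x, w (α x) = β (π (ι x)) := hf
  have e1 : FF.map α.toMonoidHom = FF := eq_of_le_of_card_ge (by
    rintro _ ⟨x, hx, rfl⟩
    exact (w_FF _).2 ((congrArg B.s (ha x)).trans (hF x hx))) (card_map_of_injective α.injective).ge
  have e2 : FF.map (ι.comp α.symm.toMonoidHom) = FF.map ι := by
    conv_lhs => rw [← e1, map_map]
    congr 1
    ext x
    simp
  have e3 : NF (ι.comp α.symm.toMonoidHom) = NF ι := by rw [NF, NF, e2]
  have e4 : W.map β = W := eq_of_le_of_card_ge (by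
    rintro _ ⟨x, hx, rfl⟩
    exact bW x hx) (card_map_of_injective bi).ge
  refine ⟨ι.comp α.symm.toMonoidHom, fun x y e => ?_, ⟨?_, ⟨s.inj.comp α.symm.injective, ?_⟩, fun x => ?_⟩⟩
  · rw [← ha] at e
    rw [w_inj e]
    simp
  · rw [e3]
    refine ⟨fun x hx y hy => ?_, fun x hx => bW _ (p.mem x hx), fun b hb => ?_, fun x hx e => ?_⟩
    · simp only [Function.comp_apply, p.mul x hx y hy, map_mul]
    · rw [← e4] at hb
      obtain ⟨b', hb', rfl⟩ := hb
      obtain ⟨x, hx, rfl⟩ := p.sur b' hb'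
      exact ⟨x, hx, rfl⟩
    · exact p.ker x hx (bi (e.trans (map_one β).symm))
  · rw [MonoidHom.range_comp, MonoidHom.range_eq_top.2 α.symm.surjective, ← MonoidHom.range_eq_map]
    exact s.syl
  · exact (ha _).symm.trans (congrArg w (α.apply_symm_apply x))

theorem exFr (s : Sy ι) (p : Pr (NF ι) π) (h : ∀ x ∈ FF, π (ι x) ∈ FB) :
    ∃ (ι' : M →* G) (π' : G → B), Fr ι' π' := by
  obtain ⟨b, hb, hl⟩ := syl_w.exists_cj_le (R := (ph p).range)
    (twoM.of_surjective _ (ph p).rangeRestrict_surjective) (by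
      rintro _ ⟨x, rfl⟩
      exact p.mem _ (mem_NF x))
  obtain ⟨ι', -, h'⟩ := tw s p (MulAut.conj b).toMonoidHom (MulAut.conj b).injective
    (fun x hx => Normal.conj_mem inferInstance x hx b)
    (fun x hx => (Normal.conj_mem inferInstance _ (h x hx) b).2) fun x => hl (cj_mem b ⟨x, rfl⟩)
  exact ⟨ι', _, h'⟩

theorem ZR1 : ∀ y : M, y * dd 0 6 = dd 0 6 * y → y * dd 2 6 = dd 2 6 * y → y * dd 4 6 = dd 4 6 * y →
    y * c = c * y → y * sg = sg * y → y = 1 ∨ y = z2 ∨ y = z ∨ y = z4 ∨ y = dd 4 6 ∨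
      tau * y * tau⁻¹ = dd 4 6 ∨ y = dd 4 6 * z ∨ tau * y * tau⁻¹ = dd 4 6 * z := by
  decide +kernel

theorem cases (s : Sy ι) (h : X1 ι g) : Fu ι (dd 4 6) z2 ∨ Fu ι (dd 4 6 * z) z2 := by
  obtain ⟨y, p, n1, n2⟩ := h.mv
  have k : ∀ t ∈ R1, y * t = t * y := fun t ht => by
    obtain ⟨t', -, q⟩ := img (inv_mem (norm_of h.r1)) ht
    exact s.comm p (inv_inv g ▸ q.symm) (z2_comm t').symm
  have f : Fu ι z2 y := ⟨g, p⟩
  rcases ZR1 y (k _ (by decide)) (k _ (by decide)) (k _ (by decide)) (k _ (by decide)) (k _ (by decide)) with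
    e | e | e | e | e | e | e | e
  · exact absurd e (s.ne1 p (by decide))
  · exact absurd e n1
  · exact absurd e n2
  · exact absurd (e ▸ f) (nf24 s)
  · exact Or.inl (e ▸ f).symm
  · exact Or.inl (f.trans (Fu.of tau e)).symm
  · exact Or.inr (e ▸ f).symm
  · exact Or.inr (f.trans (Fu.of tau e)).symm

/-- multiply the odd elements by the central involution -/
def tz : B →* B := MonoidHom.mk' (fun b => if Equiv.Perm.sign b.s = 1 then b else b * z0) fun a b => by
  have e : a * z0 * (b * z0) = a * b := by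
    rw [mul_assoc, ← mul_assoc z0, ← z0_comm, mul_assoc b, z0_sq, mul_one]
  rw [mul_s, map_mul]
  rcases Int.units_eq_one_or (Equiv.Perm.sign a.s) with ha | ha <;>
    rcases Int.units_eq_one_or (Equiv.Perm.sign b.s) with hb | hb <;> simp +decide only [ha, hb, if_true, if_false]
  · rw [mul_assoc]
  · rw [mul_assoc, z0_comm b, mul_assoc]
  · exact e.symm

theorem tz_apply (b : B) : tz b = if Equiv.Perm.sign b.s = 1 then b else b * z0 := rfl

theorem tz_s (b : B) : (tz b).s = b.s := by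
  rw [tz_apply]
  split_ifs
  · rfl
  · rw [mul_s, z0_s, mul_one]

theorem eqns_FRM3 : True := by
  have := @ph.eq_1
  have := @tz.eq_1
  trivial

end FRM3

open FRM3

theorem frm3 (s : Sy ι) (n2 : N2 G) (p : Pr (NF ι) π) (h : ∀ x ∈ FF, π (ι x) ∈ FB) :
    ∃ (ι' : M →* G) (π' : G → B), Dat ι' π' := by
  obtain ⟨ι', π', h'⟩ := exFr s p h
  obtain ⟨g, hg⟩ := x1 h'.sy n2
  rcases cases h'.sy hg with f | ⟨k, f⟩
  · exact ⟨ι', π', h', f, g, hg⟩
  obtain ⟨ι'', e, h''⟩ := tw h'.sy h'.toPr tz ((injective_iff_map_eq_one _).2 fun b hb => by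
      have e := tz_s b
      rw [hb, one_s] at e
      rwa [tz_apply, ← e, map_one, if_pos rfl] at hb)
    (fun b hb => by
      rw [tz_apply]
      split_ifs
      exacts [hb, mul_mem hb z0_FB.1])
    (fun x hx => by rw [tz_s, h'.emb]; exact (w_FF x).1 hx) fun x => by
      rw [h'.emb, tz_apply]
      split_ifs
      exacts [⟨x, rfl⟩, ⟨x * z, by rw [map_mul, w_z]⟩]
  refine ⟨ι'', _, h'', ⟨k, ?_⟩, x1 h''.sy n2⟩
  rw [Cj, e (dd 4 6 * z) (dd 4 6), e z2 z2]
  · exact f
  · rw [h'.emb, w_z2, tz_apply, e_s, map_one, if_pos rfl]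
  · rw [h'.emb, map_mul, w_46, w_z, tz_apply, mul_s, z0_s, mul_one, sw_s, Equiv.Perm.sign_swap (by decide),
      if_neg (by decide), mul_assoc, z0_sq, mul_one]

end H24.T12
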