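import Cfsg.Agent.Lib.A12.Defs2
import Cfsg.Agent.Lib.A12.EF2
import Cfsg.Agent.Lib.A12.FW
/-! Package LIFT1 of `blueprint/A12/README.md`. -/
set_option autoImplicit false
namespace H24.T12
open Subgroup H1.A10 H45 H69 Gold Cfsg

variable {G : Type} [Group G] [Finite G] {ι : M →* G} {π : G → B} {g k : G}

namespace L73

omit [Finite G] in
theorem inC (x : M) : ι x ∈ 𝐂[ι z] := mem_c1 (z_comm x)

theorem e_FF : ∀ i j : I, ∃ f : M, f ∈ FF ∧ w f = e i j := by decide +kernel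

end L73

section
variable {Y : Type} [Group Y] {ι' : M →* Y} {q : G → Y}
omit [Finite G]

/-- the quotient map as a homomorphism -/
protected def Qu.hom (h : Qu ι ι' q) : 𝐂[ι z] →* Y := MonoidHom.mk' (fun x => q x) fun x y => h.mul _ x.2 _ y.2
protected theorem Qu.one (h : Qu ι ι' q) : q 1 = 1 := h.hom.map_one
protected theorem Qu.inv (h : Qu ι ι' q) (hg : g ∈ 𝐂[ι z]) : q g⁻¹ = (q g)⁻¹ := h.hom.map_inv ⟨g, hg⟩
protected theorem Qu.pow (h : Qu ι ι' q) (hg : g ∈ 𝐂[ι z]) (n : ℕ) : q (g ^ n) = q g ^ n := h.hom.map_pow ⟨g, hg⟩ n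
protected theorem Qu.conj (h : Qu ι ι' q) (hg : g ∈ 𝐂[ι z]) (hk : k ∈ 𝐂[ι z]) : q (g * k * g⁻¹) = q g * q k * (q g)⁻¹ := by
  rw [h.mul _ (mul_mem hg hk) _ (inv_mem hg), h.mul _ hg _ hk, h.inv hg]
protected theorem Qu.eq_iff (h : Qu ι ι' q) (hg : g ∈ 𝐂[ι z]) (hk : k ∈ 𝐂[ι z]) : q g = q k ↔ g * k⁻¹ ∈ Oc (ι z) := by
  rw [← h.ker _ (mul_mem hg (inv_mem hk)), h.mul _ hg _ (inv_mem hk), h.inv hk, mul_inv_eq_one]
protected theorem Qu.cj (h : Qu ι ι' q) (hg : g ∈ 𝐂[ι z]) {x y : M} (p : Cj ι g x y) : Cj ι' (q g) x y := by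
  have := h.conj hg (L73.inC x)
  rw [p.eq, h.emb, h.emb] at this
  exact this.symm
protected theorem Qu.hom_sur (h : Qu ι ι' q) : Function.Surjective h.hom := fun y =>
  (h.sur y).elim fun x e => ⟨⟨x, e.1⟩, e.2⟩

end

protected theorem Qu.inj {Y : Type} [Group Y] {ι' : M →* Y} {q : G → Y} (s : Sy ι) (h : Qu ι ι' q) : Function.Injective ι' :=
  (injective_iff_map_eq_one ι').2 fun x e => s.inj <| by
    rw [← h.emb, h.ker _ (L73.inC x)] at e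
    rw [map_one]
    exact (Oc_odd _).eq_one e (El2.of_mem s.syl.isP ⟨x, rfl⟩)

protected theorem Qu.sy {Y : Type} [Group Y] [Finite Y] {ι' : M →* Y} {q : G → Y} (s : Sy ι) (h : Qu ι ι' q) : Sy ι' := by
  refine ⟨h.inj s, ?_⟩
  have hl : ι.range ≤ 𝐂[ι z] := range_cent z_comm
  have := (s.syl.mono hl le_top).subgroupOf_top.map h.hom
  rw [map_top_of_surjective _ h.hom_sur] at this
  convert this using 1
  ext y
  constructor
  · rintro ⟨x, rfl⟩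
    exact ⟨⟨ι x, L73.inC x⟩, ⟨x, rfl⟩, h.emb x⟩
  · rintro ⟨⟨x, hx⟩, ⟨t, ht⟩, rfl⟩
    exact ⟨t, (h.emb t).symm.trans (congrArg q ht)⟩

theorem Qu.fusS {Y : Type} [Group Y] {ι' : M →* Y} {q : G → Y} (s : Sy ι) (h : Qu ι ι' q) {y : Y} {R : Subgroup M}
    (hR : On ι' y R) : ∃ g ∈ 𝐂[ι z], q g = y ∧ ∀ x ∈ R, ∀ x', Cj ι' y x x' → Cj ι g x x' := by
  obtain ⟨g0, h0, rfl⟩ := h.sur y
  have hl : ι.range ≤ 𝐂[ι z] := range_cent z_comm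
  have hn : ι.range ≤ 𝐍(Oc (ι z)) := hl.trans (cent_norm_Oc _)
  have h1 : R.map ι ^ᶜ g0 ≤ ι.range ⊔ Oc (ι z) := by
    intro u hu
    obtain ⟨_, ⟨x, hx, rfl⟩, rfl⟩ := mem_cj'.1 hu
    obtain ⟨x', p⟩ := hR x hx
    have : q (g0 * ι x * g0⁻¹) = q (ι x') := by rw [h.conj h0 (L73.inC x), h.emb, h.emb, p.eq]
    rw [h.eq_iff (mul_mem (mul_mem h0 (L73.inC x)) (inv_mem h0)) (L73.inC x')] at this
    have e : g0 * ι x * g0⁻¹ = g0 * ι x * g0⁻¹ * (ι x')⁻¹ * ι x' := by group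
    rw [e]
    exact mul_mem (mem_sup_right this) (mem_sup_left ⟨x', rfl⟩)
  obtain ⟨k, hk, h2⟩ := (s.syl.mono le_sup_left le_top).exists_cj_le (isPGroup_cj (s.two_map R) g0) h1
  obtain ⟨_, ⟨t, rfl⟩, o, ho, rfl⟩ := (H2.mem_sup_iff_of_le_normalizer' hn).1 hk
  have oc := Oc_le _ ho
  have hq : q (o * g0) = q g0 := by rw [h.mul _ oc _ h0, (h.ker _ oc).2 ho, one_mul]
  refine ⟨o * g0, mul_mem oc h0, hq, fun x hx x' p => ?_⟩
  obtain ⟨t', e⟩ := h2 (cj_mem _ (cj_mem g0 (mem_map_of_mem ι hx)))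
  have p' : Cj ι (o * g0) x (t⁻¹ * t' * t) := by
    show _ = _
    rw [map_mul, map_mul, map_inv, e]
    group
  have p'' := h.cj (mul_mem oc h0) p'
  rw [hq] at p''
  exact p'.congr rfl (h.inj s (p''.eq.symm.trans p.eq))

protected theorem Qu.fus {Y : Type} [Group Y] {ι' : M →* Y} {q : G → Y} (s : Sy ι) (h : Qu ι ι' q) (y : Y) :
    ∃ g ∈ 𝐂[ι z], q g = y ∧ ∀ x x', Cj ι' y x x' → Cj ι g x x' := by
  classical
  obtain ⟨g, h1, h2, h3⟩ := h.fusS s (y := y) (R := (ι'.range.comap (MulAut.conj y).toMonoidHom).comap ι')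
    fun x ⟨x', e⟩ => ⟨x', e.symm⟩
  exact ⟨g, h1, h2, fun x x' p => h3 x ⟨x', p.eq.symm⟩ x' p⟩

theorem Qu.fu {Y : Type} [Group Y] {ι' : M →* Y} {q : G → Y} (s : Sy ι) (h : Qu ι ι' q) {x y : M}
    (p : Fu ι' x y) : Fu ι x y := by
  obtain ⟨k, p⟩ := p
  obtain ⟨g, -, -, h3⟩ := h.fus s k
  exact ⟨g, h3 _ _ p⟩

protected theorem Qu.norm_up {Y : Type} [Group Y] {ι' : M →* Y} {q : G → Y} (s : Sy ι) (h : Qu ι ι' q) {K : Subgroup M}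
    {y : Y} (hy : y ∈ 𝐍(K.map ι')) : ∃ g ∈ 𝐂[ι z], g ∈ 𝐍(K.map ι) ∧ q g = y := by
  obtain ⟨g, h1, h2, h3⟩ := h.fus s y
  exact ⟨g, h1, norm_of fun x hx => (img hy hx).imp fun x' e => ⟨e.1, h3 _ _ e.2⟩, h2⟩

omit [Finite G] in
protected theorem Qu.norm_down {Y : Type} [Group Y] [Finite Y] {ι' : M →* Y} {q : G → Y} (h : Qu ι ι' q) {K : Subgroup M}
    (hc : g ∈ 𝐂[ι z]) (hg : g ∈ 𝐍(K.map ι)) : q g ∈ 𝐍(K.map ι') :=
  norm_of fun _ hx => (img hg hx).imp fun _ e => ⟨e.1, h.cj hc e.2⟩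

protected theorem Qu.pi_ker {Y : Type} [Group Y] {ι' : M →* Y} {q : G → Y} (d : Fr ι π) (h : Qu ι ι' q)
    (hg : g ∈ NF ι) (hk : k ∈ NF ι) (e' : q g = q k) : π g = π k := by
  have hx : g * k⁻¹ ∈ NF ι := mul_mem hg (inv_mem hk)
  have ho := (h.eq_iff (d.nf_le hg) (d.nf_le hk)).1 e'
  have h1 : (π (g * k⁻¹)).s = 1 := cent_FB fun i j => by
    obtain ⟨f, hf, e1⟩ := L73.e_FF i j
    obtain ⟨f', -, p⟩ := img hx hf
    have p' := (h.cj (d.nf_le hx) p).eq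
    rw [(h.ker _ (d.nf_le hx)).2 ho, one_mul, inv_one, mul_one] at p'
    have := d.down hx p
    rw [← h.inj d.sy p', e1] at this
    exact mul_inv_eq_iff_eq_mul.1 this
  have h2 : π (g * k⁻¹) = 1 := by
    obtain ⟨n, hn⟩ := (Oc_odd _).odd ho
    have := d.toPr.pow hx (orderOf (g * k⁻¹))
    rw [pow_orderOf_eq_one, d.toPr.one, hn, pow_succ, pow_mul, pow_two, sq_of_s h1, one_pow, one_mul] at this
    exact this.symm
  rwa [d.mul _ hg _ (inv_mem hk), d.toPr.inv hk, mul_inv_eq_one] at h2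

theorem Dat.lift (d : Dat ι π) : ∃ (Y : Type) (_ : Group Y) (_ : Finite Y) (ι' : M →* Y) (π' : Y → B) (q : G → Y),
    Qu ι ι' q ∧ LG ι' π' := by
  classical
  let Y := 𝐂[ι z] ⧸ pPrimeCore 2 𝐂[ι z]
  let ι' : M →* Y := (QuotientGroup.mk' _).comp (ι.codRestrict _ L73.inC)
  let q : G → Y := fun g => if h : g ∈ 𝐂[ι z] then QuotientGroup.mk' _ ⟨g, h⟩ else 1
  have hq : ∀ g (h : g ∈ 𝐂[ι z]), q g = QuotientGroup.mk' _ ⟨g, h⟩ := fun g h => dif_pos h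
  have h : Qu ι ι' q := by
    refine ⟨fun x hx y hy => ?_, fun y => ?_, fun x hx => ?_, fun x => hq _ _⟩
    · rw [hq _ (mul_mem hx hy), hq _ hx, hq _ hy, ← map_mul]; rfl
    · obtain ⟨x, rfl⟩ := QuotientGroup.mk'_surjective _ y
      exact ⟨x, x.2, hq _ _⟩
    · rw [hq _ hx, QuotientGroup.mk'_apply, QuotientGroup.eq_one_iff]
      exact ⟨fun e => ⟨_, e, rfl⟩, fun ⟨y, e, e'⟩ => (Subtype.ext e' : y = ⟨x, hx⟩) ▸ e⟩
  let π' : Y → B := fun y => if h : ∃ g ∈ NF ι, q g = y then π h.choose else 1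
  have hπ : ∀ g ∈ NF ι, π' (q g) = π g := fun g hg => by
    have ex : ∃ g' ∈ NF ι, q g' = q g := ⟨g, hg, rfl⟩
    exact (dif_pos ex).trans (h.pi_ker d.toFr ex.choose_spec.1 hg ex.choose_spec.2)
  have up : ∀ y ∈ NF ι', ∃ g ∈ NF ι, q g = y := fun y hy =>
    (h.norm_up d.sy hy).imp fun _ e => e.2
  have nf := d.toFr.nf_le
  refine ⟨Y, inferInstance, inferInstance, ι', π', q, h,
    ⟨⟨⟨fun x hx y hy => ?_, fun x hx => ?_, fun b hb => ?_, fun x hx e => ?_⟩, h.sy d.sy, fun x => ?_⟩,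
      fun y => ?_, H1.pPrimeCore_quotient_pPrimeCore, fun u p => ?_⟩⟩
  · obtain ⟨x, h1, rfl⟩ := up x hx
    obtain ⟨y, h2, rfl⟩ := up y hy
    rw [← h.mul _ (nf h1) _ (nf h2), hπ _ (mul_mem h1 h2), hπ _ h1, hπ _ h2, d.mul _ h1 _ h2]
  · obtain ⟨x, h1, rfl⟩ := up x hx
    exact hπ _ h1 ▸ d.mem _ h1
  · obtain ⟨x, h1, rfl⟩ := d.sur b hb
    exact ⟨q x, h.norm_down (nf h1) h1, hπ _ h1⟩
  · obtain ⟨x, h1, rfl⟩ := up x hx
    refine (d.ker x h1 (hπ _ h1 ▸ e)).of_dvd_nat (orderOf_dvd_of_pow_eq_one ?_)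
    rw [← h.pow (nf h1), pow_orderOf_eq_one, h.one]
  · rw [← h.emb, hπ _ (mem_NF x), d.emb]
  · obtain ⟨x, h1, rfl⟩ := h.sur y
    rw [← h.emb, ← h.mul _ h1 _ (L73.inC z), ← h.mul _ (L73.inC z) _ h1, mem_cent1_iff.1 h1]
  · obtain ⟨k, p⟩ := p
    obtain ⟨g, h1, -, h3⟩ := h.fus d.sy k
    exact d.iso h1 (h3 _ _ p)

end H24.T12
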