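import Cfsg.Agent.Lib.A12.Defs2
import Cfsg.Agent.Lib.A12.LIFT1
/-! Package LIFT2 of `blueprint/A12/README.md`. -/
set_option autoImplicit false
namespace H24.T12
open Subgroup H1.A10 H45 H69 Gold Cfsg H67 Matrix

variable {G : Type} [Group G] [Finite G] {ι : M →* G} {π : G → B} {F : Type} [Field F] [Fintype F]
  {H L : Subgroup G} {ψ : GL (Fin 6) F → G} {σ : G} {n : ℕ}
  {J : Type} [Fintype J] [DecidableEq J] {Q : QuadraticForm F (J → F)} {θ : L →* GL J F}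

namespace L2
variable {Y : Type} [Group Y] {ι' : M →* Y} {q : G → Y} {g : G} {x x' : M} {X K : Subgroup G}

/-- the quotient map as a homomorphism -/
def hom (h : Qu ι ι' q) : 𝐂[ι z] →* Y := MonoidHom.mk' (fun x => q x) fun x y => h.mul _ x.2 _ y.2

omit [Finite G] in
theorem mC (x : M) : ι x ∈ 𝐂[ι z] := mem_c1 (z_comm x)

theorem fin (h : Qu ι ι' q) : Finite Y := Finite.of_surjective (hom h) fun y =>
  let ⟨x, hx, e⟩ := h.sur y; ⟨⟨x, hx⟩, e⟩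

omit [Finite G]

theorem q1 (h : Qu ι ι' q) : q 1 = 1 := (hom h).map_one

theorem qinv (h : Qu ι ι' q) (hg : g ∈ 𝐂[ι z]) : q g⁻¹ = (q g)⁻¹ := (hom h).map_inv ⟨g, hg⟩

theorem qcj (h : Qu ι ι' q) (hg : g ∈ 𝐂[ι z]) {k : G} (hk : k ∈ 𝐂[ι z]) :
    q (g * k * g⁻¹) = q g * q k * (q g)⁻¹ := by
  rw [h.mul _ (mul_mem hg hk) _ (inv_mem hg), h.mul _ hg _ hk, qinv h hg]

theorem down (h : Qu ι ι' q) (hg : g ∈ 𝐂[ι z]) (p : Cj ι g x x') : Cj ι' (q g) x x' := by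
  rw [Cj, ← h.emb, ← h.emb, ← qcj h hg (mC x), p.eq]

theorem div (h : Qu ι ι' q) (hg : g ∈ 𝐂[ι z]) {k : G} (hk : k ∈ 𝐂[ι z]) (e : q g = q k) :
    g⁻¹ * k ∈ Oc (ι z) := (h.ker _ (mul_mem (inv_mem hg) hk)).1 (by
  rw [h.mul _ (inv_mem hg) _ hk, qinv h hg, e, inv_mul_cancel])

theorem inj (h : Qu ι ι' q) (o : Oc (ι z) = ⊥) (hg : g ∈ 𝐂[ι z]) {k : G} (hk : k ∈ 𝐂[ι z])
    (e : q g = q k) : g = k := inv_mul_eq_one.1 (mem_bot.1 (o ▸ div h hg hk e))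

/-- the image of a subgroup -/
def im (h : Qu ι ι' q) (X : Subgroup G) : Subgroup Y := (X.subgroupOf 𝐂[ι z]).map (hom h)

theorem mem_im (h : Qu ι ι' q) (hg : g ∈ X) (hc : g ∈ 𝐂[ι z]) : q g ∈ im h X := ⟨⟨g, hc⟩, hg, rfl⟩

theorem im_odd (h : Qu ι ι' q) (hX : X ≤ 𝐂[ι z]) (o : OddS X) : OddS (im h X) := fun d =>
  o ((d.trans (card_map_dvd _ _)).trans
    (Nat.card_congr (subgroupOfEquivOfLe hX).toEquiv).dvd)

theorem im_norm [Finite Y] (h : Qu ι ι' q) (hg : g ∈ 𝐂[ι z]) (n : g ∈ 𝐍(X)) : q g ∈ 𝐍(im h X) :=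
  mem_normalizer_of_cj_le fun y hy => by
    obtain ⟨_, ⟨x, hx, rfl⟩, rfl⟩ := mem_cj'.1 hy
    exact (qcj h hg x.2 : _ = q g * q x * (q g)⁻¹) ▸
      mem_im h (conj_mem_of_mem_normalizer n hx) (mul_mem (mul_mem hg x.2) (inv_mem hg))

theorem le_O (h : Qu ι ι' q) (hX : X ≤ 𝐂[ι z]) (k : im h X ≤ ⊥) : X ≤ Oc (ι z) := fun x hx =>
  (h.ker x (hX hx)).1 (mem_bot.1 (k (mem_im h hx (hX hx))))

theorem up (h : Qu ι ι' q) (o : Oc (ι z) ≤ K) (k : ⊤ ≤ im h K) : 𝐂[ι z] ≤ K := fun x hx => by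
  obtain ⟨y, hy, e⟩ := k (mem_top (q x))
  exact (K.mul_mem_cancel_left (inv_mem hy)).1 (o (div h y.2 hx e))

theorem lift [Finite G] (s : Sy ι) (h : Qu ι ι' q) (y : Y) :
    ∃ g ∈ 𝐂[ι z], q g = y ∧ ∀ x x', Cj ι' y x x' → Cj ι g x x' := by
  let R : Subgroup M :=
    { carrier := {x | ∃ x', Cj ι' y x x'}
      one_mem' := ⟨1, Cj.one y⟩
      mul_mem' := fun ⟨_, a⟩ ⟨_, b⟩ => ⟨_, a.mul b⟩
      inv_mem' := fun ⟨_, a⟩ => ⟨_, a.inv⟩ }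
  obtain ⟨g, hg, e, k⟩ := h.fusS s (y := y) (R := R) fun _ hx => hx
  exact ⟨g, hg, e, fun x x' p => k x ⟨x', p⟩ x' p⟩

end L2

open L2 in
theorem Qu.loc7 {Y : Type} [Group Y] {ι' : M →* Y} {q : G → Y} (s : Sy ι) (h : Qu ι ι' q) (l : Loc7 ι' ⊤ ⊥) :
    Loc7 ι 𝐂[ι z] (Oc (ι z)) := by
  have := fin h
  refine ⟨fun i j h1 h2 h3 => ?_, fun i j k h1 h2 h3 h4 h5 h6 y hy o c1 c2 => ?_,
    L2.up h (le_sup_left.trans le_sup_left) (l.l4.trans (sup_le (sup_le bot_le fun y hy => ?_) fun y hy => ?_))⟩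
  · have a := (Od_le (𝐂[ι z] ⊓ 𝐂[ι (tt i)] ⊓ 𝐂[ι (tt j)])).trans (inf_le_left.trans inf_le_left)
    refine le_O h a ((le_Od ?_ (im_odd h a (Od_odd _)) fun y hy => ?_).trans (l.l2 i j h1 h2 h3))
    · rintro _ ⟨x, hx, rfl⟩
      have := Od_le _ hx
      exact ⟨⟨trivial, (down h x.2 (Cj.of_cent this.1.2)).cent⟩, (down h x.2 (Cj.of_cent this.2)).cent⟩
    · obtain ⟨g, hg, rfl, e⟩ := lift s h y
      exact im_norm h hg (le_norm_Od _ ⟨⟨hg, (e _ _ (Cj.of_cent hy.1.2)).cent⟩,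
        (e _ _ (Cj.of_cent hy.2)).cent⟩)
  · have a := mul_mem (mul_mem hy (mC (ι := ι) (tt i))) (inv_mem hy)
    refine (h.ker _ (mul_mem a (mC _))).1 ?_
    rw [h.mul _ a _ (mC _), qcj h hy (mC _), h.emb]
    refine mem_bot.1 (l.l3 i j k h1 h2 h3 h4 h5 h6 _ trivial (o.of_dvd_nat ?_)
      (down h hy (Cj.of_cent c1)).cent (down h hy (Cj.of_cent c2)).cent)
    exact (orderOf_map_dvd (hom h) ⟨y, hy⟩).trans (Subgroup.orderOf_mk y hy).dvd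
  · obtain ⟨g, hg, rfl, e⟩ := lift s h y
    exact mem_im h (mem_sup_left (mem_sup_right (norm_of fun x hx =>
      (img hy hx).imp fun x' p => ⟨p.1, e _ _ p.2⟩))) hg
  · obtain ⟨g, hg, rfl, e⟩ := lift s h y
    exact mem_im h (mem_sup_right ⟨⟨hg, (e _ _ (Cj.of_cent hy.1.2)).cent⟩,
      (e _ _ (Cj.of_cent hy.2)).cent⟩) hg

open L2 in
theorem Qu.locI {Y : Type} [Group Y] {ι' : M →* Y} {q : G → Y} (s : Sy ι) (h : Qu ι ι' q) (l : LocI ι' ⊤ ⊥) :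
    LocI ι 𝐂[ι z] (Oc (ι z)) := by
  have := fin h
  refine ⟨fun X o a n => le_O h a (l.le _ (im_odd h a o) le_top ?_),
    L2.up h (le_sup_left.trans (le_sup_left.trans le_sup_left))
      (l.gen.trans (sup_le (sup_le (sup_le bot_le ?_) fun y hy => ?_) fun y hy => ?_))⟩
  · rintro _ ⟨x, hx, rfl⟩
    exact h.emb x ▸ im_norm h (mC x) (n ⟨x, hx, rfl⟩)
  · rintro _ ⟨x, rfl⟩
    exact h.emb x ▸ mem_im h (mem_sup_left (mem_sup_left (mem_sup_right ⟨x, rfl⟩))) (mC x)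
  · obtain ⟨g, hg, rfl, e⟩ := lift s h y
    exact mem_im h (mem_sup_left (mem_sup_right ⟨hg, (e _ _ (Cj.of_cent hy.2)).cent⟩)) hg
  · obtain ⟨g, hg, rfl, e⟩ := lift s h y
    exact mem_im h (mem_sup_right ⟨hg, (e _ _ (Cj.of_cent hy.2)).cent⟩) hg

open L2 in
theorem Qu.nf {Y : Type} [Group Y] {ι' : M →* Y} {q : G → Y} (h : Qu ι ι' q) (o : Oc (ι z) = ⊥) (t : NF ι' = ⊤) :
    𝐂[ι z] ≤ NF ι := by
  intro g hg
  refine norm_of fun x hx => (img (t.ge (mem_top (q g))) hx).imp fun x' p => ⟨p.1, ?_⟩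
  refine inj h o (mul_mem (mul_mem hg (mC x)) (inv_mem hg)) (mC x') ?_
  rw [qcj h hg (mC x), h.emb, h.emb, p.2.eq]

open L2 in
theorem Qu.om {Y : Type} [Group Y] {ι' : M →* Y} {q : G → Y} (h : Qu ι ι' q) (o : Oc (ι z) = ⊥)
    {ψ' : GL (Fin 6) F → Y} (t : OM ⊤ ι' F ψ') : ∃ ψ, OM 𝐂[ι z] ι F ψ := by
  choose f hf e using h.sur
  refine ⟨fun g => f (ψ' g), t.q8, fun g hg g' hg' => inj h o (hf _) (mul_mem (hf _) (hf _)) ?_,
    fun g hg k => t.inj g hg ?_, fun g _ => hf _, fun i => inj h o (hf _) (mC _) ?_, fun x => ?_,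
    fun y hy => ?_, fun y hy k => ?_⟩
  · rw [h.mul _ (hf _) _ (hf _), e, e, e, t.mul g hg g' hg']
  · rw [← e (ψ' g), k, q1 h]
  · rw [e, h.emb, t.rfl]
  · obtain ⟨g, hg, k⟩ := t.sur x
    exact ⟨g, hg, inj h o (hf _) (mC _) (by rw [e, h.emb, k])⟩
  · obtain ⟨s, hs, k⟩ := t.act (q y) trivial
    refine ⟨s, hs, fun g hg => ⟨(k g hg).1,
      inj h o (mul_mem (mul_mem hy (hf _)) (inv_mem hy)) (hf _) ?_⟩⟩
    rw [qcj h hy (hf _), e, e, (k g hg).2]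
  · refine (t.cen (q y) trivial fun g hg => ?_).imp (fun a => inj h o hy (one_mem _) ?_)
      fun a => inj h o hy (mC _) ?_
    · rw [← e (ψ' g), ← h.mul _ hy _ (hf _), k g hg, h.mul _ (hf _) _ hy]
    · rw [a, q1 h]
    · rw [a, h.emb]

end H24.T12
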