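import Cfsg.Agent.Lib.A12.Defs2
import Cfsg.Agent.Lib.A12.MO
import Cfsg.Agent.Lib.A12.GEN
/-! Package ML of `blueprint/A12/README.md`. -/
set_option autoImplicit false
set_option linter.unusedSectionVars false
namespace H24.T12
open Subgroup H1.A10 H45 H69 Gold Cfsg H67 Matrix

variable {G : Type} [Group G] [Finite G] {ι : M →* G} {π : G → B} {F : Type} [Field F] [Fintype F]
  {H L : Subgroup G} {ψ : GL (Fin 6) F → G} {σ : G} {n : ℕ}
  {J : Type} [Fintype J] [DecidableEq J] {Q : QuadraticForm F (J → F)} {θ : L →* GL J F}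

namespace ML

theorem two_sq (q : Q8 F) (N : F) : ∃ α β : F, α ^ 2 + β ^ 2 = N := by
  obtain ⟨α, β, h⟩ := FiniteField.exists_root_sum_quadratic (R := F) (f := Polynomial.X ^ 2)
    (g := Polynomial.X ^ 2 - Polynomial.C N) (Polynomial.degree_X_pow 2)
    (Polynomial.degree_X_pow_sub_C (by decide) _) (by rcases q with q | q <;> omega)
  refine ⟨α, β, ?_⟩
  simp only [Polynomial.eval_sub, Polynomial.eval_pow, Polynomial.eval_X, Polynomial.eval_C] at h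
  linear_combination h

theorem rf_RG (i : Fin n) : (rf i : GL (Fin n) F) ∈ RG F n := mem_sup_right (subset_closure ⟨i, rfl⟩)

theorem cj (o : OM H ι F ψ) {g h : GL (Fin 6) F} (hg : g ∈ RG F 6) (hh : h ∈ RG F 6) :
    ψ g * ψ h * (ψ g)⁻¹ = ψ (g * h * g⁻¹) := by
  rw [o.mul _ (mul_mem hg hh) _ (inv_mem hg), o.mul _ hg _ hh, o.inv hg]

theorem tt_cent (o : OM H ι F ψ) {y : G} (hy : y ∈ H) (i : Fin 6) (h : y * ψ (rf i) * y⁻¹ = ψ (rf i)) :
    y ∈ 𝐂[ι (tt i.castSucc)] := by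
  rw [o.rfl] at h
  have e : ∀ i : Fin 6, dd i.castSucc 6 * z = tt i.castSucc := by decide +kernel
  exact ((Cj.mul h (Cj.of_cent (o.cz hy))).congr (e i) (e i)).cent

theorem l3 (o : OM H ι F ψ) {i j k : Fin 6} (ij : i ≠ j) (ik : i ≠ k) (jk : j ≠ k) {y : G} (hy : y ∈ H)
    (hj : y ∈ 𝐂[ι (dd i.castSucc j.castSucc)]) (hk : y ∈ 𝐂[ι (dd i.castSucc k.castSucc)]) :
    y ∈ 𝐂[ι (tt i.castSucc)] := by
  obtain ⟨s, hs, a⟩ := o.act y hy
  have z0 : ∀ j, i ≠ j → y ∈ 𝐂[ι (dd i.castSucc j.castSucc)] → ∀ l, l ≠ i → l ≠ j → gact s (ev i) l = 0 :=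
    fun j ij hj l li lj => by
      have m := mul_mem (rf_RG (F := F) i) (rf_RG j)
      have e := (a _ m).2
      rw [o.pdd, (Cj.of_cent hj).eq, ← o.pdd] at e
      have e1 := gamAut_gact s (rf i * rf j) (ev i)
      rw [show gamAut _ F s (rf i * rf j) = rf i * rf j from (o.eq m (a _ m).1 e).symm] at e1
      have e2 : (rf i * rf j : GL (Fin 6) F).val *ᵥ ev i = (-1 : F) • ev i := by
        funext l
        rw [Units.val_mul, rf_val, rf_val, diagonal_mul_diagonal, mulVec_diagonal]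
        by_cases h : l = i
        · subst h; simp [ij]
        · simp [h]
      rw [e2, gact_smul, Units.val_mul, rf_val, rf_val, diagonal_mul_diagonal] at e1
      have e3 := congrFun e1 l
      simp only [mulVec_diagonal, if_neg li, if_neg lj, map_neg, map_one, Pi.smul_apply, smul_eq_mul] at e3
      exact (mul_eq_zero.1 (show 2 * gact s (ev i) l = 0 by linear_combination e3)).resolve_left o.q8.two
  have e : gact s (ev i) = gact s (ev i) i • ev i := by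
    funext l
    by_cases h : l = i
    · subst h; simp
    · by_cases h' : l = j
      · rw [z0 k ik hk l h (h' ▸ jk)]; simp [h]
      · rw [z0 j ij hj l h h']; simp [h]
  have c0 : gact s (ev i) i ≠ 0 := fun c => by
    rw [c, zero_smul] at e
    have := gact_inv s⁻¹ (ev i : Fin 6 → F)
    rw [inv_inv, e, ← zero_smul F (0 : Fin 6 → F), gact_smul, map_zero, zero_smul] at this
    simpa using congrFun this i
  refine tt_cent o hy i ?_
  rw [(a _ (rf_RG i)).2, ga_rv hs, e, rv_smul c0]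

/-- the elements mapped into `K` -/
def KK (o : OM H ι F ψ) (K : Subgroup G) : Subgroup (GL (Fin 6) F) where
  carrier := {g | g ∈ RG F 6 ∧ ψ g ∈ K}
  one_mem' := ⟨one_mem _, o.one ▸ one_mem _⟩
  mul_mem' {a b} ha hb := ⟨mul_mem ha.1 hb.1, o.mul a ha.1 b hb.1 ▸ mul_mem ha.2 hb.2⟩
  inv_mem' ha := ⟨inv_mem ha.1, o.inv ha.1 ▸ inv_mem ha.2⟩

theorem pm_NE (s : Sy ι) (o : OM H ι F ψ) {ρ : Equiv.Perm (Fin 6)} (h : Equiv.Perm.sign ρ = 1) :
    ψ (pm F ρ) ∈ NE ι := by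
  have k : ∀ i, Cj ι (ψ (pm F ρ)) (a (d i)) (dd (ρ i).castSucc 6) := fun i => by
    have e : ∀ i : Fin 6, a (d i) = dd i.castSucc 6 := by decide +kernel
    rw [Cj, e, ← o.rfl, ← o.rfl, cj o (mem_sup_left (pm_mem h)) (rf_RG i), pm_rf]
  refine wcE s fun x hx => ?_
  rw [eq_a hx]
  refine V.ind (q := fun u => ∃ y, Cj ι (ψ (pm F ρ)) (a u) y) ⟨1, Cj.one _⟩ (fun u i ⟨y, p⟩ => ?_) x.f
  exact ⟨_, (p.mul (k i)).congr (a_add _ _).symm rfl⟩

theorem l4 (s : Sy ι) (o : OM H ι F ψ) {K : Subgroup G} (h1 : NE ι ≤ K)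
    (h2 : H ⊓ 𝐂[ι (tt 4)] ⊓ 𝐂[ι (tt 5)] ≤ K) : RG F 6 ≤ KK o K := by
  have t2 := o.q8.two
  have pv : ∀ (ρ : Equiv.Perm (Fin 6)) (x : Fin 6 → F) i j, ρ i = j → ((pm F ρ).val *ᵥ x) j = x i :=
    fun ρ x i j e => e ▸ pm_mulVec ρ x i
  have c45 : ∀ g ∈ RG F 6, g * rf 4 * g⁻¹ = rf 4 → g * rf 5 * g⁻¹ = rf 5 → g ∈ KK o K := fun g hg a b =>
    ⟨hg, h2 ⟨⟨o.le g hg, tt_cent o (o.le g hg) 4 (by rw [cj o hg (rf_RG _), a])⟩,
      tt_cent o (o.le g hg) 5 (by rw [cj o hg (rf_RG _), b])⟩⟩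
  have z45 : ∀ x, QS F 6 x = 1 → x 4 = 0 → x 5 = 0 → rv x ∈ KK o K := fun x hx a b => by
    have k : ∀ i, x i = 0 → rv x * rf i * (rv x)⁻¹ = rf i := fun i h => mul_inv_eq_iff_eq_mul.2
      ((rv_comm t2 (hx.trans_ne one_ne_zero) ((OB.ev1 i).trans_ne one_ne_zero)).2 (.inr (by simp [h])))
    exact c45 _ (rv_RG t2 (by norm_num) hx) (k 4 a) (k 5 b)
  have mv : ∀ g ∈ KK o K, ∀ x, rv (g.val *ᵥ x) ∈ KK o K → rv x ∈ KK o K := fun g hg x h => by
    rw [← (iso_RG hg.1).conj] at h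
    exact (Subgroup.mul_mem_cancel_left _ hg).1 ((Subgroup.mul_mem_cancel_right _ (inv_mem hg)).1 h)
  have pk : ∀ ρ : Equiv.Perm (Fin 6), Equiv.Perm.sign ρ = 1 → pm F ρ ∈ KK o K := fun ρ h =>
    ⟨mem_sup_left (pm_mem h), h1 (pm_NE s o h)⟩
  have B0 : ∀ x, QS F 6 x = 1 → x 0 ^ 2 + x 1 ^ 2 + x 2 ^ 2 + x 3 ^ 2 ≠ 0 → rv x ∈ KK o K := fun x hx hN => by
    obtain ⟨α, β, e⟩ := two_sq o.q8 (x 0 ^ 2 + x 1 ^ 2 + x 2 ^ 2 + x 3 ^ 2)
    obtain ⟨g, hg, k⟩ := wit t2 (n := 6) (by norm_num) (k := 3) (by norm_num)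
      ![1, 1, x 0 ^ 2 + x 1 ^ 2 + x 2 ^ 2 + x 3 ^ 2] (fun i => by fin_cases i <;> simp [hN])
      ![ev 4, ev 5, ![x 0, x 1, x 2, x 3, 0, 0]] ![ev 4, ev 5, ![α, β, 0, 0, 0, 0]]
      (fun i j => by fin_cases i <;> fin_cases j <;> simp [dotProduct, Fin.sum_univ_succ, sq, add_assoc])
      (fun i j => by fin_cases i <;> fin_cases j <;> simp [dotProduct, Fin.sum_univ_succ, ← e, ← sq])
    have i := iso_RG (mem_sup_left hg : g ∈ RG F 6)
    have k4 : g.val *ᵥ ev 4 = ev 4 := k 0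
    have k5 : g.val *ᵥ ev 5 = ev 5 := k 1
    have k0 : g.val *ᵥ ![x 0, x 1, x 2, x 3, 0, 0] = ![α, β, 0, 0, 0, 0] := k 2
    have kx : g.val *ᵥ x = ![α, β, 0, 0, x 4, x 5] := by
      rw [show x = ![x 0, x 1, x 2, x 3, 0, 0] + x 4 • ev 4 + x 5 • ev 5 by
        funext l; simp only [Pi.add_apply, Pi.smul_apply]; fin_cases l <;> simp, mulVec_add, mulVec_add,
        mulVec_smul, mulVec_smul, k4, k5, k0]
      funext l; simp only [Pi.add_apply, Pi.smul_apply]; fin_cases l <;> simp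
    refine mv g (c45 g (mem_sup_left hg) (by rw [i.conj, k4]) (by rw [i.conj, k5])) x
      (mv _ (pk (Equiv.swap 2 4 * Equiv.swap 3 5) (by decide)) _ (z45 _ ((iso_pm _ _).trans ((i x).trans hx)) ?_ ?_))
    · exact (pm_mulVec _ _ 2).trans (by rw [kx]; rfl)
    · exact (pm_mulVec _ _ 3).trans (by rw [kx]; rfl)
  refine (genR t2 (by norm_num)).trans ((closure_le _).2 ?_)
  rintro _ ⟨x, hx, rfl⟩
  by_cases a : x 0 ^ 2 + x 1 ^ 2 + x 2 ^ 2 + x 3 ^ 2 = 0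
  swap
  · exact B0 x hx a
  by_cases b : x 0 ^ 2 + x 1 ^ 2 + x 4 ^ 2 + x 5 ^ 2 = 0
  swap
  · refine mv _ (pk (Equiv.swap 2 4 * Equiv.swap 3 5) (by decide)) _ (B0 _ ((iso_pm _ _).trans hx) ?_)
    rwa [pv _ x 0 0 (by decide), pv _ x 1 1 (by decide), pv _ x 4 2 (by decide), pv _ x 5 3 (by decide)]
  refine mv _ (pk (Equiv.swap 0 4 * Equiv.swap 1 5) (by decide)) _ (B0 _ ((iso_pm _ _).trans hx) ?_)
  rw [pv _ x 4 0 (by decide), pv _ x 5 1 (by decide), pv _ x 2 2 (by decide), pv _ x 3 3 (by decide)]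
  rw [QS_apply, Fin.sum_univ_six] at hx
  exact fun c => t2 (by linear_combination a + b + c - 2 * hx)

end ML

theorem OM.loc7 (s : Sy ι) (o : OM ⊤ ι F ψ) : Loc7 ι ⊤ ⊥ := by
  refine ⟨fun i j ij hi hj => o.l2 ij hi hj, fun i j k ij ik jk hi hj hk y hy _ h1 h2 => ?_, fun y hy => ?_⟩
  · obtain ⟨i, rfl⟩ := Fin.exists_castSucc_eq.2 (show i ≠ Fin.last 6 from hi)
    obtain ⟨j, rfl⟩ := Fin.exists_castSucc_eq.2 (show j ≠ Fin.last 6 from hj)
    obtain ⟨k, rfl⟩ := Fin.exists_castSucc_eq.2 (show k ≠ Fin.last 6 from hk)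
    have := ML.l3 o (fun e => ij (congrArg _ e)) (fun e => ik (congrArg _ e)) (fun e => jk (congrArg _ e)) hy h1 h2
    rw [(Cj.of_cent this).eq, ← map_mul, show tt i.castSucc * tt i.castSucc = 1 from a_sq _, map_one]
    exact one_mem _
  · obtain ⟨g, hg, k⟩ := o.fratt s hy
    exact (Subgroup.mul_mem_cancel_right _ (ML.l4 s o (le_sup_of_le_left le_sup_right) le_sup_right hg).2).1
      (mem_sup_left (mem_sup_right k))

end H24.T12
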