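import Cfsg.Agent.Lib.A12.OB2
/-! The second half of package MO of `blueprint/A12/README.md`. -/
set_option autoImplicit false
namespace H24.T12.MOl
open Subgroup H1.A10 H45 H69 Gold Cfsg H67 Matrix

/-- commuting involutions centralise or invert some invariant subgroup -/
theorem pick {A J : Type} [Group A] [Finite A] {r : J → A} (r2 : ∀ k, r k * r k = 1)
    (rc : ∀ k l, r k * r l = r l * r k) (L : List J) {X : Subgroup A} (ne : X ≠ ⊥)
    (nm : ∀ k, ∀ g ∈ X, r k * g * r k ∈ X) : ∃ Z ≤ X, Z ≠ ⊥ ∧ (∀ k, ∀ g ∈ Z, r k * g * r k ∈ Z) ∧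
      ∀ k ∈ L, (∀ g ∈ Z, r k * g = g * r k) ∨ ∀ g ∈ Z, r k * g * r k = g⁻¹ := by
  have r3 : ∀ k x, r k * (r k * x) = x := fun k x => by rw [← mul_assoc, r2, one_mul]
  induction L with
  | nil => exact ⟨X, le_rfl, ne, nm, by simp⟩
  | cons k L ih =>
    obtain ⟨Z, le, ne, nm, h⟩ := ih
    by_cases e : Z ⊓ 𝐂[r k] = ⊥
    · refine ⟨Z, le, ne, nm, List.forall_mem_cons.2 ⟨.inr fun g hg => ?_, h⟩⟩
      let f : Z →* Z := MonoidHom.mk' (fun w => ⟨r k * w * r k, nm k _ w.2⟩) fun a b => Subtype.ext (by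
        show r k * (a * b) * r k = r k * a * r k * (r k * b * r k)
        simp only [mul_assoc, r3])
      refine congrArg Subtype.val (congrFun (MonoidHom.FixedPointFree.coe_eq_inv_of_involutive (φ := f)
        (fun w ew => Subtype.ext (mem_bot.1 (e ▸ ⟨w.2, mem_cent1_iff.2 ?_⟩))) fun w => Subtype.ext ?_) ⟨g, hg⟩)
      · have ew : r k * w * r k = w := congrArg Subtype.val ew
        rw [← r3 k (w * r k), ← mul_assoc (r k) w, ew]
      · show r k * (r k * w * r k) * r k = w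
        simp only [mul_assoc, r3, r2, mul_one]
    · refine ⟨Z ⊓ 𝐂[r k], inf_le_left.trans le, e, fun l g hg => ⟨nm l g hg.1, mem_cent1_iff.2 ?_⟩,
        List.forall_mem_cons.2 ⟨.inl fun g hg => (mem_cent1_iff.1 hg.2).symm, fun l hl =>
          (h l hl).imp (fun q g hg => q g hg.1) fun q g hg => q g hg.1⟩⟩
      rw [mul_assoc, rc l k, ← mul_assoc, mul_assoc (r l), mem_cent1_iff.1 hg.2, ← mul_assoc, rc l k]
      simp only [mul_assoc]

variable {F : Type} [Field F] [Fintype F] {g : GL (Fin 6) F}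

theorem iso_dot (h2 : (2 : F) ≠ 0) (hg : Iso g) (x y : Fin 6 → F) : (g.val *ᵥ x) ⬝ᵥ (g.val *ᵥ y) = x ⬝ᵥ y := by
  have a := hg (x + y)
  have b := hg x
  have c := hg y
  simp only [QS_dot, mulVec_add, add_dotProduct, dotProduct_add] at a b c
  rw [dotProduct_comm (g.val *ᵥ y) (g.val *ᵥ x), dotProduct_comm y x] at a
  exact mul_left_cancel₀ h2 (by linear_combination a - b - c)

theorem iso_tr (h2 : (2 : F) ≠ 0) (hg : Iso g) : g.valᵀ * g.val = 1 := by
  ext s t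
  have := iso_dot h2 hg (ev s) (ev t)
  simp only [mulVec_single_one, single_dotProduct, one_mul] at this
  rw [mul_apply, one_apply]
  simpa [dotProduct, Pi.single_apply, eq_comm] using this

theorem iso_inv (h2 : (2 : F) ≠ 0) (hg : Iso g) : (g⁻¹).val = g.valᵀ := by
  rw [← one_mul (g⁻¹).val, ← iso_tr h2 hg, mul_assoc, Units.mul_inv, mul_one]

theorem cent_ent (h2 : (2 : F) ≠ 0) {t s : Fin 6} (h : rf t * g = g * rf t) (e : s ≠ t) :
    g.val s t = 0 ∧ g.val t s = 0 := by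
  have h' := congrArg Units.val h
  rw [Units.val_mul, Units.val_mul, rf_val] at h'
  have a := congrFun (congrFun h' s) t
  have b := congrFun (congrFun h' t) s
  simp only [diagonal_mul, mul_diagonal, e, if_true, if_false] at a b
  exact ⟨mul_left_cancel₀ h2 (by linear_combination a), mul_left_cancel₀ h2 (by linear_combination -b)⟩

theorem inv_ent (h2 : (2 : F) ≠ 0) (hg : Iso g) {t : Fin 6} (h : rf t * g * rf t = g⁻¹) (a b : Fin 6) :
    (if a = t then -1 else 1) * g.val a b * (if b = t then -1 else 1) = g.val b a := by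
  have h' := congrArg Units.val h
  rw [Units.val_mul, Units.val_mul, rf_val, iso_inv h2 hg] at h'
  have a := congrFun (congrFun h' a) b
  simpa only [diagonal_mul, mul_diagonal, transpose_apply] using a

theorem two_more : ∀ i j k l : Fin 6, ∃ m n : Fin 6, m ≠ n ∧ (m ≠ i ∧ m ≠ j ∧ m ≠ k ∧ m ≠ l) ∧
    n ≠ i ∧ n ≠ j ∧ n ≠ k ∧ n ≠ l := by decide +kernel

theorem core (h2 : (2 : F) ≠ 0) {X : Subgroup (GL (Fin 6) F)} (iso : ∀ g ∈ X, Iso g)
    (ni : ∀ g ∈ X, g * g = 1 → g = 1) {i j : Fin 6} (ci : ∀ g ∈ X, rf i * g = g * rf i)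
    (cj : ∀ g ∈ X, rf j * g = g * rf j)
    (nm : ∀ x, QS F 6 x = 1 → x i = 0 → x j = 0 → ∀ g ∈ X, rv x * g * rv x ∈ X) : X = ⊥ := by
  by_contra ne
  obtain ⟨Z, le, ne, -, h⟩ := pick (r := rf) (fun k => rv_sq _) (fun k l => Units.ext (by
      rw [Units.val_mul, Units.val_mul, rf_val, rf_val, diagonal_mul_diagonal, diagonal_mul_diagonal]
      simp only [mul_comm])) (List.finRange 6) ne fun k g hg => by
    by_cases a : k = i
    · rwa [a, ci g hg, mul_assoc, rv_sq, mul_one]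
    by_cases b : k = j
    · rwa [b, cj g hg, mul_assoc, rv_sq, mul_one]
    exact nm _ (OB.ev1 k) (Pi.single_eq_of_ne' a _) (Pi.single_eq_of_ne' b _) g hg
  obtain ⟨⟨f, hf⟩, f1⟩ := ne_bot_iff_exists_ne_one.1 ne
  have hg : f * f ∈ Z := mul_mem hf hf
  have g1 : f * f ≠ 1 := fun e => f1 (Subtype.ext (ni f (le hf) e))
  have ft := iso_tr h2 (iso f (le hf))
  have dg : ∀ t, (∀ g ∈ Z, rf t * g = g * rf t) → (f * f).val t t = 1 := fun t ht => by
    rw [← one_apply_eq (α := F) t, ← ft, Units.val_mul, mul_apply, mul_apply]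
    refine Finset.sum_congr rfl fun s _ => ?_
    by_cases e : s = t
    · rw [e, transpose_apply]
    · rw [(cent_ent h2 (ht f hf) e).1, mul_zero, mul_zero]
  generalize f * f = g at hg g1 dg
  have ig := iso g (le hg)
  have gt := iso_tr h2 ig
  obtain ⟨k, l, kl⟩ : ∃ k l, g.val k l ≠ g.val l k := by
    by_contra! e
    refine g1 (ni g (le hg) (Units.ext ?_))
    rw [Units.val_mul, Units.val_one, ← gt, show g.valᵀ = g.val from ext fun a b => e b a]
  have nkl : k ≠ l := fun e => kl (by rw [e])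
  have ct : ∀ t, t ≠ k → t ≠ l → ∀ g ∈ Z, rf t * g = g * rf t := fun t a b =>
    (h t (List.mem_finRange t)).resolve_right fun q => kl (by simpa [a.symm, b.symm] using inv_ent h2 ig (q g hg) k l)
  have nk : rf k * g ≠ g * rf k := fun q => kl (by rw [(cent_ent h2 q nkl.symm).1, (cent_ent h2 q nkl.symm).2])
  have nl : rf l * g ≠ g * rf l := fun q => kl (by rw [(cent_ent h2 q nkl).1, (cent_ent h2 q nkl).2])
  have lk : g.val l k = -g.val k l := by
    simpa [nkl.symm] using (inv_ent h2 ig (((h k (List.mem_finRange k)).resolve_left fun q => nk (q g hg)) g hg) k l).symm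
  have b0 : g.val k l ≠ 0 := fun e => kl (by rw [lk, e, neg_zero])
  have col : ∀ a b, (a = k ∨ a = l) → ∑ s, g.val s a * g.val s b = g.val k a * g.val k b + g.val l a * g.val l b :=
    fun a b e => Fintype.sum_eq_add k l nkl fun s hs => by
      rw [(cent_ent h2 (ct s hs.1 hs.2 g hg) (by rintro rfl; tauto)).2, zero_mul]
  have e1 := congrFun (congrFun gt k) k
  have e2 := congrFun (congrFun gt k) l
  simp only [mul_apply, transpose_apply, col k _ (.inl rfl), one_apply, nkl, if_true, if_false, lk] at e1 e2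
  have ll : g.val l l = g.val k k := mul_left_cancel₀ b0 (by linear_combination -e2)
  have a1 : 1 - g.val k k ≠ 0 := fun e => b0 (pow_eq_zero_iff two_ne_zero |>.1 (by
    linear_combination e1 + (1 + g.val k k) * e))
  obtain ⟨m, n, mn, ⟨mi, mj, mk, ml⟩, n1, nj, nk', nl'⟩ := two_more i j k l
  obtain ⟨a, b, ab⟩ := H29.exists_sq_add_sq h2 (1 - g.val k k)⁻¹
  obtain ⟨c, d, cd⟩ := H29.exists_sq_add_sq h2 (1 - (1 - g.val k k)⁻¹)
  have ki : k ≠ i := fun e => nk (e ▸ ci g (le hg))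
  have kj : k ≠ j := fun e => nk (e ▸ cj g (le hg))
  have li : l ≠ i := fun e => nl (e ▸ ci g (le hg))
  have lj : l ≠ j := fun e => nl (e ▸ cj g (le hg))
  have cm := fun s => cent_ent h2 (s := s) (ct m mk ml g hg)
  have cn := fun s => cent_ent h2 (s := s) (ct n nk' nl' g hg)
  set v : Fin 6 → F := a • ev k + b • ev l + c • ev m + d • ev n with hv
  have q1 : QS F 6 v = 1 := by
    simp [QS_dot, hv, nkl, nkl.symm, mn, mn.symm, mk, mk.symm, ml, ml.symm, nk', nk'.symm, nl', nl'.symm]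
    linear_combination ab + cd
  have q0 : (g.val *ᵥ v) ⬝ᵥ v = 0 := by
    simp [hv, mulVec_add, mulVec_smul, lk, ll, dg m (ct m mk ml), dg n (ct n nk' nl'), cm k mk.symm, cm l ml.symm,
      cm n mn.symm, cn k nk'.symm, cn l nl'.symm]
    linear_combination g.val k k * ab + cd - mul_inv_cancel₀ a1
  have q2 : QS F 6 (g.val *ᵥ v) ≠ 0 := by rw [ig, q1]; exact one_ne_zero
  have q3 : QS F 6 v ≠ 0 := by rw [q1]; exact one_ne_zero
  have mem : rv (g.val *ᵥ v) * rv v ∈ X := by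
    rw [← ig.conj, mul_assoc, mul_assoc, ← mul_assoc (rv v)]
    exact mul_mem (le hg) (nm v q1 (by simp [hv, ki.symm, li.symm, mi.symm, n1.symm])
      (by simp [hv, kj.symm, lj.symm, mj.symm, nj.symm]) _ (inv_mem (le hg)))
  have one := ni _ mem (by
    rw [mul_assoc, ← mul_assoc (rv v), ← (rv_comm h2 q2 q3).2 (.inr q0), mul_assoc, rv_sq, mul_one, rv_sq])
  obtain ⟨t, t0, e⟩ := rv_inj h2 q3 q2 (by rw [← one_mul (rv v), ← one, mul_assoc, rv_sq, mul_one])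
  rw [e, smul_dotProduct, ← QS_dot, q1, smul_eq_mul, mul_one] at q0
  exact t0 q0

variable {G : Type} [Group G] [Finite G] {ι : M →* G} {H : Subgroup G} {ψ : GL (Fin 6) F → G}

theorem ptt (o : OM H ι F ψ) (i : Fin 6) : ι (tt i.castSucc) = ι z * ψ (rf i) := by
  rw [← (o.ptt i).2, ← o.neg, ← o.mul _ (OB2.neg_mem o) _ (OB2.rf_mem i), neg_one_mul]

theorem cent_iff (o : OM H ι F ψ) (i : Fin 6) {y : G} (hy : y ∈ H) :
    y ∈ 𝐂[ι (tt i.castSucc)] ↔ y * ψ (rf i) = ψ (rf i) * y := by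
  rw [mem_cent1_iff, ptt o, ← mul_assoc, mem_cent1_iff.1 (o.cz hy), mul_assoc, mul_assoc, mul_right_inj]

theorem comm (o : OM H ι F ψ) {i j : Fin 6} {y : G} (hy : y ∈ Od (H ⊓ 𝐂[ι (tt i.castSucc)] ⊓ 𝐂[ι (tt j.castSucc)]))
    {x : Fin 6 → F} (hx : QS F 6 x = 1) (xi : x i = 0) (xj : x j = 0) : y * ψ (rv x) = ψ (rv x) * y := by
  have h2 := o.q8.two
  set K := H ⊓ 𝐂[ι (tt i.castSucc)] ⊓ 𝐂[ι (tt j.castSucc)]
  have rg := fun x (hx : QS F 6 x = 1) => rv_RG h2 (by norm_num) hx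
  have sq : ∀ x, QS F 6 x = 1 → ψ (rv x) * ψ (rv x) = 1 := fun x hx => by
    rw [← o.mul _ (rg x hx) _ (rg x hx), rv_sq, o.one]
  have nK : ∀ x, QS F 6 x = 1 → x i = 0 → x j = 0 → ∀ w ∈ Od K, ψ (rv x) * w * ψ (rv x) ∈ Od K := by
    intro x hx xi xj w hw
    have c : ∀ t : Fin 6, x t = 0 → ψ (rv x) ∈ 𝐂[ι (tt t.castSucc)] := fun t e => by
      rw [cent_iff o t (o.le _ (rg x hx)), ← o.mul _ (rg x hx) _ (OB2.rf_mem t), ← o.mul _ (OB2.rf_mem t) _ (rg x hx),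
        (rv_comm h2 (hx ▸ one_ne_zero) (OB.ev1 (F := F) t ▸ one_ne_zero)).2 (.inr (by simp [e]))]
    have := (mem_normalizer_iff.1 (le_norm_Od K ⟨⟨o.le _ (rg x hx), c i xi⟩, c j xj⟩) w).1 hw
    rwa [inv_eq_of_mul_eq_one_right (sq x hx)] at this
  let X : Subgroup (GL (Fin 6) F) := ((Od K).comap (OB2.hom o)).map (RG F 6).subtype
  have mX : ∀ g, g ∈ X ↔ g ∈ RG F 6 ∧ ψ g ∈ Od K := fun g =>
    ⟨by rintro ⟨g, hg, rfl⟩; exact ⟨g.2, hg⟩, fun h => ⟨⟨g, h.1⟩, h.2, rfl⟩⟩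
  have cc : ∀ t : Fin 6, K ≤ 𝐂[ι (tt t.castSucc)] → ∀ g ∈ X, rf t * g = g * rf t := fun t ht g hg => by
    obtain ⟨a, b⟩ := (mX g).1 hg
    refine o.eq (mul_mem (OB2.rf_mem t) a) (mul_mem a (OB2.rf_mem t)) ?_
    rw [o.mul _ (OB2.rf_mem t) _ a, o.mul _ a _ (OB2.rf_mem t), (cent_iff o t (o.le _ a)).1 (ht (Od_le K b))]
  have hX : X = ⊥ := core h2 (fun g hg => iso_RG ((mX g).1 hg).1) (fun g hg e => by
      obtain ⟨a, b⟩ := (mX g).1 hg
      exact o.inj g a ((Od_odd K).eq_one b ⟨1, by rw [pow_one, pow_two, ← o.mul _ a _ a, e, o.one]⟩))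
    (cc i (inf_le_left.trans inf_le_right)) (cc j inf_le_right) fun x hx xi xj g hg => by
      obtain ⟨a, b⟩ := (mX g).1 hg
      refine (mX _).2 ⟨mul_mem (mul_mem (rg x hx) a) (rg x hx), ?_⟩
      rw [o.mul _ (mul_mem (rg x hx) a) _ (rg x hx), o.mul _ (rg x hx) _ a]
      exact nK x hx xi xj _ b
  obtain ⟨s, -, hs⟩ := o.act y (Od_le K hy).1.1
  obtain ⟨a, b⟩ := hs _ (rg x hx)
  have : ga s (rv x) * rv x ∈ X := (mX _).2 ⟨mul_mem a (rg x hx), by
    rw [o.mul _ a _ (rg x hx), ← b, mul_assoc, mul_assoc, ← mul_assoc (ψ _)]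
    exact mul_mem hy (nK x hx xi xj _ (inv_mem hy))⟩
  rw [hX, mem_bot, ← rv_sq x, mul_left_inj] at this
  rwa [this, mul_inv_eq_iff_eq_mul] at b

/-- `OM.l2` from `OM.semi` -/
theorem l2 (o : OM H ι F ψ)
    (semi : ∀ {i j : Fin 6}, i ≠ j → ∀ {y : G}, y ∈ H → y ∈ 𝐂[ι (tt i.castSucc)] → y ∈ 𝐂[ι (tt j.castSucc)] →
      ∀ k : Fin 6, k ≠ i → k ≠ j → y ∈ 𝐂[ι (tt k.castSucc)] →
      (∀ x, QS F 6 x = 1 → x i = 0 → x j = 0 → y * ψ (rv x * rf k) = ψ (rv x * rf k) * y) →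
      ∃ e ∈ closure {ι z, ι (tt i.castSucc), ι (tt j.castSucc)}, y = e)
    {i j : Fin 7} (ij : i ≠ j) (hi : i ≠ 6) (hj : j ≠ 6) : Od (H ⊓ 𝐂[ι (tt i)] ⊓ 𝐂[ι (tt j)]) ≤ ⊥ := by
  obtain ⟨i, rfl⟩ := Fin.exists_castSucc_eq.2 hi
  obtain ⟨j, rfl⟩ := Fin.exists_castSucc_eq.2 hj
  intro y hy
  obtain ⟨⟨a, b⟩, c⟩ := Od_le _ hy
  obtain ⟨k, -, -, ⟨ki, kj, -⟩, -⟩ := two_more i j i j
  have ck := comm o hy (OB.ev1 k) (Pi.single_eq_of_ne' ki _) (Pi.single_eq_of_ne' kj _)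
  obtain ⟨e, he, rfl⟩ := semi (fun e => ij (by rw [e])) a b c k ki kj ((cent_iff o k a).2 ck) fun x hx xi xj => by
    rw [o.mul _ (rv_RG o.q8.two (by norm_num) hx) _ (OB2.rf_mem k), ← mul_assoc, comm o hy hx xi xj, mul_assoc, ck,
      mul_assoc]
  obtain ⟨u, hu, rfl⟩ := (closure_le (EE.map ι)).2 (by
    rintro _ (rfl | rfl | rfl) <;> exact mem_map_of_mem _ (by first | exact a_EE _ | decide)) he
  exact (Od_odd _).eq_one hy ⟨1, by rw [pow_one, sq, ← map_mul, eq_a hu, a_sq, map_one]⟩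

end H24.T12.MOl
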