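import Cfsg.Agent.Lib.A12.Defs2
import Cfsg.Agent.S0302
import Cfsg.Agent.S0303
import Cfsg.Agent.S2086
import Cfsg.Agent.S2089
import Cfsg.Agent.S2090
import Cfsg.Agent.S0243
import Cfsg.Agent.S0280
/-! Package ORD of `blueprint/A12/README.md`. -/
set_option autoImplicit false
namespace H24.T12
open Subgroup H1.A10 H45 H69 Gold Cfsg

variable {G : Type} [Group G] [Finite G] {ι : M →* G} {π : G → B} {g k : G}

namespace ORD

theorem inv_eq {Γ : Type*} [Group Γ] [Finite Γ] {c x y : Γ} (hx : x ∈ zpowers c) (hy : y ∈ zpowers c)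
    (x2 : x * x = 1) (y2 : y * y = 1) (x1 : x ≠ 1) (y1 : y ≠ 1) : x = y := by
  classical
  by_contra ne
  letI := Fintype.ofFinite (zpowers c)
  have h := IsCyclic.card_pow_eq_one_le (α := zpowers c) (n := 2) two_pos
  have h3 : ({1, ⟨x, hx⟩, ⟨y, hy⟩} : Finset (zpowers c)).card = 3 :=
    Finset.card_eq_three.2 ⟨_, _, _, fun e => x1 (congrArg Subtype.val e).symm,
      fun e => y1 (congrArg Subtype.val e).symm, fun e => ne (congrArg Subtype.val e), rfl⟩
  refine absurd (h3.ge.trans ((Finset.card_le_card fun a ha => ?_).trans h)) (by decide)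
  simp only [Finset.mem_insert, Finset.mem_singleton] at ha
  rcases ha with rfl | rfl | rfl <;> simp [sq, Subtype.ext_iff, x2, y2]

theorem mul2 {K L A : Type} [Group K] [Group L] [CommGroup A] (e : K ≃* L)
    (h : HasSchurMultiplier L A) (c : A) (hc : ∀ a : A, a ^ 9 ∈ zpowers c) : Mul2 K := by
  intro Γ _ _ σ hσ x y hx hy x2 y2 x1 y1
  have ek : (e.toMonoidHom.comp σ).ker = σ.ker := MonoidHom.ker_comp_of_injective _ _ e.injective
  obtain ⟨p, hp⟩ := h.2 Γ (e.toMonoidHom.comp σ) ⟨e.surjective.comp hσ.1, ek ▸ hσ.2.1, ek ▸ hσ.2.2⟩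
  have key : ∀ u : Γ, σ u = 1 → u * u = 1 → u ∈ zpowers (p c : Γ) := fun u hu u2 => by
    obtain ⟨a, ha⟩ := hp ⟨u, ek ▸ hu⟩
    obtain ⟨n, hn⟩ := hc a
    refine mem_zpowers_iff.2 ⟨n, ?_⟩
    have := congrArg (fun b => (p b : Γ)) hn
    simp only [map_zpow, map_pow, ha, coe_zpow, coe_pow] at this
    rw [this, show 9 = 2 * 4 + 1 from rfl, pow_succ, pow_mul, sq, u2, one_pow, one_mul]
  exact inv_eq (key x hx x2) (key y hy y2) x2 y2 x1 y1

theorem mul2c {K L : Type} [Group K] [Group L] (e : K ≃* L) {n : ℕ}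
    (h : HasCyclicSchurMultiplier L n) : Mul2 K := by
  obtain ⟨c, hc⟩ := IsCyclic.exists_generator (α := Multiplicative (ZMod n))
  exact mul2 e h c fun _ => hc _

theorem q8 {q d n a b c e : ℕ} (hq : Odd q) (hn : Odd n) (hd : d ∣ 4)
    (h : d * (128 * n) = a * b * c * e) (ha : q % 8 = 1 ∨ q % 8 = 7 → 32 ∣ a ∧ 2 ∣ b ∧ 16 ∣ c) :
    q % 8 = 3 ∨ q % 8 = 5 := by
  by_contra hc
  obtain ⟨h1, h2, h3⟩ := ha (by obtain ⟨k, hk⟩ := hq; omega)
  have h4 : 32 * 2 * 16 ∣ 4 * (128 * n) :=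
    ((mul_dvd_mul (mul_dvd_mul h1 h2) h3).mul_right e).trans (h ▸ mul_dvd_mul_right hd _)
  obtain ⟨k, hk⟩ := hn
  omega

theorem pw {q : ℕ} (h : q % 8 = 1 ∨ q % 8 = 7) :
    q ^ 4 % 32 = 1 ∧ q ^ 2 % 16 = 1 ∧ q ^ 4 % 16 = 1 ∧ q ^ 3 % 2 = 1 ∧ q ^ 4 % 2 = 1 := by
  have h1 : q ^ 4 % 32 = 1 := by
    have : q % 32 = 1 ∨ q % 32 = 9 ∨ q % 32 = 17 ∨ q % 32 = 25 ∨ q % 32 = 7 ∨ q % 32 = 15 ∨
      q % 32 = 23 ∨ q % 32 = 31 := by omega
    rcases this with e | e | e | e | e | e | e | e <;> simp [Nat.pow_mod, e]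
  have h2 : q ^ 2 % 16 = 1 := by
    have : q % 16 = 1 ∨ q % 16 = 9 ∨ q % 16 = 7 ∨ q % 16 = 15 := by omega
    rcases this with e | e | e | e <;> simp [Nat.pow_mod, e]
  have h3 : q % 2 = 1 := by omega
  exact ⟨h1, h2, by omega, by simp [Nat.pow_mod, h3], by omega⟩

end ORD

open ORD in
theorem ord {K : Type} [Group K] [Finite K] (hc : C128 K)
    (h : (∃ (F : Type) (_ : Field F) (_ : Fintype F), Odd (Fintype.card F) ∧
      Nonempty (K ≃* Matrix.ProjectiveSpecialLinearGroup (Fin 4) F)) ∨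
    (∃ (F : Type) (_ : Field F) (_ : Fintype F) (r : ℕ), Fintype.card F = r ^ 2 ∧ Odd r ∧
      Nonempty (K ≃* Cfsg.PSU 4 F r))) :
    Mul2 K ∧ ∃ (F : Type) (_ : Field F) (_ : Fintype F) (J : Type) (_ : Fintype J) (_ : DecidableEq J)
      (Q : QuadraticForm F (J → F)), Q8 F ∧ Fintype.card J = 6 ∧ H12.Nondeg Q ∧ Nonempty (K ≃* POmega F Q) := by
  obtain ⟨n, hn, hK⟩ := hc
  rcases h with ⟨F, _, _, ho, ⟨e⟩⟩ | ⟨F, _, _, r, hF, ho, ⟨e⟩⟩
  · have h1 : 1 < Fintype.card F := Fintype.one_lt_card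
    refine ⟨mul2c e (Cfsg.Agent.S2086.result rfl 4 (by norm_num) (by norm_num) ?_), ?_⟩
    · intro hm
      simp only [Set.mem_insert_iff, Set.mem_singleton_iff, Prod.mk.injEq] at hm
      obtain ⟨k, hk⟩ := ho
      omega
    obtain ⟨Q, hQ, nd⟩ := H67.nq_plus (F := F) 3
    obtain ⟨e'⟩ := Cfsg.Agent.S0302.result (F := F)
    refine ⟨F, inferInstance, inferInstance, _, inferInstance, inferInstance, Q, ?_, by simp, nd,
      ⟨hQ ▸ e.trans e'.symm⟩⟩
    have c := Cfsg.Agent.S0243.result (F := F) rfl 4 (by norm_num)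
    rw [← Nat.card_congr e.toEquiv, hK, Fin.prod_univ_four] at c
    unfold Q8
    generalize Fintype.card F = q at *
    have e3 : q ^ 4 - q ^ 3 = (q - 1) * q ^ 3 := by rw [Nat.sub_mul, one_mul, ← pow_succ']
    refine q8 (a := q ^ 4 - 1) (b := q ^ 4 - q) (c := q ^ 4 - q ^ 2) (e := q ^ 3) ho hn
      (Nat.gcd_dvd_left 4 (q - 1)) (Nat.eq_of_mul_eq_mul_left (Nat.sub_pos_of_lt h1) ?_) fun h => ?_
    · simp only [Fin.val_zero, Fin.val_one, Fin.val_two, pow_zero, pow_one] at c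
      rw [show ((3 : Fin 4) : ℕ) = 3 from rfl, e3] at c
      rw [mul_left_comm, c]; ring
    · obtain ⟨a1, a2, a3, a4, a5⟩ := pw h
      omega
  · have h1 : 1 < Fintype.card F := Fintype.one_lt_card
    obtain ⟨p, hp⟩ := CharP.exists F
    obtain ⟨m, pp, hm⟩ := FiniteField.card F p
    obtain ⟨k, -, rfl⟩ := (Nat.dvd_prime_pow pp).1 (show r ∣ p ^ (m : ℕ) by
      rw [← hm, hF]; exact dvd_pow_self r two_ne_zero)
    have k0 : k ≠ 0 := by rintro rfl; simp [hF] at h1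
    haveI := Fact.mk pp
    letI := Fintype.ofFinite (GaloisField p k)
    have h0 : Fintype.card (GaloisField p k) = p ^ k := by
      rw [← Nat.card_eq_fintype_card, GaloisField.card p k k0]
    generalize p ^ k = r at *
    refine ⟨?_, ?_⟩
    · by_cases h3 : r = 3
      · subst h3
        refine mul2 e (Cfsg.Agent.S2090.result hF) (Multiplicative.ofAdd (1, 0, 0)) fun a => ?_
        obtain ⟨j, hj⟩ := (by decide : ∀ a : Multiplicative (ZMod 4 × ZMod 3 × ZMod 3), ∃ j : Fin 4,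
          a ^ 9 = Multiplicative.ofAdd (1, 0, 0) ^ (j : ℕ)) a
        exact hj ▸ pow_mem (mem_zpowers _) _
      · refine mul2c e (Cfsg.Agent.S2089.result 4 r hF (by norm_num) (by omega) ?_)
        intro hm
        simp only [Set.mem_insert_iff, Set.mem_singleton_iff, Prod.mk.injEq] at hm
        obtain ⟨k, hk⟩ := ho
        omega
    obtain ⟨b, hb⟩ := H66.exists_aniso (F := GaloisField p k)
    obtain ⟨Q, hQ, nd⟩ := H67.nq_minus hb 2
    obtain ⟨e'⟩ := Cfsg.Agent.S0303.result h0 hF 1 b hb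
    refine ⟨GaloisField p k, inferInstance, inferInstance, _, inferInstance, inferInstance, Q, ?_,
      by simp, nd, ⟨hQ ▸ e.trans e'.symm⟩⟩
    have c := Cfsg.Agent.S0280.result hF 4 (by norm_num)
    rw [← Nat.card_congr e.toEquiv, hK] at c
    unfold Q8
    rw [h0]
    refine q8 (a := r ^ 4 - 1) (b := r ^ 3 + 1) (c := r ^ 2 - 1) (e := r ^ 6) ho hn
      (Nat.gcd_dvd_left 4 (r + 1)) (Nat.eq_of_mul_eq_mul_left (Nat.succ_pos r) ?_) fun h => ?_
    · simp only [Finset.prod_range_succ, Finset.prod_range_zero] at c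
      norm_num [Nat.even_iff] at c
      rw [mul_left_comm, Nat.succ_eq_add_one, c]; ring
    · obtain ⟨a1, a2, a3, a4, a5⟩ := pw h
      omega

end H24.T12
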