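import Cfsg.Agent.Lib.A12.Defs2
import Cfsg.Agent.Lib.A12.TAB
import Cfsg.Agent.S0217
/-! Package REC of `blueprint/A12/README.md`. -/
set_option autoImplicit false
namespace H24.T12
open Subgroup H1.A10 H45 H69 Gold Cfsg

variable {G : Type} [Group G] [Finite G] {ι : M →* G} {π : G → B} {g k : G}


namespace RECa

theorem sqE : ∀ x ∈ EE, x * x = 1 := by decide +kernel
theorem ttE (i : Fin 7) : tt i ∈ EE := a_EE _
theorem prod_tt : tt 0 * (tt 1 * (tt 2 * (tt 3 * (tt 4 * (tt 5 * tt 6))))) = 1 := by decide +kernel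
theorem par : ∀ S : Finset (Fin 7), Even S.card →
    ¬ (0 ∈ S ↔ (1 ∈ S ↔ (2 ∈ S ↔ (3 ∈ S ↔ (4 ∈ S ↔ (5 ∈ S ↔ 6 ∈ S)))))) := by decide +kernel
theorem eaE : IsElementaryAbelian 2 (EE.map ι) := ea_map sqE
theorem E_cent {R : Subgroup M} (hR : R ≤ EE) : EE.map ι ≤ 𝐂(R.map ι) :=
  H43.ea_le_centralizer eaE (map_mono hR)
theorem E_c1 {x : M} (hx : x ∈ EE) : EE.map ι ≤ 𝐂[ι x] :=
  H43.ea_le_centralizer_singleton eaE (mem_map_of_mem ι hx)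
theorem E_norm (i : Fin 7) {R : Subgroup M} (hR : R ≤ EE) :
    EE.map ι ≤ 𝐍(Oc (ι (tt i)) ⊓ 𝐂(R.map ι)) :=
  le_normalizer_inf ((E_c1 (ttE i)).trans (cent_norm_Oc _)) ((E_cent hR).trans le_normalizer)

end RECa

open RECa

theorem genH {X A K : Subgroup G} (o : OddS X) (ea : ∀ x ∈ A, x * x = 1) (hA : A ≤ 𝐍(X)) (ne : A ≠ ⊥)
    (h : ∀ R ≤ A, R.relIndex A = 2 → X ⊓ 𝐂(R) ≤ K) : X ≤ K := by
  exact H43.le_of_forall_hyp (p := 2) (ea_of_sq ea) ne hA o fun R hR => h R hR.1 hR.2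

theorem gen4 {X K : Subgroup G} (o : OddS X) {x y : G} (x2 : x * x = 1) (y2 : y * y = 1) (cm : x * y = y * x)
    (hx : x ∈ 𝐍(X)) (hy : y ∈ 𝐍(X)) (h1 : X ⊓ 𝐂[x] ≤ K) (h2 : X ⊓ 𝐂[y] ≤ K) (h3 : X ⊓ 𝐂[x * y] ≤ K) : X ≤ K := by
  have t : X ⊓ 𝐂[(1 : G)] = X := inf_eq_left.2 fun g _ => mem_cent1_iff.2 (by simp)
  by_cases x1 : x = 1
  · rwa [x1, t] at h1
  by_cases y1 : y = 1
  · rwa [y1, t] at h2
  by_cases n : y = x
  · rwa [n, x2, t] at h3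
  exact H13.PS.gen4 x2 y2 x1 y1 n cm o hx hy h1 h2 h3

theorem genS {X K : Subgroup G} (o : OddS X) (hE : EE.map ι ≤ 𝐍(X)) (S : Finset (Fin 7)) (ev : Even S.card)
    (hS : ∀ i ∈ S, X ≤ 𝐂[ι (tt i)]) (h : ∀ i ∉ S, X ⊓ 𝐂[ι (tt i)] ≤ K) : X ≤ K := by
  obtain ⟨j, hj⟩ : ∃ j, j ∉ S := by
    by_contra! hc
    exact par S ev (by simp [hc])
  have key : X ⊓ 𝐂(EE.map ι) ≤ K :=
    (inf_le_inf_left X (cent_le_cent1 (mem_map_of_mem ι (ttE j)))).trans (h j hj)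
  by_cases ne : EE.map ι = ⊥
  · refine le_trans (le_inf le_rfl ?_) key
    rw [ne]
    intro g _ y hy
    rw [mem_bot.1 hy, one_mul, mul_one]
  refine genH o (fun x hx => ea_sq eaE hx) hE ne fun R hR hi => ?_
  by_cases c1 : ∃ i ∉ S, ι (tt i) ∈ R
  · obtain ⟨i, h1, h2⟩ := c1
    exact (inf_le_inf_left X (cent_le_cent1 h2)).trans (h i h1)
  by_cases c2 : ∃ i ∈ S, ι (tt i) ∉ R
  · obtain ⟨i, h1, h2⟩ := c2
    refine le_trans ?_ key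
    rw [← H43.Hyp.sup_zpowers (p := 2) ⟨hR, hi⟩ (mem_map_of_mem ι (ttE i)) h2, centralizer_sup,
      centralizer_zpowers]
    exact le_inf inf_le_left (le_inf inf_le_right (inf_le_left.trans (hS i h1)))
  exfalso
  push Not at c1 c2
  have e : ∀ i, i ∈ S ↔ ι (tt i) ∈ R := fun i => ⟨c2 i, fun h1 => by_contra fun h2 => c1 i h2 h1⟩
  have m : ∀ x ∈ EE, ∀ y ∈ EE, ι (x * y) ∈ R ↔ (ι x ∈ R ↔ ι y ∈ R) := fun x hx y hy => by
    rw [map_mul]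
    exact (R.subgroupOf (EE.map ι)).mul_mem_iff_of_index_two hi (a := ⟨_, mem_map_of_mem ι hx⟩)
      (b := ⟨_, mem_map_of_mem ι hy⟩)
  refine par S ev ?_
  simp only [e]
  rw [← m _ (ttE 5) _ (ttE 6), ← m _ (ttE 4) _ (by decide), ← m _ (ttE 3) _ (by decide),
    ← m _ (ttE 2) _ (by decide), ← m _ (ttE 1) _ (by decide), ← m _ (ttE 0) _ (by decide), prod_tt,
    map_one]
  exact one_mem R

theorem Wb_norm (R : Subgroup M) (hR : R ≤ EE) : EE.map ι ≤ 𝐍(Wb ι R) := by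
  exact (le_iInf fun i => E_norm i hR).trans (iInf_normalizer_le_normalizer_iSup _)

theorem rec_step (s : Sy ι) {n : ℕ} (hn : n ≤ 8) (h : ∀ R ≤ EE, Nat.card R = n * 2 → Good ι R)
    {R : Subgroup M} (hR : R ≤ EE) (hc : Nat.card R = n) : Good ι R := by
  have hE : IsElementaryAbelian 2 EE := ea_of_sq sqE
  obtain ⟨A, hA, h1, h2⟩ := exists_compl hE hR
  have c8 : 2 ^ 3 ≤ Nat.card (A.map ι) := by
    have := Nat.le_of_dvd (Nat.mul_pos Nat.card_pos Nat.card_pos)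
      (mulEq_of_norm (hA.trans (H43.ea_le_normalizer hE hR))).card_dvd
    rw [h2, card_EE, hc] at this
    rw [s.card]
    nlinarith
  have hA' : A.map ι ≤ EE.map ι := map_mono hA
  have eA := H43.ea_of_le eaE hA'
  let θ : G → Subgroup G := fun g => Wb ι (R ⊔ (zpowers g).comap ι)
  have e : ∀ x : M, θ (ι x) = Wb ι (R ⊔ zpowers x) := fun x => by
    rw [← comap_map_eq_self_of_injective s.inj (zpowers x), MonoidHom.map_zpowers]
  have le : ∀ x ∈ A, R ⊔ zpowers x ≤ EE := fun x hx => sup_le hR (zpowers_le.2 (hA hx))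
  have gd : ∀ x ∈ A, ι x ≠ 1 → Good ι (R ⊔ zpowers x) := fun x hx x1 => h _ (le x hx) (by
    rw [← hc]
    exact (hyp_of_sup_zpowers (H43.ea_of_le hE (le x hx))
      (fun hf => x1 (by rw [mem_bot.1 (h1.le ⟨hf, hx⟩), map_one])) rfl).card.symm)
  have ce : ∀ x : M, 𝐂((R ⊔ zpowers x).map ι) = 𝐂(R.map ι) ⊓ 𝐂[ι x] := fun x => by
    rw [Subgroup.map_sup, MonoidHom.map_zpowers, centralizer_sup, centralizer_zpowers]
  have wc : ∀ x : M, Wb ι (R ⊔ zpowers x) ≤ 𝐂(R.map ι) ⊓ 𝐂[ι x] := fun x =>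
    iSup_le fun i => inf_le_right.trans (ce x).le
  have lw : ∀ (x : M) (i : Fin 7), Oc (ι (tt i)) ⊓ 𝐂(R.map ι) ⊓ 𝐂[ι x] ≤ Wb ι (R ⊔ zpowers x) :=
    fun x i => by rw [inf_assoc, ← ce]; exact le_iSup (fun i => Oc (ι (tt i)) ⊓ _) i
  obtain ⟨s1, s2⟩ := Cfsg.Agent.S0217.result (p := 2) (A.map ι) (fun _ ha _ hb => H43.ea_comm eA ha hb)
    eA.2 c8 θ
    (by rintro _ ⟨x, hx, rfl⟩ x1; rw [e]; exact (wc x).trans inf_le_right)
    (by rintro _ ⟨x, hx, rfl⟩ x1; rw [e]; exact (gd x hx x1).1)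
    (by
      rintro _ ⟨x, hx, rfl⟩ x1 b hb y hy
      rw [e] at hy ⊢
      exact conj_mem_of_mem_normalizer (Wb_norm _ (le x hx) (hA' hb)) hy)
    (by rintro _ ⟨x, hx, rfl⟩ x1; rw [e]; exact H42.BSE.solv_of_odd (oddS_iff.1 (gd x hx x1).1))
    (by
      rintro _ ⟨x, hx, rfl⟩ x1 _ ⟨y, hy, rfl⟩ y1
      rw [e, e]
      refine genS ((gd x hx x1).1.mono inf_le_left)
        (le_normalizer_inf (Wb_norm _ (le x hx)) ((E_c1 (hA hy)).trans le_normalizer)) ∅ (by simp)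
        (by simp) fun i _ => le_trans ?_ (lw y i)
      exact fun g hg => ⟨⟨(gd x hx x1).2 i ⟨hg.1.1, hg.2⟩, (wc x hg.1.1).1⟩, hg.1.2⟩)
  have c4 : 2 ^ 2 ≤ Nat.card (A.map ι) := by omega
  have hW : Wb ι R ≤ ⨆ a : {a : G // a ∈ A.map ι ∧ a ≠ 1}, θ a := iSup_le fun i =>
    H43.le_of_forall_elt eA c4 (hA'.trans (E_norm i hR)) ((Oc_odd _).mono inf_le_left) (by
      rintro _ ⟨x, hx, rfl⟩ x1
      refine le_trans ?_ (le_iSup (fun a : {a : G // a ∈ A.map ι ∧ a ≠ 1} => θ a) ⟨_, ⟨x, hx, rfl⟩, x1⟩)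
      exact (lw x i).trans (e x).ge)
  have od : OddS (Wb ι R) := OddS.mono s1 hW
  refine ⟨od, fun i => H43.le_of_forall_elt eA c4 (hA'.trans (le_normalizer_inf (Wb_norm R hR)
    ((E_c1 (ttE i)).trans le_normalizer))) (od.mono inf_le_left) ?_⟩
  rintro _ ⟨x, hx, rfl⟩ x1 g hg
  refine (gd x hx x1).2 i ⟨?_, hg.1.2⟩
  rw [← e, ← s2 _ ⟨x, hx, rfl⟩ x1]
  exact ⟨hW hg.1.1, hg.2⟩

theorem recur (s : Sy ι) (h : ∀ R ≤ EE, Nat.card R = 16 → Good ι R) : Good ι ⊥ := by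
  exact rec_step s (n := 1) (by decide) (fun _ => rec_step s (n := 2) (by decide)
    fun _ => rec_step s (n := 4) (by decide) fun _ => rec_step s (n := 8) le_rfl h) bot_le card_bot

end H24.T12
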