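import Cfsg.Agent.Lib.A12.Defs2
import Cfsg.Agent.Lib.A12.EF2
import Cfsg.Agent.Lib.A12.REC
/-! Package TRI7 of `blueprint/A12/README.md`. -/
set_option autoImplicit false
namespace H24.T12
open Subgroup H1.A10 H45 H69 Gold Cfsg

variable {G : Type} [Group G] [Finite G] {ι : M →* G} {π : G → B} {g k : G}


namespace TRIa

theorem tt_inj : ∀ i j, tt i = tt j → i = j := by decide +kernel
theorem tt_sq : ∀ i, tt i * tt i = 1 := by decide +kernel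
theorem tt_dd : ∀ i j, tt i * dd i j = tt j := by decide +kernel
theorem tt_dd' : ∀ i j, tt j * dd i j = tt i := by decide +kernel

theorem move (d : Dat ι π) (p : P7 ι) (i : Fin 7) : ∃ g ρ, PA ι g ρ ∧ ρ 6 = i ∧ Cj ι g z (tt i) := by
  obtain ⟨g, hg, c⟩ := d.tr i
  obtain ⟨ρ, -, a⟩ := d.pa p hg
  exact ⟨g, ρ, a, tt_inj _ _ (d.sy.right (a 6) (tt6 ▸ c)), c⟩

omit [Finite G] in
theorem c_mul {x y : M} (hx : g ∈ 𝐂[ι x]) (hy : g ∈ 𝐂[ι y]) : g ∈ 𝐂[ι (x * y)] :=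
  ((Cj.of_cent hx).mul (Cj.of_cent hy)).cent

omit [Finite G] in
theorem back {x y : M} (p : Cj ι g x y) (h : k ∈ 𝐂[ι y]) : g⁻¹ * k * g ∈ 𝐂[ι x] := by
  rw [← p.cent_cj] at h
  exact mem_cj.1 h

theorem l3 (d : Dat ι π) (p : P7 ι) (l : Loc7 ι 𝐂[ι z] (Oc (ι z))) {i j k n : Fin 7} (ij : i ≠ j)
    (ik : i ≠ k) (jk : j ≠ k) (hi : i ≠ n) (hj : j ≠ n) (hk : k ≠ n) {y : G} (hy : y ∈ 𝐂[ι (tt n)])
    (o : Odd (orderOf y)) (h1 : y ∈ 𝐂[ι (dd i j)]) (h2 : y ∈ 𝐂[ι (dd i k)]) :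
    y * ι (tt i) * y⁻¹ * ι (tt i) ∈ Oc (ι (tt n)) := by
  obtain ⟨g, ρ, a, rfl, c⟩ := move d p n
  obtain ⟨i, rfl⟩ := ρ.surjective i
  obtain ⟨j, rfl⟩ := ρ.surjective j
  obtain ⟨k, rfl⟩ := ρ.surjective k
  have := l.l3 i j k (ne_of_apply_ne ρ ij) (ne_of_apply_ne ρ ik) (ne_of_apply_ne ρ jk)
    (ne_of_apply_ne ρ hi) (ne_of_apply_ne ρ hj) (ne_of_apply_ne ρ hk) _ (back c hy)
    (by simpa using odd_conj o g⁻¹) (back (a.pdd i j) h1) (back (a.pdd i k) h2)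
  rw [← c.oc_cj, mem_cj, ← (a i).eq]
  convert this using 1
  group

end TRIa

open TRIa RECa

theorem Dat.l2 (d : Dat ι π) (p : P7 ι) (l : Loc7 ι 𝐂[ι z] (Oc (ι z))) {i j k : Fin 7} (ij : i ≠ j) (ik : i ≠ k) (jk : j ≠ k) :
    Od (𝐂[ι (tt i)] ⊓ 𝐂[ι (tt j)] ⊓ 𝐂[ι (tt k)]) ≤ Oc (ι (tt i)) := by
  obtain ⟨g, ρ, a, rfl, c⟩ := move d p i
  obtain ⟨j, rfl⟩ := ρ.surjective j
  obtain ⟨k, rfl⟩ := ρ.surjective k
  rw [← c.oc_cj, ← c.cent_cj, ← (a j).cent_cj, ← (a k).cent_cj, ← cj_inf, ← cj_inf, ← Od_cj]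
  exact cj_mono g (l.l2 j k (ne_of_apply_ne ρ jk) (ne_of_apply_ne ρ ij.symm)
    (ne_of_apply_ne ρ ik.symm))

theorem Dat.l1 (d : Dat ι π) (p : P7 ι) (l : Loc7 ι 𝐂[ι z] (Oc (ι z))) (i j : Fin 7) :
    Oc (ι (tt i)) ⊓ 𝐂[ι (tt j)] ≤ Oc (ι (tt j)) := by
  by_cases ij : i = j
  · exact ij ▸ inf_le_left
  refine genS (ι := ι) ((Oc_odd _).mono inf_le_left) (le_normalizer_inf
    ((E_c1 (ttE i)).trans (cent_norm_Oc _)) ((E_c1 (ttE j)).trans le_normalizer)) {i, j}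
    (by rw [Finset.card_pair ij]; decide) (fun k hk => ?_) fun k hk => ?_
  · rcases Finset.mem_insert.1 hk with rfl | hk
    · exact inf_le_left.trans (Oc_le _)
    · rw [Finset.mem_singleton.1 hk]; exact inf_le_right
  · rw [Finset.mem_insert, Finset.mem_singleton, not_or] at hk
    refine le_trans ?_ ((Od_inf_le (H := 𝐂[ι (tt i)]) (inf_le_left.trans inf_le_right)).trans
      (d.l2 p l (Ne.symm ij) (Ne.symm hk.2) (Ne.symm hk.1)))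
    exact fun g hg => ⟨hg.1.1, ⟨hg.1.2, Oc_le _ hg.1.1⟩, hg.2⟩

theorem Dat.trb (d : Dat ι π) (p : P7 ι) (l : Loc7 ι 𝐂[ι z] (Oc (ι z))) {i j k : Fin 7} (ij : i ≠ j) (ik : i ≠ k) (jk : j ≠ k)
    (n : Fin 7) : Od (Dt ι i j k) ⊓ 𝐂[ι (tt n)] ≤ Oc (ι (tt n)) := by
  have kd : 𝐂[ι (tt i)] ⊓ 𝐂[ι (tt j)] ⊓ 𝐂[ι (tt k)] ≤ Dt ι i j k := fun g hg =>
    ⟨tt_mul i j ▸ c_mul hg.1.1 hg.1.2, tt_mul i k ▸ c_mul hg.1.1 hg.2⟩
  have k1 : Od (Dt ι i j k) ⊓ 𝐂[ι (tt i)] ≤ Od (𝐂[ι (tt i)] ⊓ 𝐂[ι (tt j)] ⊓ 𝐂[ι (tt k)]) :=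
    fun g hg => Od_inf_le kd ⟨hg.1, ⟨hg.2, tt_dd i j ▸ c_mul hg.2 (Od_le _ hg.1).1⟩,
      tt_dd i k ▸ c_mul hg.2 (Od_le _ hg.1).2⟩
  by_cases hi : i = n
  · exact hi ▸ k1.trans (d.l2 p l ij ik jk)
  by_cases hj : j = n
  · subst hj
    refine fun g hg => d.l2 p l ij.symm jk ik ?_
    rw [inf_comm 𝐂[ι (tt j)]]
    exact k1 ⟨hg.1, tt_dd' i j ▸ c_mul hg.2 (Od_le _ hg.1).1⟩
  by_cases hk : k = n
  · subst hk
    refine fun g hg => d.l2 p l ik.symm jk.symm ij ?_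
    rw [inf_assoc, inf_comm 𝐂[ι (tt k)]]
    exact k1 ⟨hg.1, tt_dd' i k ▸ c_mul hg.2 (Od_le _ hg.1).2⟩
  have t2 : ι (tt i) * ι (tt i) = 1 := by rw [← map_mul, tt_sq, map_one]
  have hn : zpowers (ι (tt i)) ≤ 𝐍(Od (Dt ι i j k) ⊓ 𝐂[ι (tt n)]) :=
    (zpowers_le.2 (mem_map_of_mem ι (ttE i))).trans (le_normalizer_inf
      ((le_inf (E_c1 (a_EE _)) (E_c1 (a_EE _))).trans (le_norm_Od _))
      ((E_c1 (ttE n)).trans le_normalizer))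
  have o : OddS (Od (Dt ι i j k) ⊓ 𝐂[ι (tt n)]) := (Od_odd _).mono inf_le_left
  rw [← comm_sup_cent o (El2.of_mul_self t2).isPGroup hn, centralizer_zpowers]
  refine sup_le (commutator_le.2 fun y hy b hb => ?_) fun g hg =>
    d.l1 p l i n ⟨d.l2 p l ij ik jk (k1 ⟨hg.1.1, hg.2⟩), hg.1.2⟩
  rcases (mem_zpowers_of_mul_self t2).1 hb with rfl | rfl
  · simp
  · rw [commutatorElement_def, inv_eq_of_mul_eq_one_right t2]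
    exact l3 d p l ij ik jk hi hj hk hy.2 (o.odd hy) (Od_le _ hy.1).1 (Od_le _ hy.1).2

end H24.T12
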