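import Cfsg.Agent.Lib.A12.Defs2
import Cfsg.Agent.Lib.A12.TRI7
import Cfsg.Agent.Lib.TwoFusion.ZStarIso
/-! Package TRI7b of `blueprint/A12/README.md`. -/
set_option autoImplicit false
namespace H24.T12
open Subgroup H1.A10 H45 H69 Gold Cfsg

variable {G : Type} [Group G] [Finite G] {ι : M →* G} {π : G → B} {g k : G}

namespace TRI7b

theorem zst {E : Subgroup G} {t : G} (ht : t ∈ E) (h1 : t ≠ 1) (h2 : t * t = 1)
    (hi : ∀ g ∈ E, t * (g * t * g⁻¹) = g * t * g⁻¹ * t → g * t * g⁻¹ = t) :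
    ∀ g ∈ E, t * g * t⁻¹ * g⁻¹ ∈ Od E := by
  obtain ⟨N, hN, ho, h⟩ := H41.Isolated.zstar_exists (z := (⟨t, ht⟩ : E))
    ⟨orderOf_eq_prime (Subtype.ext (by rw [sq]; exact h2)) (fun e => h1 (congrArg Subtype.val e)),
      fun g e => Subtype.ext (hi g g.2 (congrArg Subtype.val e))⟩
  refine fun g hg => le_Od (X := N.map E.subtype) (map_subtype_le _) ?_ ?_ ⟨_, h ⟨g, hg⟩, rfl⟩
  · rw [OddS, card_map_of_injective E.subtype_injective]
    exact fun e => (Nat.not_even_iff_odd.2 ho) (even_iff_two_dvd.2 e)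
  · intro g hg
    refine mem_normalizer_fintype ?_
    rintro _ ⟨x, hx, rfl⟩
    exact ⟨_, hN.conj_mem x hx ⟨g, hg⟩, rfl⟩

theorem two_closure {S : Set G} (h : ∀ x ∈ S, ∀ y ∈ S, x * y = y * x) (h2 : ∀ x ∈ S, x * x = 1) :
    IsPGroup 2 (closure S) := by
  have cm : ∀ x ∈ closure S, ∀ y ∈ closure S, x * y = y * x := fun x hx y hy => by
    have : closure S ≤ centralizer (closure S : Set G) := by
      rw [closure_le, centralizer_closure]; exact fun x hx y hy => (h x hx y hy).symm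
    exact (this hx y hy).symm
  rintro ⟨x, hx⟩
  refine ⟨1, Subtype.ext ?_⟩
  change x ^ 2 ^ 1 = 1
  rw [pow_one, sq]
  induction hx using closure_induction with
  | mem x hx => exact h2 x hx
  | one => exact one_mul 1
  | mul x y hx hy e1 e2 => rw [mul_assoc, ← mul_assoc y, ← cm x hx y hy, mul_assoc, e2, mul_one, e1]
  | inv x _ e => rw [← mul_inv_rev, e, inv_one]

theorem dd_inj : ∀ p q p' q' : Fin 7, p ≠ q → dd p q = dd p' q' → p' = p ∨ p' = q := by decide +kernel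
theorem tt_sq : ∀ i : Fin 7, tt i * tt i = 1 := by decide +kernel
theorem tt_ne : ∀ i : Fin 7, tt i ≠ 1 := by decide +kernel
theorem dd_sq : ∀ i j : Fin 7, dd i j * dd i j = 1 := by decide +kernel
theorem tt_dd : ∀ i j : Fin 7, tt i * dd i j = tt j := by decide +kernel
theorem tt_inj : ∀ i j : Fin 7, tt i = tt j → i = j := by decide +kernel
theorem td_comm : ∀ i j k : Fin 7, tt i * dd j k = dd j k * tt i := by decide +kernel
theorem tt_comm : ∀ i j : Fin 7, tt i * tt j = tt j * tt i := by decide +kernel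
theorem dd_comm : ∀ i j k : Fin 7, dd i j * dd i k = dd i k * dd i j := by decide +kernel

theorem tt_Dt (n i j k : Fin 7) : ι (tt n) ∈ Dt ι i j k :=
  mem_inf.2 ⟨mem_c1 (td_comm n i j), mem_c1 (td_comm n i k)⟩

theorem iso (d : Dat ι π) (p : P7 ι) {i j k : Fin 7} (ij : i ≠ j) (ik : i ≠ k) (jk : j ≠ k)
    (hg : g ∈ Dt ι i j k)
    (c : ι (tt i) * (g * ι (tt i) * g⁻¹) = g * ι (tt i) * g⁻¹ * ι (tt i)) :
    g * ι (tt i) * g⁻¹ = ι (tt i) := by
  have c1 : g * ι (dd i j) * g⁻¹ = ι (dd i j) := Cj.of_cent (mem_inf.1 hg).1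
  have c2 : g * ι (dd i k) * g⁻¹ = ι (dd i k) := Cj.of_cent (mem_inf.1 hg).2
  have cm : ∀ x y : M, x * y = y * x → ι x * ι y = ι y * ι x := fun x y h => by
    rw [← map_mul, ← map_mul, h]
  have cm' : ∀ y : M, g * ι y * g⁻¹ = ι y → tt i * y = y * tt i →
      g * ι (tt i) * g⁻¹ * ι y = ι y * (g * ι (tt i) * g⁻¹) := fun y h1 h2 => by
    calc _ = g * ι (tt i) * g⁻¹ * (g * ι y * g⁻¹) := by rw [h1]
      _ = g * (ι (tt i) * ι y) * g⁻¹ := by group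
      _ = g * ι y * g⁻¹ * (g * ι (tt i) * g⁻¹) := by rw [cm _ _ h2]; group
      _ = _ := by rw [h1]
  have sq : ∀ x : M, x * x = 1 → ι x * ι x = 1 := fun x h => by rw [← map_mul, h, map_one]
  have a1 := cm' _ c1 (td_comm i i j)
  have a2 := cm' _ c2 (td_comm i i k)
  have a3 := cm _ _ (td_comm i i j)
  have a4 := cm _ _ (td_comm i i k)
  have a5 := cm _ _ (dd_comm i j k)
  have hQ : IsPGroup 2 (closure {g * ι (tt i) * g⁻¹, ι (tt i), ι (dd i j), ι (dd i k)}) := by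
    refine two_closure ?_ ?_
    · rintro x (rfl | rfl | rfl | rfl) y (rfl | rfl | rfl | rfl)
      exacts [rfl, c.symm, a1, a2, c, rfl, a3, a4, a1.symm, a3.symm, rfl, a5, a2.symm, a4.symm,
        a5.symm, rfl]
    · rintro x (rfl | rfl | rfl | rfl)
      · calc _ = g * (ι (tt i) * ι (tt i)) * g⁻¹ := by group
          _ = 1 := by rw [sq _ (tt_sq i)]; group
      exacts [sq _ (tt_sq i), sq _ (dd_sq i j), sq _ (dd_sq i k)]
  obtain ⟨h, -, hh⟩ := d.sy.syl.exists_cj_le hQ le_top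
  obtain ⟨x1, e1⟩ := hh (cj_mem h (subset_closure (Or.inl rfl)))
  obtain ⟨x0, e0⟩ := hh (cj_mem h (subset_closure (Or.inr (Or.inl rfl))))
  obtain ⟨b1, f1⟩ := hh (cj_mem h (subset_closure (Or.inr (Or.inr (Or.inl rfl)))))
  obtain ⟨b2, f2⟩ := hh (cj_mem h (subset_closure (Or.inr (Or.inr (Or.inr rfl)))))
  have E0 : Cj ι h (tt i) x0 := e0.symm
  have F1 : Cj ι h (dd i j) b1 := f1.symm
  have F2 : Cj ι h (dd i k) b2 := f2.symm
  have E1 : Cj ι (h * g) (tt i) x1 := by rw [Cj, e1]; group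
  have G1 : Cj ι (h * g) (dd i j) b1 := Cj.comp c1 F1
  have G2 : Cj ι (h * g) (dd i k) b2 := Cj.comp c2 F2
  have zt : ∀ {u : G} {n : Fin 7} {x : M}, Cj ι u (tt n) x → ∃ m, x = tt m := fun {u n x} q => by
    obtain ⟨y, -, r⟩ := d.tr n
    exact d.zcl p (Fu.trans ⟨_, q.symm⟩ ⟨_, r.symm⟩)
  have key : ∀ {u : G} {x b : M} {n : Fin 7} {a : Fin 7}, Cj ι u (tt i) (tt a) → Cj ι u (dd i n) b →
      ∃ m, b = dd a m ∧ Cj ι u (tt n) (tt m) := fun {u x b n a} q r => by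
    have q2 := q.mul r
    rw [tt_dd] at q2
    obtain ⟨m, hm⟩ := zt q2
    refine ⟨m, ?_, hm ▸ q2⟩
    rw [← tt_mul, ← hm, ← mul_assoc, tt_sq, one_mul]
  obtain ⟨a, rfl⟩ := zt E0
  obtain ⟨a', rfl⟩ := zt E1
  obtain ⟨q, hq, Q1⟩ := key (x := 1) E0 F1
  obtain ⟨r, hr, R1⟩ := key (x := 1) E0 F2
  obtain ⟨q', hq', -⟩ := key (x := 1) E1 G1
  obtain ⟨r', hr', -⟩ := key (x := 1) E1 G2
  have ne : ∀ {m n m' n' : Fin 7}, m ≠ n → Cj ι h (tt m) (tt m') → Cj ι h (tt n) (tt n') → m' ≠ n' :=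
    fun mn s1 s2 e => d.sy.ne' s1 s2 (fun l => mn (tt_inj _ _ l)) (congrArg tt e)
  have aa : a' = a := by
    rcases dd_inj _ _ _ _ (ne ij E0 Q1) (hq.symm.trans hq') with l | l
    · exact l
    rcases dd_inj _ _ _ _ (ne ik E0 R1) (hr.symm.trans hr') with l' | l'
    · exact l'
    exact absurd (l.symm.trans l') (ne jk Q1 R1)
  rw [aa, e0] at e1
  exact (mul_left_cancel (mul_right_cancel e1)).symm

theorem ck_tt (d : Dat ι π) (p : P7 ι) {i j k : Fin 7} (ij : i ≠ j) (ik : i ≠ k) (jk : j ≠ k) :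
    ι (tt i) ∈ ck (Dt ι i j k) :=
  mem_ck.2 ⟨le_normalizer (tt_Dt i i j k), zst (tt_Dt i i j k) (d.sy.ne (tt_ne i))
    (by rw [← map_mul, tt_sq, map_one]) fun _ hg => iso d p ij ik jk hg⟩

end TRI7b

theorem Dat.zs (d : Dat ι π) (p : P7 ι) {i j k : Fin 7} (ij : i ≠ j) (ik : i ≠ k) (jk : j ≠ k) (hg : g ∈ Dt ι i j k) :
    g * ι (tt i) * g⁻¹ * ι (tt i) ∈ Od (Dt ι i j k) := by
  have h := inv_mem ((mem_ck.1 (TRI7b.ck_tt d p ij ik jk)).2 g hg)
  have e : (ι (tt i))⁻¹ = ι (tt i) := inv_eq_of_mul_eq_one_right (by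
    rw [← map_mul, TRI7b.tt_sq, map_one])
  rwa [commutatorElement_inv, commutatorElement_def, e] at h

theorem Dat.tra (d : Dat ι π) (p : P7 ι) (l : Loc7 ι 𝐂[ι z] (Oc (ι z))) {i j k : Fin 7} (ij : i ≠ j) (ik : i ≠ k) (jk : j ≠ k)
    (n : Fin 7) : Oc (ι (tt n)) ⊓ Dt ι i j k ≤ Od (Dt ι i j k) := by
  have hc := TRI7b.ck_tt d p ij ik jk
  have h2 : El2 (ι (tt i)) := ⟨1, by rw [pow_one, sq, ← map_mul, TRI7b.tt_sq, map_one]⟩
  have hn : ι (tt i) ∈ 𝐍(Oc (ι (tt n)) ⊓ Dt ι i j k) :=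
    inf_normalizer_le_normalizer_inf (mem_inf.2 ⟨cent_norm_Oc _ (mem_c1 (TRI7b.tt_comm i n)),
      le_normalizer (TRI7b.tt_Dt i i j k)⟩)
  have e := Od_sup_cent' (K := Dt ι i j k) (L := Oc (ι (tt n)) ⊓ Dt ι i j k) h2.isPGroup inf_le_right
    (zpowers_le.2 hn) (zpowers_le.2 (le_normalizer (TRI7b.tt_Dt i i j k)))
    ((commutator_mono inf_le_right (zpowers_le.2 hc)).trans (by
      rw [commutator_comm]; exact comm_ck_le _))
  rw [← e]
  refine sup_le inf_le_left fun x hx => Oc_inf_le h2 hc (mem_inf.2 ⟨d.l1 p l n i (mem_inf.2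
    ⟨(mem_inf.1 (mem_inf.1 hx).1).1, ?_⟩), (mem_inf.1 (mem_inf.1 hx).1).2⟩)
  exact mem_centralizer_singleton_iff.2 ((mem_inf.1 hx).2 _ (mem_zpowers _)).symm

end H24.T12
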