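import Cfsg.Agent.Lib.A12.Defs2
import Cfsg.Agent.Lib.A12.TRI7b
/-! Package SIG7 of `blueprint/A12/README.md`. -/
set_option autoImplicit false
namespace H24.T12
open Subgroup H1.A10 H45 H69 Gold Cfsg

variable {G : Type} [Group G] [Finite G] {ι : M →* G} {π : G → B} {g k : G}

namespace SIG7

theorem three {R : Subgroup M} (hR : R ≤ EE) (c : Nat.card R = 16) (h : ∀ i, tt i ∉ R) :
    ∃ i j k : Fin 7, i ≠ j ∧ i ≠ k ∧ j ≠ k ∧ dd i j ∈ R ∧ dd i k ∈ R := by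
  classical
  let f : Fin 7 → EE ⧸ R.subgroupOf EE := fun i => QuotientGroup.mk ⟨tt i, a_EE _⟩
  have : Fintype (EE ⧸ R.subgroupOf EE) := Fintype.ofFinite _
  have c4 : Fintype.card (EE ⧸ R.subgroupOf EE) = 4 := by
    have := card_eq_card_quotient_mul_card_subgroup (R.subgroupOf EE)
    rw [card_subgroupOf hR, c, card_EE, Nat.card_eq_fintype_card] at this
    omega
  have iv : ∀ i, (tt i)⁻¹ = tt i := fun i => a_inv _
  obtain ⟨y, -, hy⟩ := Finset.exists_lt_card_fiber_of_mul_lt_card_of_maps_to (s := Finset.univ)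
    (t := Finset.univ.erase (QuotientGroup.mk 1 : EE ⧸ R.subgroupOf EE)) (f := f) (n := 2)
    (fun i _ => Finset.mem_erase.2 ⟨fun e => h i (by
      have : (tt i)⁻¹ * 1 ∈ R := (QuotientGroup.eq (s := R.subgroupOf EE)).1 e
      rwa [mul_one, iv] at this), Finset.mem_univ _⟩)
    (by rw [Finset.card_erase_of_mem (Finset.mem_univ _), Finset.card_univ, c4]; decide)
  obtain ⟨i, hi, j, hj, k, hk, ij, ik, jk⟩ := Finset.two_lt_card.1 hy
  rw [Finset.mem_filter] at hi hj hk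
  have g : ∀ i j, f i = f j → dd i j ∈ R := fun i j e => by
    have : (tt i)⁻¹ * tt j ∈ R := (QuotientGroup.eq (s := R.subgroupOf EE)).1 e
    rwa [iv, tt_mul] at this
  exact ⟨i, j, k, ij, ik, jk, g _ _ (hi.2.trans hj.2.symm), g _ _ (hi.2.trans hk.2.symm)⟩

theorem cR {R : Subgroup M} {x : M} (h : x ∈ R) : 𝐂(R.map ι) ≤ 𝐂[ι x] :=
  fun _ k => mem_centralizer_singleton_iff.2 (k _ (mem_map_of_mem ι h)).symm

theorem EE_a (u : V) : EE.map ι ≤ 𝐂[ι (a u)] :=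
  map_cent fun x hx => comm_a.2 (by rw [mem_EE.1 hx, one_smul])

theorem good (d : Dat ι π) (p : P7 ι) (l : Loc7 ι 𝐂[ι z] (Oc (ι z))) : Good ι ⊥ := by
  refine recur d.sy fun R hR c => ?_
  by_cases h : ∃ i, tt i ∈ R
  · obtain ⟨i, hi⟩ := h
    have le : Wb ι R ≤ Oc (ι (tt i)) := iSup_le fun n => (inf_le_inf_left _ (cR hi)).trans (d.l1 p l n i)
    exact ⟨(Oc_odd _).mono le, fun j => (inf_le_inf_right _ le).trans (d.l1 p l i j)⟩
  · obtain ⟨i, j, k, ij, ik, jk, h1, h2⟩ := three hR c fun i hi => h ⟨i, hi⟩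
    have le : Wb ι R ≤ Od (Dt ι i j k) :=
      iSup_le fun n => (inf_le_inf_left _ (le_inf (cR h1) (cR h2))).trans (d.tra p l ij ik jk n)
    exact ⟨(Od_odd _).mono le, fun n => (inf_le_inf_right _ le).trans (d.trb p l ij ik jk n)⟩

theorem Wb_bot : Wb ι ⊥ = ⨆ i, Oc (ι (tt i)) := by
  simp only [Wb, Subgroup.map_bot, centralizer_bot, inf_top_eq]

end SIG7

open SIG7

theorem Dat.sig7 (d : Dat ι π) (p : P7 ι) (l : Loc7 ι 𝐂[ι z] (Oc (ι z))) : Sig ι := by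
  obtain ⟨o, b⟩ := good d p l
  have le : ∀ i, Oc (ι (tt i)) ≤ Wb ι ⊥ := fun i => Wb_bot (ι := ι) ▸ le_iSup (fun i => Oc (ι (tt i))) i
  have nE : NE ι ≤ 𝐍(Wb ι ⊥) := fun g hg => by
    obtain ⟨ρ, -, h⟩ := d.pa p hg
    refine mem_normalizer_of_cj_le ?_
    conv_lhs => rw [Wb_bot, cj_iSup]
    exact iSup_le fun i => (h i).oc_cj ▸ le _
  have eE : EE.map ι ≤ 𝐍(Wb ι ⊥) := Wb_norm ⊥ bot_le
  have eD : EE.map ι ≤ Dt ι 4 5 6 := le_inf (EE_a _) (EE_a _)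
  have sq : ∀ i, ι (tt i) * ι (tt i) = 1 := fun i => by rw [← map_mul, tt, a_sq, map_one]
  have cm : ∀ i j, ι (tt i) * ι (tt j) = ι (tt j) * ι (tt i) := fun i j =>
    mem_centralizer_singleton_iff.1 (EE_a _ (mem_map_of_mem ι (a_EE _)))
  have mE : ∀ i, ι (tt i) ∈ EE.map ι := fun i => mem_map_of_mem ι (a_EE _)
  have e : Wb ι ⊥ = Oc (ι (tt 4)) ⊔ Oc (ι (tt 5)) ⊔ Oc (ι (tt 6)) ⊔ Od (Dt ι 4 5 6) := by
    refine le_antisymm ?_ (sup_le (sup_le (sup_le (le 4) (le 5)) (le 6)) ?_)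
    · have k4 := (b 4).trans ((le_sup_left (b := Oc (ι (tt 5)))).trans ((le_sup_left (b := Oc (ι (tt 6)))).trans
        (le_sup_left (b := Od (Dt ι 4 5 6)))))
      refine gen4 o (sq 4) (sq 5) (cm 4 5) (eE (mE 4)) (eE (mE 5)) k4
        ((b 5).trans (le_sup_right.trans (le_sup_left.trans le_sup_left))) ?_
      rw [← map_mul, tt_mul]
      have n1 : EE.map ι ≤ 𝐍(Wb ι ⊥ ⊓ 𝐂[ι (dd 4 5)]) := le_normalizer_inf eE (le_normalizer_of_le (EE_a _))
      refine gen4 (o.mono inf_le_left) (sq 4) (sq 6) (cm 4 6) (n1 (mE 4)) (n1 (mE 6))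
        ((inf_le_inf_right _ inf_le_left).trans k4)
        ((inf_le_inf_right _ inf_le_left).trans ((b 6).trans (le_sup_right.trans le_sup_left))) ?_
      rw [← map_mul, tt_mul, inf_assoc]
      refine le_trans (genS (o.mono inf_le_left) (le_normalizer_inf eE (le_normalizer_of_le eD)) ∅ (by decide)
        (fun i hi => absurd hi (Finset.notMem_empty i)) fun n _ => ?_) le_sup_right
      exact (le_inf ((inf_le_inf_right _ inf_le_left).trans (b n)) (inf_le_left.trans inf_le_right)).trans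
        (d.tra p l (by decide) (by decide) (by decide) n)
    · exact genS (Od_odd _) (eD.trans (le_norm_Od _)) ∅ (by decide) (fun i hi => absurd hi (Finset.notMem_empty i))
        fun n _ => (d.trb p l (by decide) (by decide) (by decide) n).trans (le n)
  refine ⟨Wb ι ⊥, o, tt6 ▸ le 6, l.l4.trans (sup_le (sup_le ((tt6 ▸ le 6).trans le_normalizer) nE) ?_), nE⟩
  have h4 : 𝐂[ι z] ⊓ 𝐂[ι (tt 4)] ⊓ 𝐂[ι (tt 5)] ≤ 𝐂[ι (tt 4)] := inf_le_left.trans inf_le_right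
  have h6 : 𝐂[ι z] ⊓ 𝐂[ι (tt 4)] ⊓ 𝐂[ι (tt 5)] ≤ 𝐂[ι (tt 6)] := tt6 ▸ inf_le_left.trans inf_le_left
  have mu : ∀ {i j : Fin 7} {x : G}, x ∈ 𝐂[ι (tt i)] → x ∈ 𝐂[ι (tt j)] → x ∈ 𝐂[ι (dd i j)] := fun h1 h2 => by
    rw [mem_centralizer_singleton_iff] at *
    rw [← tt_mul, map_mul, ← mul_assoc, h1, mul_assoc, h2, mul_assoc]
  rw [e]
  exact le_normalizer_sup (le_normalizer_sup (le_normalizer_sup (h4.trans (cent_norm_Oc _))
    (inf_le_right.trans (cent_norm_Oc _))) (h6.trans (cent_norm_Oc _)))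
    (le_trans (le_inf (fun x hx => mu (h4 hx) hx.2) fun x hx => mu (h4 hx) (h6 hx)) (le_norm_Od (Dt ι 4 5 6)))

end H24.T12
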