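import Cfsg.Agent.Lib.A12.Defs2
import Cfsg.Agent.Lib.A12.EF2
import Cfsg.Agent.Lib.A12.REC
import Cfsg.Agent.S0205
/-! Package SIGI of `blueprint/A12/README.md`. -/
set_option autoImplicit false
namespace H24.T12
open Subgroup H1.A10 H45 H69 Gold Cfsg

variable {G : Type} [Group G] [Finite G] {ι : M →* G} {π : G → B} {g k : G}

namespace SIGI

theorem E_cent (u : V) : EE.map ι ≤ 𝐂[ι (a u)] := map_cent fun t ht => by
  rw [eq_a (mem_EE.1 ht), ← a_add, ← a_add, add_comm]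

theorem E_norm (u : V) : EE.map ι ≤ 𝐍(𝐂[ι (a u)]) := (E_cent u).trans le_normalizer

theorem E_Oc (u : V) : EE.map ι ≤ 𝐍(Oc (ι (a u))) := (E_cent u).trans (cent_norm_Oc _)

/-- the elementary abelian group of order eight -/
def A0 : Subgroup M where
  carrier := {x | (x.s = 1 ∨ x.s = s 2) ∧ (x.f = 0 ∨ x.f = v 5 ∨ x.f = v 10 ∨ x.f = v 15)}
  one_mem' := by decide
  mul_mem' {x y} hx := by
    revert y; revert x
    exact (by decide +kernel : ∀ x : M, ((x.s = 1 ∨ x.s = s 2) ∧ (x.f = 0 ∨ x.f = v 5 ∨ x.f = v 10 ∨ x.f = v 15)) →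
      ∀ y : M, ((y.s = 1 ∨ y.s = s 2) ∧ (y.f = 0 ∨ y.f = v 5 ∨ y.f = v 10 ∨ y.f = v 15)) →
        (((x * y).s = 1 ∨ (x * y).s = s 2) ∧ ((x * y).f = 0 ∨ (x * y).f = v 5 ∨ (x * y).f = v 10 ∨ (x * y).f = v 15)))
  inv_mem' {x} := by
    revert x
    exact (by decide +kernel : ∀ x : M, ((x.s = 1 ∨ x.s = s 2) ∧ (x.f = 0 ∨ x.f = v 5 ∨ x.f = v 10 ∨ x.f = v 15)) →
        ((x⁻¹.s = 1 ∨ x⁻¹.s = s 2) ∧ (x⁻¹.f = 0 ∨ x⁻¹.f = v 5 ∨ x⁻¹.f = v 10 ∨ x⁻¹.f = v 15)))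

instance : DecidablePred (· ∈ A0) := fun _ => inferInstanceAs (Decidable (_ ∧ _))

theorem A0_comm : ∀ x ∈ A0, ∀ y ∈ A0, x * y = y * x := by decide +kernel

theorem A0_q : ∀ x ∈ A0, x * x = 1 ∧ x * dd 4 6 = dd 4 6 * x ∧ x * dd 5 6 = dd 5 6 * x ∧
    x * dd 4 6 * (x * dd 4 6) = 1 ∧ (x ≠ 1 → wt (w (x * dd 4 6)) = 6) := by decide +kernel

theorem A0_card : 8 ≤ Nat.card A0 := by
  have h : ∀ i : Fin 8, m (5 * (i.1 % 4)) (2 * (i.1 / 4)) ∈ A0 := by decide +kernel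
  have := Nat.card_le_card_of_injective (fun i : Fin 8 => (⟨_, h i⟩ : A0)) fun i j e =>
    (by decide +kernel : ∀ i j : Fin 8, m (5 * (i.1 % 4)) (2 * (i.1 / 4)) = m (5 * (j.1 % 4)) (2 * (j.1 / 4)) → i = j)
      i j (congrArg Subtype.val e)
  simpa using this

theorem ztype (d : Dat ι π) (p : PI ι) {x : M} (h : x * x = 1) (h6 : wt (w x) = 6) : IsConj (ι z) (ι x) := by
  obtain ⟨k, hk, u, c⟩ := d.toFr.intoE x h
  obtain ⟨g, c'⟩ := p u (by rw [← d.toFr.down hk c, wt_conj, h6])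
  exact (isConj_iff.2 ⟨_, (c.comp c').eq⟩).symm

end SIGI

open SIGI

theorem Dat.balE (d : Dat ι π) (l : LocI ι 𝐂[ι z] (Oc (ι z))) {u : V} (p : Fu ι (a u) z) {X : Subgroup G} (o : OddS X)
    (hE : EE.map ι ≤ 𝐍(X)) : X ⊓ 𝐂[ι (a u)] ≤ Oc (ι (a u)) := by
  obtain ⟨g, c⟩ := p
  obtain ⟨k, -, hk, c⟩ := ctlE d.sy (X := ⊤) le_top (mem_top g) (a_EE u) (by decide) c
  rw [← cj_le_cj_iff (g := k), c.oc_cj]
  refine l.le _ ((o.mono inf_le_left).cj k) ?_ ?_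
  · rw [← c.cent_cj]; exact cj_mono k inf_le_right
  · rw [← cj_normalizer, ← cj_eq_of_mem_normalizer hk]
    exact cj_mono k (le_normalizer_inf hE (E_norm u))

theorem Dat.bal (d : Dat ι π) (l : LocI ι 𝐂[ι z] (Oc (ι z))) (hg : IsConj (ι z) g) (hk : IsConj (ι z) k)
    (cm : g ∈ 𝐂[k]) : Oc g ⊓ 𝐂[k] ≤ Oc k := by
  obtain ⟨c, hc⟩ := isConj_iff.1 hk.symm
  obtain ⟨b, rfl⟩ := isConj_iff.1 hg
  have z2 : ι z * ι z = 1 := by rw [← map_mul, (by decide : z * z = 1), map_one]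
  have g1 : c * (b * ι z * b⁻¹) * c⁻¹ ∈ 𝐂[ι z] := by
    rw [← hc, ← cj_centralizer_singleton]
    rw [hc]
    exact cj_mem c cm
  have g2 : c * (b * ι z * b⁻¹) * c⁻¹ * (c * (b * ι z * b⁻¹) * c⁻¹) = 1 := by
    calc _ = c * b * (ι z * ι z) * (c * b)⁻¹ := by group
      _ = 1 := by rw [z2, mul_one, mul_inv_cancel]
  obtain ⟨h, hh, x, -, e⟩ := d.sy.into (d.sy.sylIn (range_cent z_comm)) g1 ⟨1, by rw [pow_one, sq, g2]⟩
  have x2 : x * x = 1 := d.sy.inj (by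
    rw [map_mul, map_one, ← e]
    calc _ = h * (c * (b * ι z * b⁻¹) * c⁻¹ * (c * (b * ι z * b⁻¹) * c⁻¹)) * h⁻¹ := by group
      _ = 1 := by rw [g2, mul_one, mul_inv_cancel])
  obtain ⟨k1, hk1, u, c1⟩ := d.toFr.intoE x x2
  have m1 : k1 * h ∈ 𝐂[ι z] := mul_mem (d.toFr.nf_le hk1) hh
  have e1 : k1 * h * c * (b * ι z * b⁻¹) * (k1 * h * c)⁻¹ = ι (a u) := by
    rw [← c1.eq, ← e]; group
  have e2 : k1 * h * c * k * (k1 * h * c)⁻¹ = ι z := by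
    calc _ = k1 * h * (c * k * c⁻¹) * (k1 * h)⁻¹ := by group
      _ = ι z := by rw [hc, mem_centralizer_singleton_iff.1 m1, mul_inv_cancel_right]
  rw [← cj_le_cj_iff (g := k1 * h * c), cj_inf, Oc_cj, Oc_cj, cj_centralizer_singleton, e1, e2]
  exact l.le _ ((Oc_odd _).mono inf_le_left) inf_le_right (le_normalizer_inf (E_Oc u) (E_norm (v 63)))

theorem Dat.v3 (d : Dat ι π) (p : PI ι) (l : LocI ι 𝐂[ι z] (Oc (ι z))) :
    OddS (Wb ι (closure {dd 4 6, dd 5 6})) := by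
  set D : Subgroup G := 𝐂((closure {dd 4 6, dd 5 6} : Subgroup M).map ι) with hD
  have mD : ∀ x : M, x * dd 4 6 = dd 4 6 * x → x * dd 5 6 = dd 5 6 * x → ι x ∈ D := fun x h4 h5 => by
    have : (closure {dd 4 6, dd 5 6} : Subgroup M) ≤ 𝐂[x] := by
      rw [closure_le]
      rintro y (rfl | rfl)
      · exact mem_centralizer_singleton_iff.2 h4.symm
      · exact mem_centralizer_singleton_iff.2 h5.symm
    rintro _ ⟨y, hy, rfl⟩
    rw [← map_mul, ← map_mul, mem_centralizer_singleton_iff.1 (this hy)]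
  have Dq : ∀ x ∈ D, x * ι (dd 4 6) = ι (dd 4 6) * x := fun x hx =>
    (hx _ (mem_map_of_mem ι (subset_closure (Or.inl rfl)))).symm
  have up : ∀ b : G, ∀ x ∈ D, x ∈ 𝐂[b] → x ∈ 𝐂[b * ι (dd 4 6)] := fun b x hx hb => by
    rw [mem_centralizer_singleton_iff] at hb ⊢
    rw [← mul_assoc, hb, mul_assoc, Dq x hx, mul_assoc]
  have dn : ∀ b : G, ∀ x ∈ D, x ∈ 𝐂[b * ι (dd 4 6)] → x ∈ 𝐂[b] := fun b x hx hb => by
    rw [mem_centralizer_singleton_iff] at hb ⊢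
    rw [mul_assoc, ← Dq x hx, ← mul_assoc, ← mul_assoc] at hb
    exact mul_right_cancel hb
  have AD : A0.map ι ≤ D := by
    rintro _ ⟨x, hx, rfl⟩
    exact mD x (A0_q x hx).2.1 (A0_q x hx).2.2.1
  have AA : ∀ x ∈ A0.map ι, ∀ y ∈ A0.map ι, x * y = y * x := by
    rintro _ ⟨x, hx, rfl⟩ _ ⟨y, hy, rfl⟩
    rw [← map_mul, ← map_mul, A0_comm x hx y hy]
  have zt : ∀ b ∈ A0.map ι, b ≠ 1 → IsConj (ι z) (b * ι (dd 4 6)) := by
    rintro _ ⟨x, hx, rfl⟩ h1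
    rw [← map_mul]
    exact ztype d p (A0_q x hx).2.2.2.1 ((A0_q x hx).2.2.2.2 fun e => h1 (by rw [e, map_one]))
  have od : ∀ b : G, OddS (Oc (b * ι (dd 4 6)) ⊓ D) := fun b => (Oc_odd _).mono inf_le_left
  obtain ⟨h1, -⟩ := Cfsg.Agent.S0217.result (p := 2) (A0.map ι) AA
    (by
      rintro _ ⟨x, hx, rfl⟩
      rw [sq, ← map_mul, (A0_q x hx).1, map_one])
    (by rw [d.sy.card]; exact A0_card) (fun b => Oc (b * ι (dd 4 6)) ⊓ D)
    (fun b _ _ x hx => dn b x hx.2 (Oc_le _ hx.1)) (fun b _ _ => od b)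
    (fun b hb _ c hc x hx => ⟨conj_mem_of_mem_normalizer
      (cent_norm_Oc _ (up b c (AD hc) (mem_centralizer_singleton_iff.2 (AA c hc b hb)))) hx.1,
        D.mul_mem (D.mul_mem (AD hc) hx.2) (D.inv_mem (AD hc))⟩)
    (fun b _ _ => Cfsg.Agent.S0205.result (Nat.odd_iff.2 (by have := od b; omega)))
    (fun b hb b1 c hc c1 x hx => ⟨d.bal l (zt b hb b1) (zt c hc c1)
      (up c _ (mul_mem (AD hb) (mD _ rfl (by decide))) (mul_mem (mem_centralizer_singleton_iff.2 (AA b hb c hc))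
        (mem_centralizer_singleton_iff.2 (Dq c (AD hc)).symm))) ⟨hx.1.1, up c x hx.1.2 hx.2⟩, hx.1.2⟩)
  refine OddS.mono h1 (iSup_le fun i => ?_)
  have ED : EE.map ι ≤ D := by
    rintro _ ⟨x, hx, rfl⟩
    rw [eq_a (mem_EE.1 hx)]
    exact mD _ (by rw [dd, ← a_add, ← a_add, add_comm]) (by rw [dd, ← a_add, ← a_add, add_comm])
  have nX : EE.map ι ≤ 𝐍(Oc (ι (tt i)) ⊓ D) := le_normalizer_inf (E_Oc _) (ED.trans le_normalizer)
  have oX : OddS (Oc (ι (tt i)) ⊓ D) := (Oc_odd _).mono inf_le_left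
  have key : ∀ u : V, a u ∈ A0 → a u ≠ 1 → Oc (ι (tt i)) ⊓ D ⊓ 𝐂[ι (a u)] ≤
      ⨆ b : {b : G // b ∈ A0.map ι ∧ b ≠ 1}, Oc ((b : G) * ι (dd 4 6)) ⊓ D := fun u hu u1 => by
    refine le_iSup_of_le ⟨ι (a u), mem_map_of_mem ι hu, d.sy.ne u1⟩ fun x hx => ⟨?_, hx.1.2⟩
    have e : ι (a u) * ι (dd 4 6) = ι (a (u + (pt 4 + pt 6))) := by rw [a_add, map_mul]; rfl
    have := d.balE l (u := u + (pt 4 + pt 6)) (p _ (by rw [a_add]; exact (A0_q _ hu).2.2.2.2 u1)) oX nX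
      ⟨hx.1, e ▸ up _ x hx.1.2 hx.2⟩
    rwa [← e] at this
  refine gen4 oX (x := ι (a (v 5))) (y := ι (a (v 10))) (by rw [← map_mul, a_sq, map_one])
    (by rw [← map_mul, a_sq, map_one]) (by rw [← map_mul, ← map_mul, ← a_add, ← a_add, add_comm])
    (nX (mem_map_of_mem ι (a_EE _))) (nX (mem_map_of_mem ι (a_EE _))) (key _ (by decide) (by decide))
    (key _ (by decide) (by decide)) ?_
  rw [← map_mul, ← a_add]
  exact key _ (by decide) (by decide)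

end H24.T12
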