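import Cfsg.Agent.Lib.A12.Defs2
import Cfsg.Agent.Lib.A12.SIGI
/-! Package SIGJ of `blueprint/A12/README.md`. -/
set_option autoImplicit false
namespace H24.T12
open Subgroup H1.A10 H45 H69 Gold Cfsg

variable {G : Type} [Group G] [Finite G] {ι : M →* G} {π : G → B} {g k : G}

namespace SIGJ

def mt (n : ℕ) : Bool := !(Nat.beq (Nat.mod n 4) 0) && !(Nat.beq (Nat.mod (Nat.shiftRight n 2) 4) 0) &&
  !(Nat.beq (Nat.shiftRight n 4) 0)

theorem mt_wt : ∀ u : V, mt u.n = true → wt (w (a u)) = 6 := by decide +kernel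

def n4 (x y t r : V) : Prop := mt r.n = false ∧ mt (r + x).n = false ∧ mt (r + y).n = false ∧ mt (r + t).n = false ∧
  mt (r + x + y).n = false ∧ mt (r + x + t).n = false ∧ mt (r + y + t).n = false ∧ mt (r + x + y + t).n = false
instance (x y t r : V) : Decidable (n4 x y t r) := inferInstanceAs (Decidable (_ ∧ _))

theorem cov : ∀ x : V, Nat.mod x.n 4 ≠ 0 → mt x.n = false → ∀ y : V, Nat.mod (Nat.shiftRight y.n 2) 4 ≠ 0 → mt y.n = false →
    mt (x + y).n = false → ∀ t : V, Nat.shiftRight t.n 4 ≠ 0 → n4 x y 0 t → ∀ r, n4 x y t r →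
    r = 0 ∨ r = x ∨ r = y ∨ r = t ∨ r = x + y ∨ r = x + t ∨ r = y + t ∨ r = x + y + t := by decide +kernel

theorem fill {S : Set V} (hS : S.ncard = 16) (q : V → Prop) [DecidablePred q] (c : cnt q = 16) (h : ∀ u ∈ S, q u)
    {u : V} (hu : q u) : u ∈ S := by
  have e : S = {u | q u} := Set.eq_of_subset_of_ncard_le h (by rw [cnt_eq, c, hS]) (Set.toFinite _)
  rw [e]; exact hu

theorem cases16 {R : Subgroup M} (hR : R ≤ EE) (c : Nat.card R = 16) :
    (∃ u, a u ∈ R ∧ wt (w (a u)) = 6) ∨ (dd 4 6 ∈ R ∧ dd 5 6 ∈ R) ∨ (dd 0 6 ∈ R ∧ dd 1 6 ∈ R) := by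
  by_contra hn
  rw [not_or, not_or] at hn
  obtain ⟨h6, h45, h01⟩ := hn
  set S : Set V := {u | a u ∈ R} with hS
  have cS : S.ncard = 16 := by
    have e : a '' S = (R : Set M) := by
      ext x
      exact ⟨fun ⟨u, hu, e⟩ => e ▸ hu, fun hx => ⟨x.f, by
        have := eq_a (hR hx); rw [hS, Set.mem_setOf_eq, ← this]; exact hx, (eq_a (hR hx)).symm⟩⟩
    rw [← Set.ncard_image_of_injective S fun _ _ => a_inj, e, ← c]; rfl
  have ad : ∀ {x y}, x ∈ S → y ∈ S → x + y ∈ S := fun hx hy => by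
    rw [hS, Set.mem_setOf_eq, a_add]; exact mul_mem hx hy
  have nm : ∀ {x}, x ∈ S → mt x.n = false := fun {x} hx => by
    by_contra e; exact h6 ⟨x, hx, mt_wt x (by simpa using e)⟩
  have z0 : (0 : V) ∈ S := by rw [hS, Set.mem_setOf_eq, a_zero]; exact one_mem _
  by_cases h1 : ∀ u ∈ S, Nat.mod u.n 4 = 0
  · exact h45 ⟨fill cS _ (by decide +kernel) h1 (u := pt 4 + pt 6) (by decide +kernel),
      fill cS _ (by decide +kernel) h1 (u := pt 5 + pt 6) (by decide +kernel)⟩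
  by_cases h2 : ∀ u ∈ S, Nat.mod (Nat.shiftRight u.n 2) 4 = 0
  · exact h45 ⟨fill cS _ (by decide +kernel) h2 (u := pt 4 + pt 6) (by decide +kernel),
      fill cS _ (by decide +kernel) h2 (u := pt 5 + pt 6) (by decide +kernel)⟩
  by_cases h3 : ∀ u ∈ S, Nat.shiftRight u.n 4 = 0
  · exact h01 ⟨fill cS _ (by decide +kernel) h3 (u := pt 0 + pt 6) (by decide +kernel),
      fill cS _ (by decide +kernel) h3 (u := pt 1 + pt 6) (by decide +kernel)⟩
  push Not at h1 h2 h3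
  obtain ⟨x, hx, ex⟩ := h1
  obtain ⟨y, hy, ey⟩ := h2
  obtain ⟨t, ht, et⟩ := h3
  have n : ∀ {t r}, t ∈ S → r ∈ S → n4 x y t r := fun ht hr =>
    ⟨nm hr, nm (ad hr hx), nm (ad hr hy), nm (ad hr ht), nm (ad (ad hr hx) hy), nm (ad (ad hr hx) ht),
      nm (ad (ad hr hy) ht), nm (ad (ad (ad hr hx) hy) ht)⟩
  have sub : S ⊆ (([0, x, y, t, x + y, x + t, y + t, x + y + t] : List V).toFinset : Set V) := fun r hr => by
    have := cov x ex (nm hx) y ey (nm hy) (nm (ad hx hy)) t et (n z0 ht) r (n ht hr)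
    simpa using this
  have le := Set.ncard_le_ncard sub (Set.toFinite _)
  rw [cS, Set.ncard_coe_finset] at le
  exact absurd (le.trans (List.toFinset_card_le _)) (by simp)

theorem isc {x : M} (h : Fu ι x z) : IsConj (ι z) (ι x) := by
  obtain ⟨g, p⟩ := h.symm
  exact isConj_iff.2 ⟨g, p.eq⟩

theorem zty (d : Dat ι π) (p : PI ι) {x : M} (h2 : x * x = 1) (h6 : wt (w x) = 6) : IsConj (ι z) (ι x) := by
  obtain ⟨k, hk, u, q⟩ := d.intoE x h2
  refine isc (Fu.trans ⟨k, q⟩ (p u ?_))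
  rw [← d.down hk q, wt_conj, h6]

/-- the join of the three cores -/
def KK (ι : M →* G) (y : M) : Subgroup G := Oc (ι z) ⊔ Oc (ι y) ⊔ Oc (ι (z * y))

theorem le_KK (d : Dat ι π) (l : LocI ι 𝐂[ι z] (Oc (ι z))) {x y : M} (hx : IsConj (ι z) (ι x)) (y2 : y * y = 1)
    (hy : IsConj (ι z) (ι y)) (hy' : IsConj (ι z) (ι (z * y))) (c : x * y = y * x) : Oc (ι x) ≤ KK ι y := by
  have zz : z * z = 1 := by decide +kernel
  refine gen4 (x := ι z) (y := ι y) (Oc_odd _) (by rw [← map_mul, zz, map_one]) (by rw [← map_mul, y2, map_one])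
    (by rw [← map_mul, ← map_mul, z_comm]) (cent_norm_Oc _ (mem_c1 (z_comm x).symm)) (cent_norm_Oc _ (mem_c1 c.symm))
    ((d.bal l hx (IsConj.refl _) (mem_c1 (z_comm x))).trans (le_sup_left.trans le_sup_left))
    ((d.bal l hx hy (mem_c1 c)).trans (le_sup_right.trans le_sup_left)) ?_
  rw [← map_mul]
  exact (d.bal l hx hy' (mem_c1 (by rw [← mul_assoc, z_comm, mul_assoc, c, mul_assoc]))).trans le_sup_right

theorem norm_KK (y : M) : 𝐂[ι z] ⊓ 𝐂[ι y] ≤ 𝐍(KK ι y) := by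
  refine le_normalizer_sup (le_normalizer_sup (inf_le_left.trans (cent_norm_Oc _)) (inf_le_right.trans (cent_norm_Oc _)))
    (le_trans (fun g hg => ?_) (cent_norm_Oc _))
  exact ((Cj.of_cent hg.1).mul (Cj.of_cent hg.2)).cent

theorem ttz (d : Dat ι π) (i : Fin 7) : IsConj (ι z) (ι (tt i)) := by
  obtain ⟨g, _, p⟩ := d.tr i
  exact isConj_iff.2 ⟨g, p.eq⟩

theorem cE {x y : M} (hx : x ∈ EE) (hy : y ∈ EE) : x * y = y * x := by
  rw [eq_a hx, eq_a hy, ← a_add, ← a_add, add_comm]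

theorem Wb_le {R : Subgroup M} {K : Subgroup G} (h : ∀ i, Oc (ι (tt i)) ⊓ 𝐂(R.map ι) ≤ K) : Wb ι R ≤ K := iSup_le h

theorem le_Wb (R : Subgroup M) (i : Fin 7) : Oc (ι (tt i)) ⊓ 𝐂(R.map ι) ≤ Wb ι R :=
  le_iSup (fun i => Oc (ι (tt i)) ⊓ 𝐂(R.map ι)) i

theorem odd_of_le {X Y : Subgroup G} (h : X ≤ Y) (o : OddS Y) : OddS X := fun e => o (e.trans (card_dvd_of_le h))

theorem cen2 {x y : M} (h1 : g ∈ 𝐂[ι x]) (h2 : g ∈ 𝐂[ι y]) : g ∈ 𝐂((closure {x, y}).map ι) := by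
  rw [MonoidHom.map_closure, centralizer_closure, Set.image_pair]
  rintro t (rfl | rfl)
  exacts [h1 _ rfl, h2 _ rfl]

theorem cen1 {R : Subgroup M} {x : M} (hx : x ∈ R) : 𝐂(R.map ι) ≤ 𝐂[ι x] :=
  centralizer_le (by rintro _ rfl; exact ⟨x, hx, rfl⟩)

theorem good (d : Dat ι π) (p : PI ι) (l : LocI ι 𝐂[ι z] (Oc (ι z))) (R : Subgroup M) (hR : R ≤ EE)
    (c : Nat.card R = 16) : Good ι R := by
  have o : OddS (Wb ι R) := by
    rcases cases16 hR c with ⟨u, hu, h6⟩ | ⟨h4, h5⟩ | ⟨h0, h1⟩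
    · refine odd_of_le (Wb_le fun i => (inf_le_inf_left _ (cen1 hu)).trans ?_) (Oc_odd (ι (a u)))
      exact d.bal l (ttz d i) (isc (p u h6)) (mem_c1 (cE (a_EE _) (a_EE u)))
    · refine odd_of_le (Wb_le fun i => le_trans (inf_le_inf_left _ fun g hg => ?_) (le_Wb _ i)) (d.v3 p l)
      exact cen2 (cen1 h4 hg) (cen1 h5 hg)
    · obtain ⟨k, -, -, -, q⟩ := d.rot
      set ρ : Equiv.Perm (Fin 7) := Equiv.swap 0 4 * Equiv.swap 0 2 * (Equiv.swap 1 5 * Equiv.swap 1 3) with hρ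
      have q4 : Cj ι k (dd 4 6) (dd 0 6) := (q.pdd 4 6).congr rfl (by rw [hρ]; decide +kernel)
      have q5 : Cj ι k (dd 5 6) (dd 1 6) := (q.pdd 5 6).congr rfl (by rw [hρ]; decide +kernel)
      have o' : OddS (Wb ι (closure {dd 4 6, dd 5 6}) ^ᶜ k) := by
        unfold OddS; rw [card_cj]; exact d.v3 p l
      refine odd_of_le (Wb_le fun i => le_trans ?_ (cj_mono k (le_Wb _ (ρ⁻¹ i)))) o'
      intro g hg
      refine mem_cj.2 ⟨mem_cj.1 ?_, cen2 (mem_cj.1 ?_) (mem_cj.1 ?_)⟩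
      · rw [(q (ρ⁻¹ i)).oc_cj]; simpa using hg.1
      · rw [q4.cent_cj]; exact cen1 h0 hg.2
      · rw [q5.cent_cj]; exact cen1 h1 hg.2
  refine ⟨o, fun i => d.balE l (u := pt i + v 63) ?_ o (Wb_norm R hR)⟩
  obtain ⟨g, _, q⟩ := d.tr i
  exact ⟨_, q.symm⟩

end SIGJ

open SIGJ in
theorem Dat.sigI (d : Dat ι π) (p : PI ι) (l : LocI ι 𝐂[ι z] (Oc (ι z))) : Sig ι := by
  have go := recur d.sy (good d p l)
  have lw : ∀ i, Oc (ι (tt i)) ≤ Wb ι ⊥ := fun i => by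
    refine le_trans ?_ (le_Wb ⊥ i)
    rw [Subgroup.map_bot, H69.centralizer_bot, inf_top_eq]
  have inE : ∀ x ∈ EE, IsConj (ι z) (ι x) → Oc (ι x) ≤ Wb ι ⊥ := fun x hx c => by
    refine genS (ι := ι) (Oc_odd _) ((map_cent fun t ht => cE ht hx).trans (cent_norm_Oc _)) ∅ (by simp) (by simp) fun i _ => ?_
    exact (d.bal l c (ttz d i) (mem_c1 (cE hx (a_EE _)))).trans (lw i)
  have ne : NE ι ≤ 𝐍(Wb ι ⊥) := fun g hg => by
    refine mem_normalizer_of_cj_le (cj_le_iff.2 (Wb_le fun i => inf_le_left.trans (cj_le_iff.1 ?_)))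
    obtain ⟨x, hx, q⟩ := img hg (x := tt i) (a_EE _)
    rw [q.oc_cj]
    exact inE x hx ((ttz d i).trans (isConj_iff.2 ⟨g, q.eq⟩))
  have a0 : IsConj (ι z) (ι y0) := zty d p (by decide +kernel) (by decide +kernel)
  have b0 : IsConj (ι z) (ι (z * y0)) := zty d p (by decide +kernel) (by decide +kernel)
  have a1 : IsConj (ι z) (ι y1) := zty d p (by decide +kernel) (by decide +kernel)
  have b1 : IsConj (ι z) (ι (z * y1)) := zty d p (by decide +kernel) (by decide +kernel)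
  have lz : Oc (ι z) ≤ Wb ι ⊥ := tt6 ▸ lw 6
  have e0 : Wb ι ⊥ = KK ι y0 := by
    refine le_antisymm (Wb_le fun i => inf_le_left.trans ?_) (sup_le (sup_le lz ?_) ?_)
    · exact le_KK d l (ttz d i) (by decide +kernel) a0 b0 (cE (a_EE _) (by decide +kernel))
    · exact inE _ (by decide +kernel) a0
    · exact inE _ (by decide +kernel) b0
  have e1 : KK ι y0 = KK ι y1 := by
    refine le_antisymm (sup_le (sup_le (le_sup_left.trans le_sup_left) ?_) ?_)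
      (sup_le (sup_le (le_sup_left.trans le_sup_left) ?_) ?_)
    · exact le_KK d l a0 (by decide +kernel) a1 b1 (by decide +kernel)
    · exact le_KK d l b0 (by decide +kernel) a1 b1 (by decide +kernel)
    · exact le_KK d l a1 (by decide +kernel) a0 b0 (by decide +kernel)
    · exact le_KK d l b1 (by decide +kernel) a0 b0 (by decide +kernel)
  refine ⟨Wb ι ⊥, go.1, lz, l.gen.trans (sup_le (sup_le (sup_le (lz.trans le_normalizer) ?_) ?_) ?_), ne⟩
  · rintro _ ⟨x, rfl⟩; exact ne (mem_NE x)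
  · rw [e0]; exact norm_KK y0
  · rw [e0, e1]; exact norm_KK y1

end H24.T12
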