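import Cfsg.Agent.Lib.A12.Defs2
import Cfsg.Agent.Lib.A12.BAS
/-! Fusion out of `EE` forces fusion of an element of `FF`: the case that the coset of `c` is moved. -/
set_option autoImplicit false
set_option linter.unusedSectionVars false
namespace H24.T12
open Subgroup H1.A10 H45 H69 Gold Cfsg

variable {G : Type} [Group G] [Finite G] {ι : M →* G} {π : G → B} {g k : G}

namespace X3aH

variable {n : G} {x y x0 y0 j : M}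

/-- fused into `EE` -/
def Fz (ι : M →* G) (x : M) : Prop := ∃ u, Fu ι x (a u)

theorem Fz.of (h : Fz ι y) (p : Cj ι n x y) : Fz ι x := h.imp fun _ e => Fu.trans ⟨n, p⟩ e

theorem fzE (h : x ∈ EE) : Fz ι x := ⟨x.f, eq_a h ▸ Fu.refl _⟩

/-- the image of a subgroup under conjugation -/
def im (ι : M →* G) (n : G) (K : Subgroup M) : Subgroup M where
  carrier := {y | ∃ x ∈ K, Cj ι n x y}
  mul_mem' := fun ⟨_, hx, p⟩ ⟨_, hx', q⟩ => ⟨_, mul_mem hx hx', p.mul q⟩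
  one_mem' := ⟨1, one_mem _, Cj.one n⟩
  inv_mem' := fun ⟨_, hx, p⟩ => ⟨_, inv_mem hx, p.inv⟩

theorem coset (hn : n ∈ NE ι) (p : Cj ι n x0 y0) (e : x.s = x0.s) : ∃ y, y.s = y0.s ∧ Cj ι n x y := by
  obtain ⟨y, hy, q⟩ := img hn (x := x * x0⁻¹) (by rw [mem_EE, M.mul_s, M.inv_s, e, mul_inv_cancel])
  exact ⟨y * y0, by rw [M.mul_s, mem_EE.1 hy, one_mul], (q.mul p).congr (inv_mul_cancel_right _ _) rfl⟩

theorem d1 : ∀ σ τ τ' : P, σ * σ = 1 → σ ≠ 1 → bt τ.n 2 = 0 → τ ≠ 1 → τ ≠ c.s →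
    (τ' = tau.s ∨ τ' = (c * tau).s) → σ = c.s ∨ (∃ ρ, ρ * τ * ρ⁻¹ = σ) ∨ ∃ ρ, ρ * τ' * ρ⁻¹ = σ := by
  decide +kernel

theorem d2 : ∀ x ∈ FF, ∀ u, x * a u * x⁻¹ * (a u)⁻¹ = dd 4 5 → x.s = tau.s ∨ x.s = (c * tau).s := by
  decide +kernel

theorem d3 : ∀ x : M, x.s = c.s → x * x = 1 → x ∉ FF → ∃ t, t * x * t⁻¹ = m 16 1 := by decide +kernel

theorem d4 : ∀ j : M, j.s = c.s → j * j = 1 → ∀ x, x * j = j * x → (x.s = 1 ∨ x.s = c.s) →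
    x * c = c * x := by decide +kernel

theorem d5 : ∀ x : M, x * c = c * x → (x.s = 1 ∨ x.s = c.s) → x * x = 1 ∧ x * m 16 1 = m 16 1 * x := by
  decide +kernel

theorem d6 : ∀ x : M, x * x = 1 → (x.s = c.s ∨ x.s = sg.s ∨ x.s = (c * sg).s) →
    (∃ u, a u * x * (a u)⁻¹ * c = c * (a u * x * (a u)⁻¹) ∧ a u * x * (a u)⁻¹ * sg = sg * (a u * x * (a u)⁻¹)) ∧
    ∃ u, a u * x * (a u)⁻¹ * m 3 1 = m 3 1 * (a u * x * (a u)⁻¹) ∧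
      a u * x * (a u)⁻¹ * m 5 2 = m 5 2 * (a u * x * (a u)⁻¹) := by decide +kernel

theorem d7 : ∀ x ∈ EE, x * c = c * x → x ∉ FF → ∀ y ∈ EE, y * c = c * y →
    (y ∈ FF → x * y ∉ FF) ∧ (y ∉ FF → x * y ∈ FF) := by decide +kernel

theorem d8 : ∀ x ∈ EE, x * c = c * x → x * sg = sg * x → x ∈ FF → x = 1 ∨ x = z4 ∨ x = z2 ∨ x = z := by
  decide +kernel

theorem mA : x ∈ Aj c ↔ x * c = c * x ∧ (x.s = 1 ∨ x.s = c.s) := mem_Aj (by decide)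

theorem mvc (s : Sy ι) (h1 : X1 ι g) (h2 : X2 ι k) (al : ∀ y, Cj ι g c y → y.s ≠ c.s) {σ : P} (h : σ * σ = 1)
    (h' : σ ≠ 1) : ∃ n ∈ NE ι, ∃ y, y.s = σ ∧ Cj ι n c y := by
  obtain ⟨y1, hy1, p1⟩ := h1.r1 c (by decide)
  obtain ⟨y2, hy2, p2⟩ := img h2.nf (x := c) (by decide)
  obtain ⟨e, he, p3⟩ := img h2.ne (x := m 4 0) (by decide)
  have a1 : y1 ∉ EE := fun h => absurd ((s.back h1.ne p1).2 h) (by decide)
  have a2 : y2 * e * y2⁻¹ * e⁻¹ = dd 4 5 :=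
    s.right (((p2.mul p3).mul p2.inv).mul p3.inv) (h2.c1.congr (by decide +kernel) rfl)
  rw [eq_a he] at a2
  rcases d1 σ y1.s y2.s h h' hy1 a1 (al _ p1) (d2 _ hy2 _ a2) with e | ⟨ρ, e⟩ | ⟨ρ, e⟩
  · exact ⟨1, one_mem _, c, e.symm, Cj.refl c⟩
  · exact ⟨_, mul_mem (mem_NE (p ρ)) h1.ne, _, e, p1.comp (Cj.of (p ρ) y1)⟩
  · exact ⟨_, mul_mem (mem_NE (p ρ)) h2.ne, _, e, p2.comp (Cj.of (p ρ) y2)⟩

theorem toA (s : Sy ι) (hn : n ∈ NE ι) (p : Cj ι n c y) (e : y.s = j.s) (hj : j * j = 1) :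
    ∀ x ∈ Aj j, ∃ x' ∈ Aj c, Cj ι n⁻¹ x x' := fun x hx => by
  obtain ⟨h1, h2⟩ := (mem_Aj (sq_iff.1 hj).1).1 hx
  obtain ⟨j', e1, q⟩ := coset (inv_mem hn) p.symm e.symm
  obtain ⟨x', e2, r⟩ : ∃ x', (x'.s = 1 ∨ x'.s = c.s) ∧ Cj ι n⁻¹ x x' := h2.elim
    (fun h => (img (inv_mem hn) h).imp fun _ h => ⟨Or.inl h.1, h.2⟩)
    fun h => (coset (inv_mem hn) q h).imp fun _ h => ⟨Or.inr (h.1.trans e1), h.2⟩
  exact ⟨x', mA.2 ⟨d4 j' e1 (s.sq q hj) x' (s.comm r q h1) e2, e2⟩, r⟩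

theorem fin (s : Sy ι) (h1 : X1 ι g) (uA : ∀ x ∈ Aj c, ¬ Fz ι x ↔ x ∈ FF ∧ x ∉ EE)
    (h : ∀ x ∈ Aj c, ∃ y ∈ Aj c, Cj ι n x y) (p : Cj ι n (m 16 1) y) (hy : y ∈ EE) : False := by
  have hn := inv_mem (norm_of h)
  have cA : c ∈ Aj c := mA.2 ⟨rfl, Or.inr rfl⟩
  have cs : ∀ x ∈ Aj c, x ∉ EE → x.s = c.s := fun x h h' => (mA.1 h).2.resolve_left h'
  have un : ∀ x ∈ Aj c, ∀ x' ∈ Aj c, Cj ι n⁻¹ x x' → x ∈ FF → x ∉ EE → x' ∈ FF ∧ x'.s = c.s :=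
    fun x hx x' hx' q a b => ((uA x' hx').1 fun f => (uA x hx).2 ⟨a, b⟩ (f.of q)).imp_right (cs x' hx')
  have U : ∀ x ∈ EE, x * c = c * x → x ∈ FF → ∃ x' ∈ EE, x' ∈ FF ∧ x' ∈ Aj c ∧ Cj ι n⁻¹ x x' := fun x a b d => by
    have hx : x * c ∈ Aj c := mul_mem (mA.2 ⟨b, Or.inl a⟩) cA
    obtain ⟨c', hc', q⟩ := img hn cA
    obtain ⟨x', hx', r⟩ := img hn hx
    have e1 := un c cA c' hc' q (by decide) (by decide)
    have e2 := un _ hx x' hx' r (mul_mem d (by decide)) (by rw [mem_EE, M.mul_s, mem_EE.1 a]; decide)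
    exact ⟨x' * c'⁻¹, by rw [mem_EE, M.mul_s, M.inv_s, e1.2, e2.2, mul_inv_cancel], mul_mem e2.1 (inv_mem e1.1),
      mul_mem hx' (inv_mem hc'), (r.mul q.inv).congr (mul_inv_cancel_right _ _) rfl⟩
  obtain ⟨y', hy', p'⟩ := h (m 16 1) (mA.2 (by decide +kernel))
  obtain rfl := s.right p p'
  have yc := (mA.1 hy').1
  have yF : y ∉ FF := fun f => by
    obtain ⟨x', a, -, -, q⟩ := U y hy yc f
    exact absurd (s.right q p.symm ▸ a) (by decide)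
  have W : ∀ t ∈ EE, t * c = c * t → t ∉ FF → Fu ι t (m 16 1) := fun t a b d => by
    obtain ⟨x', a', b', d', q⟩ := U (t * y) (mul_mem a hy) (by
      rw [mul_assoc, yc, ← mul_assoc, b, mul_assoc]) ((d7 t a b d y hy yc).2 yF)
    have r := (q.mul p.symm).congr (show t * y * y = t by rw [mul_assoc, BAS.sqE hy, mul_one]) rfl
    obtain ⟨t', e⟩ := d3 (x' * m 16 1) (by rw [M.mul_s, mem_EE.1 a']; decide) (s.sq r (BAS.sqE a))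
      fun f => absurd ((mul_mem_cancel_left b').1 f) (by decide)
    exact Fu.trans ⟨_, r⟩ (Fu.of t' e)
  obtain ⟨y1, p1, n1, n2⟩ := h1.mv
  obtain ⟨y2, E2, p2⟩ := img h1.ne (x := z) (by decide)
  have E1 : y1 ∈ EE := (s.back h1.ne p1).1 (by decide)
  obtain ⟨c0, -, q1⟩ := img (inv_mem (norm_of h1.r1)) (x := c) (by decide)
  obtain ⟨s0, -, q2⟩ := img (inv_mem (norm_of h1.r1)) (x := sg) (by decide)
  have q3 := q1.symm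
  have q4 := q2.symm
  rw [inv_inv] at q3 q4
  have c1 := s.comm p1 q3 (z2_comm _).symm
  have c2 := s.comm p2 q3 (z_comm _).symm
  have F1 : y1 ∉ FF := fun f => by
    rcases d8 y1 E1 c1 (s.comm p1 q4 (z2_comm _).symm) f with e | e | e | e
    exacts [s.ne1 p1 (by decide) e, nf24 s ⟨g, e ▸ p1⟩, n1 e, n2 e]
  have w1 := Fu.trans ⟨g, p1⟩ (W y1 E1 c1 F1)
  by_cases f : y2 ∈ FF
  · exact nf24 s (w1.trans (Fu.trans ⟨g, (p1.mul p2).congr (by decide +kernel) rfl⟩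
      (W _ (mul_mem E1 E2) (by rw [mul_assoc, c2, ← mul_assoc, c1, mul_assoc])
        ((d7 y1 E1 c1 F1 y2 E2 c2).1 f))).symm)
  · exact nf2 s (w1.trans (Fu.trans ⟨g, p2⟩ (W y2 E2 c2 f)).symm)

end X3aH

open X3aH in
theorem x3a (s : Sy ι) (h1 : X1 ι g) (h2 : X2 ι k) (al : ∀ y, Cj ι g c y → y.s ≠ c.s) (h : Out ι) : OutF ι := by
  by_contra hF
  have uF : ∀ x ∈ FF, x ∉ EE → ¬ Fz ι x := fun x h h' f => hF ⟨x, h, h', f⟩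
  obtain ⟨y, yE, y2, fy⟩ := h
  have f4 : Fz ι (m 16 1) := by
    obtain ⟨n, hn, y0, e, p⟩ := mvc s h1 h2 al (sq_iff.1 y2).1 yE
    obtain ⟨x, ex, q⟩ := coset (inv_mem hn) p.symm e.symm
    have fx : Fz ι x := Fz.of fy q.symm
    obtain ⟨t, ht⟩ := d3 x ex (s.sq q y2) fun h => uF x h (by rw [mem_EE, ex]; decide) fx
    exact fx.of (Cj.of' ht).symm
  have uA : ∀ x ∈ Aj c, ¬ Fz ι x ↔ x ∈ FF ∧ x ∉ EE := fun x hx => ⟨fun f => by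
    obtain ⟨a1, a2⟩ := mA.1 hx
    refine ⟨by_contra fun h => ?_, fun h => f (fzE h)⟩
    obtain ⟨t, ht⟩ := d3 x (a2.resolve_left fun h => f (fzE h)) (d5 x a1 a2).1 h
    exact f (f4.of (Cj.of' ht)), fun h => uF x h.1 h.2⟩
  obtain ⟨u, fu⟩ := f4
  obtain ⟨n, u', p, on⟩ := extE s fu
  have hA : ∀ x ∈ Aj c, ∃ y ∈ im ι n (Aj c), Cj ι n x y := fun x hx =>
    (on x (mem_centralizer_singleton_iff.2 (d5 x (mA.1 hx).1 (mA.1 hx).2).2)).imp fun _ q => ⟨⟨x, hx, q⟩, q⟩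
  have P3 : ∀ x1 ∈ im ι n (Aj c), ∀ x2 ∈ im ι n (Aj c), ∀ x3 ∈ im ι n (Aj c), ¬ Fz ι x1 → ¬ Fz ι x2 → ¬ Fz ι x3 →
      x1 * x2 * x3 ∉ EE := by
    rintro _ ⟨x1, a1, q1⟩ _ ⟨x2, a2, q2⟩ _ ⟨x3, a3, q3⟩ f1 f2 f3 e
    have b1 := (uA x1 a1).1 fun f => f1 (f.of q1.symm)
    have b2 := (uA x2 a2).1 fun f => f2 (f.of q2.symm)
    have b3 := (uA x3 a3).1 fun f => f3 (f.of q3.symm)
    refine uF _ (mul_mem (mul_mem b1.1 b2.1) b3.1) ?_ ((fzE e).of ((q1.mul q2).mul q3))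
    rw [mem_EE, M.mul_s, M.mul_s, (mA.1 a1).2.resolve_left b1.2, (mA.1 a2).2.resolve_left b2.2,
      (mA.1 a3).2.resolve_left b3.2]
    decide
  have uc : ¬ Fz ι c := uF c (by decide) (by decide)
  have aj : ∀ j : M, j * j = 1 → j.s ≠ 1 → im ι n (Aj c) ≠ Aj j := fun j hj h0 e => by
    obtain ⟨n', hn', y0, e', p'⟩ := mvc s h1 h2 al (sq_iff.1 hj).1 h0
    obtain ⟨t, ht, q⟩ := img (inv_mem hn') (a_EE u')
    refine fin s h1 uA (fun x hx => ?_) (p.comp q) ht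
    obtain ⟨x1, b1, q1⟩ := hA x hx
    obtain ⟨x2, b2, q2⟩ := toA s hn' p' e' hj x1 (e ▸ b1)
    exact ⟨x2, b2, q1.comp q2⟩
  have a2 : ∀ σ : P, (σ = c.s ∨ σ = sg.s ∨ σ = (c * sg).s) →
      (∃ x ∈ A2, x.s = σ ∧ ¬ Fz ι x) ∧ ∃ x ∈ A2', x.s = σ ∧ ¬ Fz ι x := fun σ hσ => by
    obtain ⟨n', -, y0, rfl, p'⟩ := mvc s h1 h2 al (σ := σ) (by rcases hσ with e | e | e <;> rw [e] <;> decide)
      (by rcases hσ with e | e | e <;> rw [e] <;> decide)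
    obtain ⟨⟨v1, e1⟩, v2, e2⟩ := d6 y0 (s.sq p' (by decide)) hσ
    have hs : ∀ v, (a v * y0 * (a v)⁻¹).s = y0.s := fun v => by simp
    have hR : ∀ v, a v * y0 * (a v)⁻¹ ∈ R1 := fun v => by
      show bt (a v * y0 * (a v)⁻¹).s.n 2 = 0
      rw [hs]
      rcases hσ with e | e | e <;> rw [e] <;> decide
    exact ⟨⟨_, TAB.mem_A2.2 ⟨e1, hR _⟩, hs _, fun f => uc (f.of (p'.comp (Cj.of _ _)))⟩,
      _, TAB.mem_A2'.2 ⟨e2, hR _⟩, hs _, fun f => uc (f.of (p'.comp (Cj.of _ _)))⟩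
  obtain ⟨⟨x1, b1, e1, f1⟩, x1', b1', e1', f1'⟩ := a2 _ (Or.inl rfl)
  obtain ⟨⟨x2, b2, e2, f2⟩, x2', b2', e2', f2'⟩ := a2 _ (Or.inr (Or.inl rfl))
  obtain ⟨⟨x3, b3, e3, f3⟩, x3', b3', e3', f3'⟩ := a2 _ (Or.inr (Or.inr rfl))
  rcases el32 (A := im ι n (Aj c)) (fun _ ⟨x, hx, q⟩ => s.sq q (d5 x (mA.1 hx).1 (mA.1 hx).2).1)
    (card_Aj.1.symm.trans_le (s.count hA)) with e | e | e | e | e | e | e | e | e
  · obtain ⟨x, hx, q⟩ := hA c (mA.2 ⟨rfl, Or.inr rfl⟩)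
    exact uc ((fzE (e hx)).of q)
  · rw [e] at P3
    exact P3 c (by decide) tau (by decide) (c * tau) (by decide) uc (uF _ (by decide) (by decide))
      (uF _ (by decide) (by decide)) (by decide)
  · exact aj _ (by decide) (by decide) e
  · exact aj _ (by decide) (by decide) e
  · exact aj _ (by decide) (by decide) e
  · exact aj _ (by decide) (by decide) e
  · exact aj _ (by decide) (by decide) e
  · rw [e] at P3
    exact P3 x1 b1 x2 b2 x3 b3 f1 f2 f3 (by rw [mem_EE, M.mul_s, M.mul_s, e1, e2, e3]; decide)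
  · rw [e] at P3
    exact P3 x1' b1' x2' b2' x3' b3' f1' f2' f3' (by rw [mem_EE, M.mul_s, M.mul_s, e1', e2', e3']; decide)

end H24.T12
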