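import Cfsg.Agent.Lib.A12.Defs2
import Cfsg.Agent.Lib.A12.BAS
/-! Package X3b of `blueprint/A12/README.md`. -/
set_option autoImplicit false
set_option linter.unusedSectionVars false
namespace H24.T12
open Subgroup H1.A10 H45 H69 Gold Cfsg

variable {G : Type} [Group G] [Finite G] {ι : M →* G} {π : G → B} {g k : G}

namespace X3b

/-- counting in the model -/
def cM (q : M → Prop) [DecidablePred q] : ℕ := ∑ σ : P, cnt fun u => q ⟨u, σ⟩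
/-- one of four truth values -/
def sel (b0 b1 b2 b3 : Bool) (i : ℕ) : Bool := cond (Nat.beq i 0) b0 (cond (Nat.beq i 1) b1 (cond (Nat.beq i 2) b2 b3))
/-- representatives of the classes of involutions over `sg` -/
def rep (i : Fin 4) : M := m (16 * i.val) 2
/-- the involutions fused into `EE` -/
def Ph (b0 b1 b2 b3 : Bool) (x : M) : Bool := Nat.beq x.s.n 0 || ((Nat.beq x.s.n 2 && sel b0 b1 b2 b3 (x.f.n / 16)) ||
  (Nat.beq x.s.n 3 && sel b0 b1 b2 b3 (bt x.f.n 5 + 2 * bt x.f.n 4)))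
/-- membership in `A2` -/
def p2 (x : M) : Bool := Nat.beq (bt x.s.n 2) 0 && (Nat.beq (x.f.n % 16) 0 || Nat.beq (x.f.n % 16) 15)
/-- the possible images of `z2` -/
def Y4 : List M := [m 16 0, m 32 0, m 31 0, m 47 0]
/-- fused into `EE` -/
def Fd (ι : M →* G) (x : M) : Prop := ∃ u, Fu ι x (a u)

theorem auto_lemmas : True := by
  have := @cM.eq_1
  have := @sel.eq_1
  have := @rep.eq_1
  have := @Ph.eq_1
  have := @p2.eq_1
  have := @Y4.eq_1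
  have := @Fd.eq_1
  trivial

theorem cM_eq (q : M → Prop) [DecidablePred q] : {x | q x}.ncard = cM q := by
  let e : {x | q x} ≃ Σ σ : P, {u | q ⟨u, σ⟩} :=
    ⟨fun x => ⟨x.1.s, x.1.f, x.2⟩, fun y => ⟨⟨y.2.1, y.1⟩, y.2.2⟩, fun _ => rfl, fun _ => rfl⟩
  rw [← Nat.card_coe_set_eq, Nat.card_congr e, Nat.card_sigma]
  exact Finset.sum_congr rfl fun σ _ => (Nat.card_coe_set_eq _).trans (cnt_eq _)

theorem mem2 {x : M} : x ∈ A2 ↔ p2 x = true := by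
  simp only [A2, mem_inf, mem_centralizer_singleton_iff]
  revert x
  decide +kernel

theorem mem2' {x : M} : x ∈ A2' ↔ p2 ((m 1 0)⁻¹ * x * m 1 0) = true := by
  simp only [A2', mem_inf, mem_centralizer_singleton_iff]
  revert x
  decide +kernel

theorem t0 : ∀ x, p2 x = true → x * x = 1 ∧ ∀ i, x * rep i = rep i * x := by decide +kernel

theorem t1 : ∀ x : M, x * x = 1 → (x.s = 1 ∧ ∀ b0 b1 b2 b3, Ph b0 b1 b2 b3 x = true) ∨
    ((x.s = c.s ∨ x.s = tau.s ∨ x.s = (c * tau).s) ∧ ∀ b0 b1 b2 b3, Ph b0 b1 b2 b3 x = false) ∨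
    ∃ i : Fin 4, (∀ b0 b1 b2 b3, Ph b0 b1 b2 b3 x = sel b0 b1 b2 b3 i) ∧ ∃ t, t * x * t⁻¹ = rep i := by
  decide +kernel

theorem t2 : ∀ x : M, x.s = c.s → x * x = 1 → (x ∈ FF ∨ ∃ t, t * x * t⁻¹ = m 16 1) ∧
    ∀ y ∈ Y4, x ∉ FF ∨ x * y ∉ FF := by
  decide +kernel

theorem t3 : ∀ x : M, x.s = sg.s → x * x = 1 → ∀ y ∈ Y4, ∀ y' ∈ Y4, y' ≠ y → y' ≠ y * z4 → ∀ b0 b1 b2 b3,
    Ph b0 b1 b2 b3 sg = Ph b0 b1 b2 b3 x → Ph b0 b1 b2 b3 (sg * z2) = Ph b0 b1 b2 b3 (x * y) →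
    Ph b0 b1 b2 b3 (sg * y) = Ph b0 b1 b2 b3 (x * y') →
    Ph b0 b1 b2 b3 (sg * z2 * y) = Ph b0 b1 b2 b3 (x * y * y') → b0.toNat + b1.toNat + b2.toNat + b3.toNat ≠ 2 := by
  decide +kernel

theorem t4 : ∀ b0 b1 b2 b3 : Bool, b0.toNat + b1.toNat + b2.toNat + b3.toNat ≠ 2 →
    (∃ i : Fin 4, sel b0 b1 b2 b3 i = true) →
    (cM fun x => p2 x = true ∧ Ph b0 b1 b2 b3 x = false) ≠ (cM fun x => x ∈ FF ∧ Ph b0 b1 b2 b3 x = false) ∧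
    ∀ j ∈ [c, sg, c * sg, tau, c * tau], (cM fun x => p2 x = true ∧ Ph b0 b1 b2 b3 x = false) ≠
      cM fun x => Ph b0 b1 b2 b3 x = false ∧ x.s = j.s ∧ x * j = j * x := by
  decide +kernel

theorem t5 : ∀ b0 b1 b2 b3 : Bool, b0.toNat + b1.toNat + b2.toNat + b3.toNat ≠ 2 →
    (∀ i : Fin 4, sel b0 b1 b2 b3 i = true →
      (cM fun x => p2 x = true ∧ Ph b0 b1 b2 b3 x = true ∧ Ph b0 b1 b2 b3 (rep i * x) = true) ≤
        4 * (b0.toNat + b1.toNat + b2.toNat + b3.toNat)) ∧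
    ∀ u, p2 (a u) = true → 4 * (b0.toNat + b1.toNat + b2.toNat + b3.toNat) <
      cM fun x => p2 x = true ∧ Ph b0 b1 b2 b3 x = true ∧ Ph b0 b1 b2 b3 (a u * x) = true := by
  decide +kernel

theorem t6 : ∀ y : M, y.s = 1 → y * c = c * y → y * sg = sg * y → y ≠ 1 → y ≠ z2 → y ≠ z → y ≠ z4 → y ∈ Y4 := by
  decide +kernel

theorem t7 : ∀ y ∈ Y4, y.s = 1 ∧ y ≠ z2 ∧ y ≠ z ∧ tau * (z2 * y) * tau⁻¹ = y ∧ y * (y * z4) = z4 ∧
    sg * y * (sg * y) = 1 ∧ sg * z2 * y * (sg * z2 * y) = 1 ∧ ∀ r ∈ R1, y * r = r * y := by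
  decide +kernel

variable {x y x' : M}

theorem Fd.iff (p : Cj ι g x y) : Fd ι x ↔ Fd ι y :=
  ⟨fun ⟨u, h⟩ => ⟨u, (Fu.symm ⟨g, p⟩).trans h⟩, fun ⟨u, h⟩ => ⟨u, Fu.trans ⟨g, p⟩ h⟩⟩

theorem coset (hg : g ∈ NE ι) (p : Cj ι g x y) (h : x'.s = x.s) : ∃ y', Cj ι g x' y' ∧ y'.s = y.s := by
  obtain ⟨e, he, q⟩ := img hg (x := x⁻¹ * x') (by simp [mem_EE, h])
  exact ⟨y * e, (p.mul q).congr (mul_inv_cancel_left _ _) rfl, by simp [mem_EE.1 he]⟩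

theorem toY (s : Sy ι) (h1 : X1 ι g) (p : Cj ι g x y) (hx : x ∈ EE) (c1 : ∀ r ∈ R1, x * r = r * x)
    (f : Fu ι z2 y) (n1 : y ≠ z2) (n2 : y ≠ z) : y ∈ Y4 := by
  have k : ∀ r ∈ R1, y * r = r * y := fun r hr => by
    obtain ⟨r', hr', q⟩ := img (inv_mem (norm_of h1.r1)) hr
    exact s.comm p (q.symm.congr rfl rfl |> (inv_inv g ▸ ·)) (c1 r' hr')
  obtain ⟨g', q⟩ := id f
  exact t6 y ((s.back h1.ne p).1 hx) (k _ (by decide +kernel)) (k _ (by decide +kernel))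
    (s.ne1 q (by decide +kernel)) n1 n2 fun e => nf24 s (e ▸ f)

theorem cyc (s : Sy ι) (h1 : X1 ι g) :
    ∃ y ∈ Y4, ∃ y' ∈ Y4, Cj ι g z2 y ∧ Cj ι g y y' ∧ y' ≠ y ∧ y' ≠ y * z4 := by
  obtain ⟨y, p, n1, n2⟩ := h1.mv
  have hy := toY s h1 p (by decide +kernel) (fun r _ => (z2_comm r).symm) ⟨g, p⟩ n1 n2
  obtain ⟨e1, -, -, e2, e3, -, -, e4⟩ := t7 y hy
  obtain ⟨y', -, q⟩ := img h1.ne (x := y) e1
  refine ⟨y, hy, y', toY s h1 q e1 e4 ⟨_, p.comp q⟩ (fun e => n1 (s.right p (Sy.odd_sq h1.odd (e ▸ p.comp q))))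
    fun e => nf2 s ⟨_, e ▸ p.comp q⟩, p, q, s.ne' q p n1, fun e => nf24 s ?_⟩
  exact Fu.trans ⟨g, p⟩ ((Fu.of tau e2).symm.trans ⟨g, (p.mul q).congr rfl (e ▸ e3)⟩)

theorem sq1 (s : Sy ι) (h1 : X1 ι g) : X1 ι (g * g) := by
  obtain ⟨y, -, y', hy', p, q, -⟩ := cyc s h1
  refine ⟨h1.odd.of_dvd_nat (by rw [← sq]; exact orderOf_pow_dvd 2), mul_mem h1.ne h1.ne, fun x hx => ?_,
    y', p.comp q, (t7 y' hy').2.1, (t7 y' hy').2.2.1⟩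
  obtain ⟨x1, h, p1⟩ := h1.r1 x hx
  obtain ⟨x2, h', p2⟩ := h1.r1 x1 h
  exact ⟨x2, h', p1.comp p2⟩

theorem unc (s : Sy ι) (h1 : X1 ι g) (be : ∃ y, Cj ι g c y ∧ y.s = c.s) (no : ¬ OutF ι) (hx : x.s = c.s)
    (x2 : x * x = 1) : ¬ Fd ι x := by
  have nF : ∀ x ∈ FF, x.s = c.s → ¬ Fd ι x := fun x h e f =>
    no ⟨x, h, fun k => absurd (e.symm.trans (mem_EE.1 k)) (by decide +kernel), f⟩
  have to4 : ∀ x : M, x.s = c.s → x * x = 1 → x ∉ FF → (Fd ι x ↔ Fd ι (m 16 1)) := fun x e e2 h => by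
    obtain ⟨t, k⟩ := (t2 x e e2).1.resolve_left h
    exact Fd.iff (Cj.of' k)
  obtain ⟨c', p, e⟩ := be
  obtain ⟨y, hy, -, -, q, -⟩ := cyc s h1
  have c2 := s.sq p (by decide +kernel)
  have n4 : ¬ Fd ι (m 16 1) := by
    rcases (t2 c' e c2).2 y hy with k | k
    · rw [← to4 _ e c2 k, ← Fd.iff p]
      exact nF _ (by decide +kernel) rfl
    · rw [← to4 _ (by rw [M.mul_s, (t7 y hy).1, mul_one, e]) (s.sq (p.mul q) (by decide +kernel)) k,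
        ← Fd.iff (p.mul q)]
      exact nF _ (by decide +kernel) (by decide +kernel)
  by_cases h : x ∈ FF
  · exact nF x h hx
  · rwa [to4 x hx x2 h]

theorem unt (s : Sy ι) (h2 : X2 ι k) (uc : ∀ x : M, x.s = c.s → x * x = 1 → ¬ Fd ι x)
    (hx : x.s = tau.s ∨ x.s = (c * tau).s) (x2 : x * x = 1) : ¬ Fd ι x := by
  obtain ⟨c', hc, p⟩ := img h2.nf (x := c) (by decide +kernel)
  obtain ⟨e, he, q⟩ := img h2.ne (x := dd 2 6) (by decide +kernel)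
  have n1 : c'.s ≠ 1 := fun k => absurd ((s.back h2.ne p).2 k) (by decide +kernel)
  have n2 : c'.s ≠ c.s := fun k => by
    have := s.right (((p.mul q).mul p.inv).mul q) (h2.c1.congr (by decide +kernel) rfl)
    rw [eq_a (mem_EE.1 he), conj_a, k] at this
    exact (by decide +kernel : ∀ u, a (c.s • u) * a u ≠ dd 4 5) _ this
  have key : ∀ x : M, x.s = c'.s → x * x = 1 → ¬ Fd ι x := fun x e e2 => by
    obtain ⟨y, r, ey⟩ := coset (inv_mem h2.ne) p.symm e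
    rw [Fd.iff r]
    exact uc y ey (s.sq r e2)
  rcases (by decide +kernel : ∀ y ∈ FF, y.s ≠ 1 → y.s ≠ c.s → ∀ σ : P, σ = tau.s ∨ σ = (c * tau).s →
    σ = y.s ∨ sg.s * σ * sg.s⁻¹ = y.s) c' hc n1 n2 x.s hx with e | e
  · exact key x e x2
  · rw [Fd.iff (Cj.of sg x)]
    exact key _ e (s.sq (Cj.of sg x) x2)

theorem fixs (s : Sy ι) (h1 : X1 ι g) (be : ∃ y, Cj ι g c y ∧ y.s = c.s) :
    ∃ y, Cj ι (g * g) sg y ∧ y.s = sg.s := by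
  obtain ⟨c', p, e⟩ := be
  obtain ⟨y, hy, q⟩ := h1.r1 sg (by decide +kernel)
  have n1 : y.s ≠ 1 := fun k => absurd ((s.back h1.ne q).2 k) (by decide +kernel)
  have n2 : y.s ≠ c.s := fun k => by
    obtain ⟨w, r, ew⟩ := coset (inv_mem h1.ne) p.symm (k.trans e.symm)
    exact absurd (s.right r q.symm ▸ ew) (by decide +kernel)
  rcases (by decide +kernel : ∀ y ∈ R1, y.s ≠ 1 → y.s ≠ c.s → y.s = sg.s ∨ y.s = (c * sg).s) y hy n1 n2 with k | k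
  · obtain ⟨w, r, ew⟩ := coset h1.ne q k
    exact ⟨w, q.comp r, ew.trans k⟩
  · obtain ⟨w, r, ew⟩ := coset h1.ne (p.mul q) k
    exact ⟨w, q.comp r, by rw [ew, M.mul_s, e, k]; decide +kernel⟩

theorem fin (s : Sy ι) {b0 b1 b2 b3 : Bool} (key : ∀ x, x * x = 1 → (Fd ι x ↔ Ph b0 b1 b2 b3 x = true))
    (gd : b0.toNat + b1.toNat + b2.toNat + b3.toNat ≠ 2) {i : Fin 4} (hi : sel b0 b1 b2 b3 i = true) {u : V}
    (f : Fu ι (rep i) (a u)) : False := by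
  obtain ⟨h, u, p, on⟩ := extE s f
  have tr : ∀ {g : G} {x y : M}, Cj ι g x y → x * x = 1 → Ph b0 b1 b2 b3 x = Ph b0 b1 b2 b3 y := fun q e =>
    Bool.eq_iff_iff.2 ((key _ e).symm.trans ((Fd.iff q).trans (key _ (s.sq q e))))
  have r2 : p2 (rep i) = true := (by decide +kernel : ∀ i, p2 (rep i) = true) i
  have last : ∀ {g : G}, Cj ι g (a u) (rep i) → p2 (a u) = true →
      (∀ x, p2 x = true → ∃ y, p2 y = true ∧ Cj ι g x y) → False := fun {g} q hu bk => by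
    refine ((t5 b0 b1 b2 b3 gd).1 i hi).not_gt (((t5 b0 b1 b2 b3 gd).2 u hu).trans_le ?_)
    rw [← cM_eq, ← cM_eq]
    refine s.count (g := g) fun x ⟨k1, k2, k3⟩ => ?_
    obtain ⟨y, hy, r⟩ := bk x k1
    exact ⟨y, ⟨hy, tr r (t0 x k1).1 ▸ k2,
      tr (q.mul r) (t0 _ (mem2.1 (mul_mem (mem2.2 hu) (mem2.2 k1)))).1 ▸ k3⟩, r⟩
  let A : Subgroup M := (A2.map ι ^ᶜ h).comap ι
  have bk : ∀ y ∈ A, ∃ x, p2 x = true ∧ Cj ι h⁻¹ y x := fun y hy => by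
    obtain ⟨_, ⟨x, hx, rfl⟩, e⟩ := mem_cj'.1 hy
    exact ⟨x, mem2.1 hx, Cj.symm (g := h) e.symm⟩
  have mk : ∀ {x y}, p2 x = true → Cj ι h x y → y ∈ A := fun {x y} hx q =>
    mem_cj'.2 ⟨_, ⟨x, mem2.2 hx, rfl⟩, q.eq.symm⟩
  have fw : ∀ x, p2 x = true → ∃ y ∈ A, Cj ι h x y := fun x hx => by
    obtain ⟨y, q⟩ := on x (mem_centralizer_singleton_iff.2 ((t0 x hx).2 i))
    exact ⟨y, mk hx q, q⟩
  have el : ∀ y ∈ A, y * y = 1 := fun y hy => by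
    obtain ⟨x, hx, q⟩ := bk y hy
    exact s.sq q.symm (t0 x hx).1
  have ct : {x | p2 x = true ∧ Ph b0 b1 b2 b3 x = false}.ncard = {x | x ∈ A ∧ Ph b0 b1 b2 b3 x = false}.ncard := by
    refine le_antisymm (s.count (g := h) fun x ⟨k1, k2⟩ => ?_) (s.count (g := h⁻¹) fun y ⟨k1, k2⟩ => ?_)
    · obtain ⟨y, hy, q⟩ := fw x k1
      exact ⟨y, ⟨hy, tr q (t0 x k1).1 ▸ k2⟩, q⟩
    · obtain ⟨x, hx, q⟩ := bk y k1
      exact ⟨x, ⟨hx, tr q (el y k1) ▸ k2⟩, q⟩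
  have cd : 32 ≤ Nat.card A := by
    have := s.count (P := fun x => p2 x = true) (Q := fun x => x ∈ A) (g := h) fw
    rw [cM_eq, show (cM fun x => p2 x = true) = 32 by decide +kernel] at this
    exact this
  obtain ⟨k1, k2⟩ := t4 b0 b1 b2 b3 gd ⟨i, hi⟩
  have aj : ∀ j ∈ [c, sg, c * sg, tau, c * tau], A ≠ Aj j := fun j hj e => k2 j hj (by
    rw [← cM_eq, ← cM_eq, ct, e]
    congr 1
    ext x
    simp only [Set.mem_ofPred_eq]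
    rw [mem_Aj ((by decide +kernel : ∀ j ∈ [c, sg, c * sg, tau, c * tau], j.s * j.s = 1) j hj)]
    refine ⟨fun ⟨⟨e1, e2⟩, e3⟩ => ⟨e3, e2.resolve_left fun e4 => ?_, e1⟩, fun ⟨e1, e2, e3⟩ => ⟨⟨e3, .inr e2⟩, e1⟩⟩
    rw [Ph, e4] at e3
    exact absurd e3 (by simp [show (1 : P).n = 0 from rfl]))
  have uA := mk r2 p
  rcases el32 el cd with e | e | e | e | e | e | e | e | e
  · obtain ⟨y, hy, q⟩ := fw c (by decide +kernel)
    have := (key c (by decide +kernel)).1 ((Fd.iff q).2 ⟨y.f, eq_a (mem_EE.1 (e hy)) ▸ Fu.refl _⟩)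
    revert this
    generalize b0 = b0, b1 = b1, b2 = b2, b3 = b3
    revert b0 b1 b2 b3
    decide +kernel
  · exact k1 (by rw [← cM_eq, ← cM_eq, ct, e])
  · exact aj _ (by simp) e
  · exact aj _ (by simp) e
  · exact aj _ (by simp) e
  · exact aj _ (by simp) e
  · exact aj _ (by simp) e
  · exact last p.symm (mem2.1 (e ▸ uA)) fun x hx => bk x (e ▸ mem2.2 hx)
  · have e1 : ∀ u, m 1 0 * a u * (m 1 0)⁻¹ = a u ∧ (m 1 0)⁻¹ * a u * m 1 0 = a u := by decide +kernel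
    refine last ((Cj.of' (e1 u).1).comp p.symm) ((e1 u).2 ▸ mem2'.1 (e ▸ uA)) fun x hx => ?_
    obtain ⟨y, hy, q⟩ := bk (m 1 0 * x * (m 1 0)⁻¹) (e ▸ mem2'.2 (by simpa [mul_assoc] using hx))
    exact ⟨y, hy, (Cj.of _ x).comp q⟩

end X3b

theorem x3b (s : Sy ι) (h1 : X1 ι g) (h2 : X2 ι k) (be : ∃ y, Cj ι g c y ∧ y.s = c.s) (h : Out ι) : OutF ι := by
  classical
  by_contra no
  have uc := fun (x : M) (e : x.s = c.s) e2 => X3b.unc s h1 be no e e2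
  obtain ⟨b, hb⟩ : ∃ b : Fin 4 → Bool, ∀ i, b i = true ↔ X3b.Fd ι (X3b.rep i) :=
    ⟨fun i => decide _, fun i => decide_eq_true_iff⟩
  have hs : ∀ i : Fin 4, X3b.sel (b 0) (b 1) (b 2) (b 3) i = b i := fun i => by fin_cases i <;> rfl
  have key : ∀ x, x * x = 1 → (X3b.Fd ι x ↔ X3b.Ph (b 0) (b 1) (b 2) (b 3) x = true) := fun x x2 => by
    rcases X3b.t1 x x2 with ⟨e, k⟩ | ⟨e, k⟩ | ⟨i, k, t, e⟩ <;> rw [k]
    · exact iff_of_true ⟨x.f, eq_a e ▸ Fu.refl _⟩ rfl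
    · exact iff_of_false (e.elim (fun e => uc x e x2) fun e => X3b.unt s h2 uc e x2) Bool.false_ne_true
    · rw [hs, hb, X3b.Fd.iff (Cj.of' e)]
  have tr : ∀ {g : G} {x y : M}, Cj ι g x y → x * x = 1 →
      X3b.Ph (b 0) (b 1) (b 2) (b 3) x = X3b.Ph (b 0) (b 1) (b 2) (b 3) y := fun q e =>
    Bool.eq_iff_iff.2 ((key _ e).symm.trans ((X3b.Fd.iff q).trans (key _ (s.sq q e))))
  obtain ⟨x, p, ex⟩ := X3b.fixs s h1 be
  obtain ⟨y, hy, y', hy', q, q', n1, n2⟩ := X3b.cyc s (X3b.sq1 s h1)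
  have e0 : sg * sg = 1 := by decide +kernel
  obtain ⟨-, -, -, -, -, e1, e2, -⟩ := X3b.t7 y hy
  have gd := X3b.t3 x ex (s.sq p e0) y hy y' hy' n1 n2 _ _ _ _ (tr p e0) (tr (p.mul q) (by decide +kernel))
    (tr (p.mul q') e1) (tr ((p.mul q).mul q') e2)
  obtain ⟨w, nw, w2, f⟩ := h
  have k0 := (key w w2).1 f
  rcases X3b.t1 w w2 with ⟨e, -⟩ | ⟨-, k⟩ | ⟨i, k, -⟩
  · exact nw e
  · exact Bool.false_ne_true ((k ..).symm.trans k0)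
  · rw [k] at k0
    obtain ⟨u, f⟩ := (hb i).1 (hs i ▸ k0)
    exact X3b.fin s key gd k0 f

end H24.T12
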