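import Cfsg.Agent.Lib.A12.Defs2
import Cfsg.Agent.Lib.A12.BAS
/-! Package WCF of `blueprint/A12/README.md`. -/
set_option autoImplicit false
namespace H24.T12
open Subgroup H1.A10 H45 H69 Gold Cfsg

variable {G : Type} [Group G] [Finite G] {ι : M →* G} {π : G → B} {g k : G}

namespace WCFh

theorem sqF : ∀ x ∈ FF, x * x = 1 := by decide +kernel

theorem comF {x y : M} (hx : x ∈ FF) (hy : y ∈ FF) : x * y = y * x := by
  have h := sqF _ (mul_mem hx hy)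
  rw [← mul_left_inj (x * y), h, mul_assoc, ← mul_assoc x x, sqF x hx, one_mul, sqF y hy]

/-- `t` acts on `A` as a transvection with centre `c` -/
def Tv (A : Subgroup M) (t c : M) : Prop := ∀ y ∈ A, t * y * t⁻¹ = y ∨ t * y * t⁻¹ = c * y

def tv (t c y : M) : Prop := t * y * t⁻¹ = y ∨ t * y * t⁻¹ = c * y
instance (t c y : M) : Decidable (tv t c y) := inferInstanceAs (Decidable (_ ∨ _))

theorem key : ∀ u ∈ FF, ∀ t, tv t u c → tv t u tau → tv t u (m 3 0) → tv t u (m 12 0) → t ∉ FF →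
    (u = m 3 0 ∧ m 1 0 * t ∈ FF) ∨ (u = m 12 0 ∧ m 4 0 * t ∈ FF) ∨ (u = m 48 0 ∧ m 16 0 * t ∈ FF) := by
  decide +kernel

theorem two {u t t' : M} (hu : u ∈ FF) (h : Tv FF t u) (h' : Tv FF t' u) (n : t ∉ FF) (n' : t' ∉ FF) :
    t⁻¹ * t' ∈ FF := by
  have a := key u hu t (h _ (by decide)) (h _ (by decide)) (h _ (by decide)) (h _ (by decide)) n
  have b := key u hu t' (h' _ (by decide)) (h' _ (by decide)) (h' _ (by decide)) (h' _ (by decide)) n'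
  have e : ∀ r : M, r * t ∈ FF → r * t' ∈ FF → t⁻¹ * t' ∈ FF := fun r p q => by
    simpa [mul_assoc] using mul_mem (inv_mem p) q
  rcases a with ⟨rfl, a⟩ | ⟨rfl, a⟩ | ⟨rfl, a⟩ <;> rcases b with ⟨b', b⟩ | ⟨b', b⟩ | ⟨b', b⟩ <;>
    first | exact e _ a b | exact absurd b' (by decide)

/-- the conjugate of `FF` inside the model -/
structure Im (ι : M →* G) (g : G) (A : Subgroup M) : Prop where
  fw : ∀ x ∈ FF, ∃ y ∈ A, Cj ι g x y
  fr : ∀ y ∈ A, ∃ x ∈ FF, Cj ι g x y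

theorem Im.ext {A : Subgroup M} (s : Sy ι) (h : Im ι g A) : ∃ k, Im ι k⁻¹ A ∧ On ι k 𝐍(A) := by
  obtain ⟨n, hn, h1⟩ := (s.sylIn (Y := NF ι) (by rintro _ ⟨x, rfl⟩; exact mem_NF x)).exists_cj_le
    (isPGroup_cj (s.two_map 𝐍(A)) g⁻¹) (fun _ hy => by
      obtain ⟨_, ⟨t, ht, rfl⟩, rfl⟩ := mem_cj'.1 hy
      refine norm_of fun x hx => ?_
      obtain ⟨y, hy, p⟩ := h.fw x hx
      obtain ⟨x', hx', q⟩ := h.fr _ (conj_mem_of_mem_normalizer ht hy)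
      exact ⟨x', hx', by simpa [mul_assoc] using (p.comp (Cj.of t y)).comp q.symm⟩)
  refine ⟨n * g⁻¹, ⟨fun x hx => ?_, fun y hy => ?_⟩, fun t ht => ?_⟩
  · obtain ⟨x', hx', p⟩ := img (inv_mem hn) hx
    obtain ⟨y, hy, q⟩ := h.fw x' hx'
    exact ⟨y, hy, by simpa using p.comp q⟩
  · obtain ⟨x, hx, p⟩ := h.fr y hy
    obtain ⟨x', hx', q⟩ := img hn hx
    exact ⟨x', hx', (p.symm.comp q).symm⟩
  · rw [cj_cj] at h1
    obtain ⟨y, -, e⟩ := h1 (cj_mem _ (mem_map_of_mem ι ht))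
    exact ⟨y, e.symm⟩

theorem noE {A : Subgroup M} (s : Sy ι) (h : Im ι g A) (hE : EE ≤ 𝐍(A)) {σ : P} (hσ : σ * σ = 1)
    (hA : ∀ y ∈ A, y.s = 1 ∨ y.s = σ) : False := by
  obtain ⟨k, h1, h2⟩ := h.ext s
  have hk : k⁻¹ ∈ NE ι := inv_mem (wcE s fun x hx => h2 x (hE hx))
  obtain ⟨y, hy, p⟩ := h1.fw c (by decide)
  obtain ⟨y', hy', q⟩ := h1.fw tau (by decide)
  have a : y.s = σ := (hA y hy).resolve_left fun e => absurd ((s.back hk p).2 e) (by decide)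
  have b : y'.s = σ := (hA y' hy').resolve_left fun e => absurd ((s.back hk q).2 e) (by decide)
  exact absurd ((s.back hk (p.mul q)).2 (by rw [mem_EE, M.mul_s, a, b, hσ])) (by decide)

theorem noJ {j : M} (s : Sy ι) (hj : j.s * j.s = 1) (h : Im ι g (Aj j)) : False := by
  refine noE s h (le_normalizer_of_cj_le fun t ht _ hz => ?_) hj fun y hy => ((mem_Aj hj).1 hy).2
  obtain ⟨y, hy, rfl⟩ := mem_cj'.1 hz
  rw [eq_a ht, a_conj]
  refine mul_mem ((mem_Aj hj).2 ⟨(comm_a.2 ?_).symm, Or.inl rfl⟩) hy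
  rcases ((mem_Aj hj).1 hy).2 with e | e
  · rw [e, one_smul, add_self, smul_zero]
  · rw [e, smul_add, ← mul_smul, hj, one_smul, add_comm]

theorem noA {A : Subgroup M} (s : Sy ι) (h : Im ι g A) {u t t' : M} (hu : u ∈ A) (a : Tv A t u) (a' : Tv A t' u)
    (n : t ∉ A) (n' : t' ∉ A) (n'' : t⁻¹ * t' ∉ A) : False := by
  obtain ⟨k, h1, h2⟩ := h.ext s
  obtain ⟨v, hv, p⟩ := h1.fr u hu
  have o : ∀ {t r : M}, t ∉ A → Cj ι k⁻¹ r t → r ∉ FF := fun n q hr => by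
    obtain ⟨y, hy, e⟩ := h1.fw _ hr
    exact n (s.right e q ▸ hy)
  have e : ∀ {t : M}, Tv A t u → ∃ r, Cj ι k⁻¹ r t ∧ Tv FF r v := fun {t} a => by
    obtain ⟨r, q⟩ := h2 t (mem_normalizer_of_cj_le fun _ hz => by
      obtain ⟨y, hy, rfl⟩ := mem_cj'.1 hz
      rcases a y hy with e | e <;> rw [e]
      exacts [hy, mul_mem hu hy])
    refine ⟨r, q.symm, fun x hx => ?_⟩
    obtain ⟨y, hy, f⟩ := h1.fw x hx
    have b := (q.symm.mul f).mul q.symm.inv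
    exact (a y hy).imp (fun e => s.left (e ▸ b) f) fun e => s.left (e ▸ b) (p.mul f)
  obtain ⟨r, q, b⟩ := e a
  obtain ⟨r', q', b'⟩ := e a'
  exact o n'' (q.inv.mul q') (two hv b b' (o n q) (o n' q'))

instance (j : M) : DecidablePred (· ∈ 𝐂[j]) := fun _ => decidable_of_iff _ mem_cent1_iff.symm
instance : DecidablePred (· ∈ A2) := fun _ => inferInstanceAs (Decidable ((_ ∈ 𝐂[_] ∧ _ ∈ 𝐂[_]) ∧ _ ∈ R1))
instance : DecidablePred (· ∈ A2') := fun _ => inferInstanceAs (Decidable ((_ ∈ 𝐂[_] ∧ _ ∈ 𝐂[_]) ∧ _ ∈ R1))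
instance (A : Subgroup M) [DecidablePred (· ∈ A)] (t u : M) : Decidable (Tv A t u) :=
  inferInstanceAs (Decidable (∀ y ∈ A, _))

end WCFh

open WCFh

theorem wcF (s : Sy ι) (h : On ι g FF) : g ∈ NF ι := by
  have i : Im ι g ((FF.map ι ^ᶜ g).comap ι) := ⟨fun x hx => (h x hx).imp fun y p =>
    ⟨by rw [mem_comap, ← p.eq]; exact cj_mem g (mem_map_of_mem ι hx), p⟩, fun y hy => by
      obtain ⟨_, ⟨x, hx, rfl⟩, e⟩ := mem_cj'.1 (mem_comap.1 hy)
      exact ⟨x, hx, e.symm⟩⟩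
  generalize (FF.map ι ^ᶜ g).comap ι = A at i
  have hc : 32 ≤ Nat.card A := card_FF ▸ s.count (P := (· ∈ FF)) (Q := (· ∈ A)) i.fw
  rcases el32 (fun y hy => (i.fr y hy).elim fun x p => s.sq p.2 (sqF x p.1)) hc with
    e | rfl | rfl | rfl | rfl | rfl | rfl | rfl | rfl
  · refine (noE s i (le_normalizer_of_cj_le fun t ht _ hz => ?_) (mul_one 1) fun y hy => Or.inl (e hy)).elim
    obtain ⟨y, hy, rfl⟩ := mem_cj'.1 hz
    rwa [eq_a (e hy), conj_a, mem_EE.1 ht, one_smul, ← eq_a (e hy)]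
  · exact norm_of i.fw
  iterate 5 exact (noJ s (by decide) i).elim
  all_goals exact (noA s i (u := z4) (t := m 3 0) (t' := m 5 0) (by decide +kernel) (by decide +kernel)
    (by decide +kernel) (by decide +kernel) (by decide +kernel) (by decide +kernel)).elim

theorem ctlF (s : Sy ι) {X : Subgroup G} (hX : FF.map ι ≤ X) (hg : g ∈ X) {x y : M} (hx : x ∈ FF) (hy : y ∈ FF)
    (p : Cj ι g x y) : ∃ k ∈ X, k ∈ NF ι ∧ Cj ι k x y := by
  obtain ⟨P, hP, h1⟩ := exists_isSylowIn_le (s.two_map FF) (le_inf hX (map_cent fun t ht => comF ht hy))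
  obtain ⟨d, hd, h2⟩ := hP.exists_cj_le (isPGroup_cj (s.two_map FF) g) (le_inf (cj_le_of_mem hX hg)
    (p.cent_cj ▸ cj_mono g (map_cent fun t ht => comF ht hx)))
  obtain ⟨t, -, h3⟩ := s.syl.exists_cj_le hP.isP le_top
  have o : ∀ k, FF.map ι ^ᶜ k ≤ ι.range → k ∈ NF ι := fun k h => wcF s fun x hx =>
    (h (cj_mem k (mem_map_of_mem ι hx))).imp fun _ e => e.symm
  have a := o t ((cj_mono t h1).trans h3)
  have b := o (t * (d * g)) (by rw [← cj_cj, ← cj_cj]; exact (cj_mono t h2).trans h3)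
  exact ⟨d * g, mul_mem hd.1 hg, (mul_mem_cancel_left a).1 b, p.comp (Cj.of_cent hd.2)⟩

end H24.T12
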