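import Cfsg.Agent.Lib.A12.Defs2
import Cfsg.Agent.Lib.A12.WCF
import Cfsg.Agent.Lib.A12.NFZ
import Cfsg.Agent.S1169
import Cfsg.Agent.Lib.SE42.Basic
/-! Package X3g of `blueprint/A12/README.md`. -/
set_option autoImplicit false
namespace H24.T12
open Subgroup H1.A10 H45 H69 Gold Cfsg

variable {G : Type} [Group G] [Finite G] {ι : M →* G} {π : G → B} {g k : G}

theorem x3g [IsSimpleGroup G] (s : Sy ι) : Out ι := by
  by_contra ho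
  obtain ⟨S, hS⟩ := s.syl.exists_sylow_top
  have sq : ∀ x ∈ EE, x * x = 1 := by decide +kernel
  have cm : ∀ u v : V, a u * a v = a v * a u := fun u v => by rw [← a_add, add_comm, a_add]
  rcases Cfsg.Agent.S1169.result S (EE.map ι) (fun e => s.ne (x := z) (by decide)
      (mem_bot.1 (e ▸ mem_map_of_mem ι (show z ∈ EE by decide))))
    ⟨⟨by
      rintro ⟨_, x, hx, rfl⟩ ⟨_, y, hy, rfl⟩
      refine Subtype.ext (show ι x * ι y = ι y * ι x from ?_)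
      rw [← map_mul, ← map_mul, eq_a hx, eq_a hy, cm]⟩⟩
    ⟨hS ▸ map_le_range ι _, by
      rintro _ ⟨x, hx, rfl⟩ g hg
      obtain ⟨y, e⟩ := hS.le hg
      have p : Cj ι g x y := e.symm
      refine ⟨y, by_contra fun hy => ho ⟨y, hy, s.sq p (sq x hx), x.f, g⁻¹, ?_⟩, e⟩
      exact p.symm.congr rfl (eq_a hx)⟩ with h | ⟨H, hH⟩
  · have := congrArg Subtype.val (h.1.1 ⟨ι c, hS.ge ⟨c, rfl⟩⟩ ⟨ι (dd 0 6), hS.ge ⟨_, rfl⟩⟩)
    change ι c * ι (dd 0 6) = ι (dd 0 6) * ι c at this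
    rw [← map_mul, ← map_mul] at this
    exact absurd (s.inj this) (by decide +kernel)
  · obtain ⟨g, e⟩ := isConj_iff.1 (H42.SE.isConj hH (s.ord2 (x := z2) (by decide +kernel) (by decide))
      (s.ord2 (x := z) (by decide +kernel) (by decide)))
    exact nf2 s ⟨g, e⟩

theorem X3g.step (s : Sy ι) (hE : g ∈ NE ι) (hF : g ∈ NF ι) {y : M} (hy : y ∈ FF) (u v : V)
    (p : Cj ι g (y * a u * y⁻¹ * (a u)⁻¹) (dd 0 1)) (q : Cj ι g (y * a v * y⁻¹ * (a v)⁻¹) (dd 2 3)) :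
    ∃ y' ∈ FF, y'.s = c.s ∧ Cj ι g y y' := by
  obtain ⟨y', hy', r⟩ := img hF hy
  obtain ⟨u', hu', r1⟩ := img hE (a_EE u)
  obtain ⟨v', hv', r2⟩ := img hE (a_EE v)
  have e1 := s.right (((r.mul r1).mul r.inv).mul r1.inv) p
  have e2 := s.right (((r.mul r2).mul r.inv).mul r2.inv) q
  rw [eq_a hu', conj_a, a_inv, ← a_add] at e1
  rw [eq_a hv', conj_a, a_inv, ← a_add] at e2
  have k1 : ∀ (σ : P) (u : V), bt 51 σ.n = 1 → a (σ • u + u) = dd 0 1 → σ = c.s ∨ σ = tau.s := by decide +kernel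
  have k2 : ∀ u : V, a (tau.s • u + u) ≠ dd 2 3 := by decide +kernel
  exact ⟨y', hy', (k1 _ _ hy'.1 e1).resolve_right fun e => k2 _ (e ▸ e2), r⟩

theorem x3c (s : Sy ι) (h2 : X2 ι k) (h : OutF ι) : ∃ g ∈ NF ι, ∃ y ∈ EE, Cj ι g c y := by
  obtain ⟨y, hy, hE, u, fu⟩ := h
  obtain ⟨g, u', p, on⟩ := extE s fu
  have ab : ∀ x ∈ FF, ∀ y ∈ FF, x * y = y * x := by decide +kernel
  have hg : g ∈ NF ι := wcF s fun x hx => on x (mem_cent1_iff.2 (ab x hx y hy))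
  have k0 : ∀ y ∈ FF, y ∉ EE → y.s = c.s ∨
      (y * dd 0 6 * y⁻¹ * (dd 0 6)⁻¹ = dd 0 1 ∧ y * dd 4 6 * y⁻¹ * (dd 4 6)⁻¹ = dd 4 5) ∨
      (y * dd 2 6 * y⁻¹ * (dd 2 6)⁻¹ = dd 2 3 ∧ y * dd 4 6 * y⁻¹ * (dd 4 6)⁻¹ = dd 4 5) := by decide +kernel
  obtain ⟨n, hn, y', hy', e, q⟩ : ∃ n ∈ NF ι, ∃ y' ∈ FF, y'.s = c.s ∧ Cj ι n y y' := by
    rcases k0 y hy hE with e | ⟨e1, e2⟩ | ⟨e1, e2⟩
    · exact ⟨1, one_mem _, y, hy, e, Cj.refl y⟩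
    · exact ⟨k, h2.nf, X3g.step s h2.ne h2.nf hy _ _ (h2.c2.congr e2.symm rfl) (h2.c0.congr e1.symm rfl)⟩
    · exact ⟨k⁻¹, inv_mem h2.nf, X3g.step s (inv_mem h2.ne) (inv_mem h2.nf) hy _ _ (h2.c0.symm.congr e1.symm rfl)
        (h2.c1.symm.congr e2.symm rfl)⟩
  have k3 : ∀ y ∈ FF, y.s = c.s → ∃ u : V, a u * c * (a u)⁻¹ = y ∨ a u * c * (a u)⁻¹ = y * z := by decide +kernel
  have m : g * n⁻¹ ∈ NF ι := mul_mem hg (inv_mem hn)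
  obtain ⟨v, r | r⟩ := k3 y' hy' e
  · exact ⟨_, mul_mem m (mem_NF _), _, a_EE u', (Cj.of' r).comp (q.symm.comp p)⟩
  · exact ⟨_, mul_mem m (mem_NF _), _, mul_mem (a_EE u') (by decide), (Cj.of' r).comp ((q.symm.comp p).mul (nf_z s m))⟩

end H24.T12
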