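import Cfsg.Agent.Lib.A12.B6
/-! A coordinate model `2⁶ : D₈` of the Sylow `2`-subgroup of `A₁₂` -/
set_option autoImplicit false
namespace H24.T12

def ACT : ℕ := 0xffbdf3f79d71fbadb2f38d307db5d375955179a592718510beb9e3b69961baa9a2b289203cb1c334914138a182308100ff7ef3fb6eb2f75e71f34e307d76d3796692755651714610be7ae3ba6aa2b65a61b24a203c72c3386282345241304200ffef7cdf6d74efae78cf2c707de75c5d65546da6584d2450beeb6c9e6964aeaa688e28603ce34c1c61442ca2480c2040ffdfbcef9eb8df5db4cf1cb07dd79c6d96985d55944d1490bedbacae9aa89e59a48e18a03cd38c2c92881c51840c1080ff7ef3f75e71fb6eb2f34e30be7ae3b65a61ba6aa2b24a207d76d37556517966927146103c72c3345241386282304200ffbdf3fbadb2f79d71f38d30beb9e3baa9a2b69961b289207db5d379a5927595517185103cb1c338a182349141308100ffdfbcdf5db4ef9eb8cf1cb0bedbac9e59a4ae9aa88e18a07dd79c5d55946d96984d14903cd38c1c51842c92880c1080ffef7cefae78df6d74cf2c70beeb6caeaa689e69648e28607de75c6da6585d65544d24503ce34c2ca2481c61440c2040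
def MUL : ℕ := 0x213b3705a97e681fa54c8dec977053b3e21ade54c1fac688
def INV : ℕ := 0xdec688

def bt (m i : ℕ) : ℕ := Nat.mod (Nat.shiftRight m i) 2

def V : Type := Fin 64
def P : Type := Fin 8
instance : DecidableEq V := inferInstanceAs (DecidableEq (Fin 64))
instance : DecidableEq P := inferInstanceAs (DecidableEq (Fin 8))
instance : Fintype V := inferInstanceAs (Fintype (Fin 64))
instance : Fintype P := inferInstanceAs (Fintype (Fin 8))
def V.n (u : V) : ℕ := Fin.val u
def P.n (u : P) : ℕ := Fin.val u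
def v (n : ℕ) : V := ⟨Nat.mod n 64, Nat.mod_lt _ (by decide)⟩
def s (n : ℕ) : P := ⟨Nat.mod n 8, Nat.mod_lt _ (by decide)⟩
def al (n : ℕ) (f : ℕ → Bool) : Bool := Nat.rec true (fun k r => and (f k) r) n
theorem al_iff {n : ℕ} {f : ℕ → Bool} : al n f = true ↔ ∀ k < n, f k = true := by
  induction n with
  | zero => simp [al]
  | succ n ih => exact Bool.and_eq_true_iff.trans (by rw [← al, ih, Nat.forall_lt_succ_right, and_comm])
theorem v_n (u : V) : v u.n = u := Fin.ext (Nat.mod_eq_of_lt u.2)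
theorem s_n (u : P) : s u.n = u := Fin.ext (Nat.mod_eq_of_lt u.2)
instance (q : V → Prop) [DecidablePred q] : Decidable (∀ u, q u) :=
  decidable_of_iff (al 64 (fun k => decide (q (v k))) = true) (al_iff.trans
    ⟨fun h u => v_n u ▸ of_decide_eq_true (h _ u.2), fun h _ _ => decide_eq_true (h _)⟩)
instance (q : P → Prop) [DecidablePred q] : Decidable (∀ u, q u) :=
  decidable_of_iff (al 8 (fun k => decide (q (s k))) = true) (al_iff.trans
    ⟨fun h u => s_n u ▸ of_decide_eq_true (h _ u.2), fun h _ _ => decide_eq_true (h _)⟩)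
instance (q : V → Prop) [DecidablePred q] : Decidable (∃ u, q u) := decidable_of_iff (¬ ∀ u, ¬ q u) (by simp)
instance (q : P → Prop) [DecidablePred q] : Decidable (∃ u, q u) := decidable_of_iff (¬ ∀ u, ¬ q u) (by simp)
def cnt (q : V → Prop) [DecidablePred q] : ℕ := Nat.rec 0 (fun k r => cond (decide (q (v k))) (Nat.succ r) r) 64
theorem cnt_eq (q : V → Prop) [DecidablePred q] : {u | q u}.ncard = cnt q := by
  have h : ∀ n ≤ 64, {u : V | q u ∧ u.n < n}.ncard =
      Nat.rec 0 (fun k r => cond (decide (q (v k))) (Nat.succ r) r) n := fun n => by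
    induction n with
    | zero => simp
    | succ n ih =>
      intro hn
      have e : (v n).n = n := Nat.mod_eq_of_lt hn
      have k : ∀ u : V, u.n = n ↔ u = v n := fun u => ⟨fun h => h ▸ (v_n u).symm, fun h => h ▸ e⟩
      simp only [← ih (Nat.le_of_succ_le hn)]
      by_cases c : q (v n)
      · rw [decide_eq_true c, cond_true, Nat.succ_eq_add_one, ← Set.ncard_insert_of_notMem (a := v n) (by simp [e])]
        congr 1; ext u; simp only [Set.mem_ofPred_eq, Set.mem_insert_iff, Nat.lt_succ_iff_lt_or_eq, k]; grind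
      · rw [decide_eq_false c, cond_false]
        congr 1; ext u; simp only [Set.mem_ofPred_eq, Nat.lt_succ_iff_lt_or_eq, k]; grind
  exact Eq.trans (by congr 1; ext u; exact ⟨fun h => ⟨h, u.2⟩, fun h => h.1⟩) (h 64 le_rfl)
theorem card_V : Nat.card V = 64 := Nat.card_fin _
theorem card_P : Nat.card P = 8 := Nat.card_fin _

instance : Zero V := ⟨⟨0, by decide⟩⟩
instance : Add V := ⟨fun u w => ⟨Nat.xor u.1 w.1, Nat.xor_lt_two_pow (n := 6) u.2 w.2⟩⟩
instance : Neg V := ⟨fun u => u⟩
instance : AddGroup V := AddGroup.ofLeftAxioms (fun _ _ _ => Fin.ext (Nat.xor_assoc _ _ _))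
  (fun _ => Fin.ext (Nat.zero_xor _)) fun _ => Fin.ext (Nat.xor_self _)
instance : AddCommGroup V := { (inferInstance : AddGroup V) with add_comm := fun _ _ => Fin.ext (Nat.xor_comm _ _) }
@[simp] theorem neg_V (u : V) : -u = u := rfl
@[simp] theorem add_self (u : V) : u + u = 0 := neg_add_cancel u
@[simp] theorem add_self_l (u w : V) : u + (u + w) = w := by rw [← add_assoc, add_self, zero_add]
@[simp] theorem add_self_r (u w : V) : w + u + u = w := by rw [add_assoc, add_self, add_zero]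
theorem add_eq {u w : V} : u + w = 0 ↔ u = w := add_neg_eq_zero (b := w)
theorem mv {u w x : V} : u + w = x ↔ u = x + w := (eq_add_neg_iff_add_eq (b := x) (c := w)).symm

def d (i : Fin 6) : V := v (Nat.pow 2 i.val)
theorem V.ind {q : V → Prop} (h0 : q 0) (h : ∀ u i, q u → q (u + d i)) (u : V) : q u := by
  have k : ∀ u : V, u ≠ 0 → ∃ i, (u + d i).n < u.n := by decide +kernel
  induction hn : u.n using Nat.strong_induction_on generalizing u with
  | _ n ih =>
    by_cases e : u = 0
    · exact e ▸ h0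
    obtain ⟨i, l⟩ := k u e
    exact add_self_r (d i) u ▸ h _ i (ih _ (hn ▸ l) _ rfl)
theorem add_of {X : Type*} [Monoid X] {f : V → X} (h0 : f 0 = 1) (h : ∀ u i, f (u + d i) = f u * f (d i)) (u w : V) :
    f (u + w) = f u * f w := by
  induction w using V.ind with
  | h0 => simp [h0]
  | h w i ih => rw [← add_assoc, h, h, ih, mul_assoc]
theorem add_of' {f : V → V} (h0 : f 0 = 0) (h : ∀ u i, f (u + d i) = f u + f (d i)) (u w : V) :
    f (u + w) = f u + f w := add_of (X := Multiplicative V) (f := f) h0 h u w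
theorem ext_d {X : Type*} [AddZeroClass X] {f g : V →+ X} (h : ∀ i, f (d i) = g (d i)) (u : V) : f u = g u := by
  induction u using V.ind with
  | h0 => simp
  | h w i ih => rw [map_add, map_add, ih, h]

instance : One P := ⟨⟨0, by decide⟩⟩
instance : Mul P := ⟨fun σ τ => s (Nat.shiftRight MUL (Nat.add (Nat.mul 24 σ.1) (Nat.mul 3 τ.1)))⟩
instance : Inv P := ⟨fun σ => s (Nat.shiftRight INV (Nat.mul 3 σ.1))⟩
instance : SMul P V := ⟨fun σ u => v (Nat.shiftRight ACT (Nat.add (Nat.mul 384 σ.1) (Nat.mul 6 u.1)))⟩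
theorem act_add (σ : P) : ∀ u w : V, σ • (u + w) = σ • u + σ • w :=
  add_of' (by revert σ; decide +kernel) (by revert σ; decide +kernel)
def ah (σ : P) : V →+ V := AddMonoidHom.mk' (σ • ·) (act_add σ)
theorem act_mul (σ τ : P) (u : V) : (σ * τ) • u = σ • τ • u :=
  ext_d (f := ah (σ * τ)) (g := (ah σ).comp (ah τ))
    ((by decide +kernel : ∀ σ τ : P, ∀ i, (σ * τ) • d i = σ • τ • d i) σ τ) u
theorem P.ext' : ∀ σ τ : P, (∀ i, σ • d i = τ • d i) → σ = τ := by decide +kernel
instance : Group P := Group.ofLeftAxioms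
  (fun _ _ _ => P.ext' _ _ fun i => by simp only [act_mul]) (by decide +kernel) (by decide +kernel)
instance : DistribMulAction P V where
  one_smul := by decide +kernel
  mul_smul := act_mul
  smul_zero := by decide +kernel
  smul_add := act_add

@[ext] structure M where
  f : V
  s : P
deriving DecidableEq

instance : One M := ⟨⟨0, 1⟩⟩
instance : Mul M := ⟨fun x y => ⟨x.f + x.s • y.f, x.s * y.s⟩⟩
instance : Inv M := ⟨fun x => ⟨x.s⁻¹ • x.f, x.s⁻¹⟩⟩
@[simp] theorem M.one_f : (1 : M).f = 0 := rfl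
@[simp] theorem M.one_s : (1 : M).s = 1 := rfl
@[simp] theorem M.mul_f (x y : M) : (x * y).f = x.f + x.s • y.f := rfl
@[simp] theorem M.mul_s (x y : M) : (x * y).s = x.s * y.s := rfl
@[simp] theorem M.inv_f (x : M) : x⁻¹.f = x.s⁻¹ • x.f := rfl
@[simp] theorem M.inv_s (x : M) : x⁻¹.s = x.s⁻¹ := rfl
instance : Group M := Group.ofLeftAxioms (fun _ _ _ => by ext <;> simp [mul_assoc, add_assoc, mul_smul])
  (fun _ => by ext <;> simp) fun _ => by ext <;> simp
def eqM : M ≃ V × P := ⟨fun x => (x.f, x.s), fun x => ⟨x.1, x.2⟩, fun _ => rfl, fun _ => rfl⟩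
instance : Finite M := Finite.of_equiv _ eqM.symm
theorem card_M : Nat.card M = 2 ^ 9 := by rw [Nat.card_congr eqM, Nat.card_prod, card_V, card_P]; rfl

def a (u : V) : M := ⟨u, 1⟩
def p (σ : P) : M := ⟨0, σ⟩
@[simp] theorem a_f (u : V) : (a u).f = u := rfl
@[simp] theorem a_s (u : V) : (a u).s = 1 := rfl
@[simp] theorem p_f (σ : P) : (p σ).f = 0 := rfl
@[simp] theorem p_s (σ : P) : (p σ).s = σ := rfl
theorem a_add (u w : V) : a (u + w) = a u * a w := by ext <;> simp
@[simp] theorem a_zero : a 0 = 1 := rfl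
theorem a_inj {u w : V} (h : a u = a w) : u = w := congrArg M.f h
theorem a_inv (u : V) : (a u)⁻¹ = a u := by ext <;> simp
theorem a_sq (u : V) : a u * a u = 1 := by ext <;> simp
theorem p_mul (σ τ : P) : p (σ * τ) = p σ * p τ := by ext <;> simp
theorem a_p (x : M) : a x.f * p x.s = x := by ext <;> simp
theorem eq_a {x : M} (h : x.s = 1) : x = a x.f := by ext <;> simp [h]
theorem conj_a (x : M) (u : V) : x * a u * x⁻¹ = a (x.s • u) := by
  ext <;> simp [add_comm]
theorem a_conj (x : M) (u : V) : a u * x * (a u)⁻¹ = a (x.s • u + u) * x := by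
  ext <;> simp [add_comm, add_left_comm, add_assoc]
theorem mul_a (x : M) (u : V) : x * a u = a (x.s • u) * x := by ext <;> simp [add_comm]
theorem comm_a {x : M} {u : V} : x * a u = a u * x ↔ x.s • u = u := by
  rw [mul_a, mul_left_inj]; exact ⟨a_inj, congrArg a⟩
theorem sq_iff {x : M} : x * x = 1 ↔ x.s * x.s = 1 ∧ x.s • x.f = x.f := by
  rw [M.ext_iff, M.mul_f, M.mul_s, M.one_f, M.one_s, add_eq, and_comm, eq_comm (a := x.f)]
def sM : M →* P := MonoidHom.mk' M.s M.mul_s
def EE : Subgroup M := sM.ker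
theorem mem_EE {x : M} : x ∈ EE ↔ x.s = 1 := Iff.rfl
instance : EE.Normal := sM.normal_ker
theorem a_EE (u : V) : a u ∈ EE := rfl

instance (q : M → Prop) [DecidablePred q] : Decidable (∀ x, q x) :=
  decidable_of_iff (∀ σ u, q ⟨u, σ⟩) ⟨fun h x => h x.s x.f, fun h _ _ => h _⟩
instance (q : M → Prop) [DecidablePred q] : Decidable (∃ x, q x) := decidable_of_iff (¬ ∀ x, ¬ q x) (by simp)
instance : DecidablePred (· ∈ EE) := fun x => inferInstanceAs (Decidable (x.s = 1))

/-- the element with sign part `n` and permutation part `k` -/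
def m (n k : ℕ) : M := ⟨v n, s k⟩
/-- the even set `{i, 6}` (empty for `i = 6`) -/
def pt (i : Fin 7) : V := v (Nat.mod (Nat.pow 2 i.val) 64)
/-- the duad `{i, j}` -/
def dd (i j : Fin 7) : M := a (pt i + pt j)
/-- the complement of the point `i` -/
def tt (i : Fin 7) : M := a (pt i + v 63)
def z : M := m 63 0
def z2 : M := m 48 0
def z4 : M := m 15 0
/-- the permutation `(0 1)(2 3)` -/
def c : M := m 0 1
/-- the permutation `(0 2)(1 3)` -/
def sg : M := m 0 2
/-- the permutation `(0 1)(4 5)` -/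
def tau : M := m 0 4
theorem tt6 : tt 6 = z := by decide
theorem dd45 : dd 4 5 = z2 := by decide
theorem tt_mul : ∀ i j, tt i * tt j = dd i j := by decide +kernel
theorem z_comm : ∀ x, x * z = z * x := by decide +kernel
theorem z2_comm : ∀ x, x * z2 = z2 * x := by decide +kernel
theorem z4_comm : ∀ x, x * z4 = z4 * x := by decide +kernel

/-- the normal elementary abelian subgroup of order `32` not contained in `EE` -/
def FF : Subgroup M where
  carrier := {x | bt 51 x.s.n = 1 ∧ bt x.f.n 0 = bt x.f.n 1 ∧ bt x.f.n 2 = bt x.f.n 3 ∧ bt x.f.n 4 = bt x.f.n 5}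
  one_mem' := by decide
  mul_mem' {x y} := by revert x y; decide +kernel
  inv_mem' {x} := by revert x; decide +kernel
instance : DecidablePred (· ∈ FF) := fun _ => inferInstanceAs (Decidable (_ ∧ _))

/-- generators in Weyl group coordinates -/
def wd : Fin 6 → B := ![sw 0 1, sw 0 1 * e 0 1, sw 2 3, sw 2 3 * e 2 3, sw 4 5, sw 4 5 * e 4 5]
def cb (n i : ℕ) (b : B) : B := if bt n i = 1 then b else 1
def wV (u : V) : B :=
  cb u.n 0 (wd 0) * cb u.n 1 (wd 1) * cb u.n 2 (wd 2) * cb u.n 3 (wd 3) * cb u.n 4 (wd 4) * cb u.n 5 (wd 5)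
def wP (σ : P) : B := cb σ.n 0 (e 0 2) * cb σ.n 1 (sw 0 2 * sw 1 3) * cb σ.n 2 (e 0 4)
theorem wV_add (u u' : V) : wV (u + u') = wV u * wV u' :=
  add_of (by decide +kernel) (by decide +kernel) u u'
theorem wP_mul : ∀ σ τ : P, wP (σ * τ) = wP σ * wP τ := by decide +kernel
theorem wP_V : ∀ (σ : P) (u : V), wP σ * wV u = wV (σ • u) * wP σ := by decide +kernel
/-- the model inside the Weyl group of type `D₆` -/
def w : M →* B := MonoidHom.mk' (fun x => wV x.f * wP x.s) fun x y => by
  rw [M.mul_f, M.mul_s, wV_add, wP_mul, mul_assoc, mul_assoc, ← mul_assoc (wP x.s) (wV y.f), wP_V, mul_assoc]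
theorem w_apply (x : M) : w x = wV x.f * wP x.s := rfl
theorem w_inj : Function.Injective w :=
  (injective_iff_map_eq_one w).2 (by decide +kernel : ∀ x : M, wV x.f * wP x.s = 1 → x = 1)
theorem w_W (x : M) : w x ∈ W := (by decide +kernel : ∀ x : M, ∑ i, (wV x.f * wP x.s).f i = 0) x
theorem w_FF (x : M) : x ∈ FF ↔ (w x).s = 1 :=
  (by decide +kernel : ∀ x : M, x ∈ FF ↔ ∀ i, (wV x.f * wP x.s).s i = i) x |>.trans
    ⟨fun h => Equiv.ext h, fun h i => by rw [← w_apply, h]; rfl⟩
theorem w_z : w z = z0 := by decide +kernel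
theorem w_z2 : w z2 = e 4 5 := by decide +kernel
theorem w_c : w c = e 0 2 := by decide +kernel
theorem w_tau : w tau = e 0 4 := by decide +kernel
theorem w_sg : w sg = sw 0 2 * sw 1 3 := by decide +kernel
theorem w_46 : w (dd 4 6) = sw 4 5 := by decide +kernel
theorem w_06 : w (dd 0 6) = sw 0 1 := by decide +kernel
theorem w_26 : w (dd 2 6) = sw 2 3 := by decide +kernel

/-- the elements with an even permutation of the six blocks -/
def T0 : Subgroup M := (alternatingGroup I).comap (sB.comp w)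

end H24.T12
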