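import Cfsg.Agent.Lib.A12.Defs
import Cfsg.Agent.Lib.AutCl.ClOIdx
/-! The orthogonal model: vocabulary. See `blueprint/A12/README.md`. -/
set_option autoImplicit false
namespace H24.T12
open Subgroup H1.A10 H45 H69 Gold Cfsg H67 Matrix

variable {F : Type} [Field F] {n : ℕ}

/-- the sum of `n` squares -/
noncomputable def QS (F : Type) [Field F] (n : ℕ) : QuadraticForm F (Fin n → F) :=
  QuadraticMap.weightedSumSquares F fun _ : Fin n => (1 : F)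
theorem QS_apply (x : Fin n → F) : QS F n x = ∑ i, x i ^ 2 := by
  simp [QS, QuadraticMap.weightedSumSquares_apply, sq]
/-- the standard basis vectors -/
abbrev ev (i : Fin n) : Fin n → F := Pi.single i 1
/-- reflections -/
noncomputable abbrev rv (x : Fin n → F) : GL (Fin n) F := reflGL (QS F n) x
noncomputable abbrev rf (i : Fin n) : GL (Fin n) F := rv (ev i)
/-- the commutator subgroup of the orthogonal group -/
noncomputable abbrev OG (F : Type) [Field F] (n : ℕ) : Subgroup (GL (Fin n) F) := Geo.omegaGL (QS F n)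
/-- the elements of trivial spinor norm -/
noncomputable def RG (F : Type) [Field F] (n : ℕ) : Subgroup (GL (Fin n) F) := OG F n ⊔ closure (Set.range rf)
/-- semisimilarities -/
noncomputable abbrev GS (F : Type) [Field F] (n : ℕ) : Subgroup (GamL (Fin n) F) := GamO (QS F n)
/-- the action of semilinear maps on matrices -/
abbrev ga (s : GamL (Fin n) F) (g : GL (Fin n) F) : GL (Fin n) F := gamAut (Fin n) F s g
/-- the permutation matrix sending `ev i` to `ev (ρ i)` -/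
def pm (F : Type) [Field F] (ρ : Equiv.Perm (Fin n)) : GL (Fin n) F :=
  ⟨(ρ⁻¹).permMatrix F, ρ.permMatrix F, by rw [← Matrix.permMatrix_mul]; simp,
    by rw [← Matrix.permMatrix_mul]; simp⟩
/-- the stabiliser of a vector -/
def St (x : Fin n → F) : Subgroup (GL (Fin n) F) where
  carrier := {g | g.val *ᵥ x = x}
  mul_mem' {a b} ha hb := by rw [Set.mem_ofPred_eq, Units.val_mul, ← mulVec_mulVec, hb, ha]
  one_mem' := one_mulVec x
  inv_mem' {a} ha := by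
    rw [Set.mem_ofPred_eq] at ha ⊢
    rw [← ha, mulVec_mulVec, Units.inv_mul, one_mulVec, ha]
theorem mem_St {x : Fin n → F} {g : GL (Fin n) F} : g ∈ St x ↔ g.val *ᵥ x = x := Iff.rfl
/-- the field has order `3` or `5` modulo `8` -/
def Q8 (F : Type) [Fintype F] : Prop := Fintype.card F % 8 = 3 ∨ Fintype.card F % 8 = 5
/-- the negatives of the reflections in unit vectors -/
def DR (F : Type) [Field F] (n : ℕ) : Set (GL (Fin n) F) := {d | ∃ x, QS F n x = 1 ∧ d = -rv x}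

variable {G : Type} [Group G]

/-- `y` acts on the central quotient of `L` as the semisimilarity `s` -/
def Ind {ι : Type} [Fintype ι] [DecidableEq ι] {q : (ι → F) → F} {L : Subgroup G} (κ : L →* POmega F q) (y : G)
    (s : GamO q) : Prop := ∀ l l' : L, (l' : G) = y * l * y⁻¹ → κ l' = pomGam q s (κ l)

/-- the orthogonal model of the centraliser `H` of `z` -/
structure OM (H : Subgroup G) (ι : M →* G) (F : Type) [Field F] [Fintype F] (ψ : GL (Fin 6) F → G) : Prop where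
  q8 : Q8 F
  mul : ∀ g ∈ RG F 6, ∀ g' ∈ RG F 6, ψ (g * g') = ψ g * ψ g'
  inj : ∀ g ∈ RG F 6, ψ g = 1 → g = 1
  le : ∀ g ∈ RG F 6, ψ g ∈ H
  rfl : ∀ i : Fin 6, ψ (rf i) = ι (dd i.castSucc 6)
  sur : ∀ x, ∃ g ∈ RG F 6, ψ g = ι x
  act : ∀ y ∈ H, ∃ s ∈ GS F 6, ∀ g ∈ RG F 6, ga s g ∈ RG F 6 ∧ y * ψ g * y⁻¹ = ψ (ga s g)
  cen : ∀ y ∈ H, (∀ g ∈ RG F 6, y * ψ g = ψ g * y) → y = 1 ∨ y = ι z

/-- the matrix `g ⊕ det g` -/
def upM (g : Matrix (Fin 6) (Fin 6) F) : Matrix (Fin 7) (Fin 7) F :=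
  reindex finSumFinEquiv finSumFinEquiv (fromBlocks g 0 0 (diagonal fun _ : Fin 1 => g.det))
theorem upM_mul (g h : Matrix (Fin 6) (Fin 6) F) : upM (g * h) = upM g * upM h := by
  simp [upM, fromBlocks_multiply, det_mul]
theorem upM_one : upM (1 : Matrix (Fin 6) (Fin 6) F) = 1 := by simp [upM]
/-- the embedding `g ↦ g ⊕ det g` -/
def up : GL (Fin 6) F →* GL (Fin 7) F := Units.map ⟨⟨upM, upM_one⟩, upM_mul⟩

/-- the swapping involution: it acts on the stabiliser of the last line like the permutation `(0 1)` -/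
structure Sw (ι : M →* G) (F : Type) [Field F] (ψ : GL (Fin 6) F → G) (σ : G) : Prop where
  sq : σ * σ = 1
  pa : PA ι σ (Equiv.swap 0 1 * Equiv.swap 5 6)
  act : ∀ g ∈ OG F 6, g ∈ St (ev 5) → σ * ψ g * σ⁻¹ = ψ (pm F (Equiv.swap 0 1) * g * (pm F (Equiv.swap 0 1))⁻¹)

/-- data for extending a homomorphism from the centraliser of `t` -/
structure Am {A : Type} [Group A] (t s b : A) (φ : A → G) (σ : G) : Prop where
  mul : ∀ x ∈ 𝐂[t], ∀ y ∈ 𝐂[t], φ (x * y) = φ x * φ y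
  ss : s * s = 1
  sq : σ * σ = 1
  ne : s * t * s⁻¹ ≠ t
  cm : s * t * s⁻¹ ∈ 𝐂[t]
  act : ∀ x ∈ 𝐂[t], x ∈ 𝐂[s * t * s⁻¹] → σ * φ x * σ⁻¹ = φ (s * x * s⁻¹)
  bt : b ∈ 𝐂[t]
  br : s * b * s = b * s * b
  br' : σ * φ b * σ = φ b * σ * φ b
  tr1 : ∀ d, IsConj t d → d ≠ t → d ∈ 𝐂[t] → ∃ x ∈ 𝐂[t], x * (s * t * s⁻¹) * x⁻¹ = d
  tr2 : ∀ d, IsConj t d → d ≠ t → d ∈ 𝐂[t] → d ≠ s * t * s⁻¹ → d ∈ 𝐂[s * t * s⁻¹] →
    ∃ x ∈ 𝐂[t], x ∈ 𝐂[s * t * s⁻¹] ∧ x * (b * (s * t * s⁻¹) * b⁻¹) * x⁻¹ = d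
  geo : ∀ d₁ d₂ d₃ d₄, IsConj t d₁ → IsConj t d₂ → IsConj t d₃ → IsConj t d₄ → d₂ ≠ d₃ → d₂ ∈ 𝐂[d₃] →
    ∃ d, IsConj t d ∧ (d ≠ d₁ ∧ d ∈ 𝐂[d₁]) ∧ (d ≠ d₂ ∧ d ∈ 𝐂[d₂]) ∧ (d ≠ d₃ ∧ d ∈ 𝐂[d₃]) ∧ d ≠ d₄ ∧ d ∈ 𝐂[d₄]

end H24.T12
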