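import Cfsg.Agent.Lib.A12.Defs2
import Cfsg.Agent.Lib.A12.WCF
import Cfsg.Agent.Lib.A12.NFZ
/-! Package X2 of `blueprint/A12/README.md`. -/
set_option autoImplicit false
namespace H24.T12
open Subgroup H1.A10 H45 H69 Gold Cfsg

variable {G : Type} [Group G] [Finite G] {ι : M →* G} {π : G → B} {g k : G}

namespace X2h

theorem hU : ∀ y ∈ FF, y ∈ EE → y = 1 ∨ y = m 12 0 ∨ y = z ∨ y = m 51 0 ∨ y = m 3 0 ∨ y = m 48 0 ∨ y = m 15 0 ∨
    y = m 60 0 := by decide +kernel

theorem hA : ∀ y ∈ FF, y ∈ R1 → m 4 0 * y = y * m 4 0 → y ∈ EE := by decide +kernel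

theorem hT : WCFh.Tv FF (m 4 0) (m 12 0) := by decide +kernel

theorem axis (s : Sy ι) (hg : g ∈ NF ι) {y r : M} (p : Cj ι g tau y) (hy : y ∈ R1) (q : Cj ι g (m 12 0) (m 12 0))
    (t : Cj ι g (m 4 0) r) (hr : m 4 0 * r ∈ FF) : ∃ h ∈ NF ι, Cj ι h (m 3 0) z2 := by
  have yF : y ∈ FF := (s.back hg p).1 (by decide)
  have e : r * y = y * r := s.comm t p (by decide)
  have e' : m 4 0 * y = y * m 4 0 := by
    have := WCFh.comF hr yF
    rwa [mul_assoc, e, ← mul_assoc, ← mul_assoc, mul_left_inj] at this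
  have zz := nf_z s hg
  have hh : g * ι (m 17 0) * g⁻¹ ∈ NF ι := mul_mem (mul_mem hg (mem_NF _)) (inv_mem hg)
  have a : Cj ι (g * ι (m 17 0) * g⁻¹) y (y * (z * m 12 0)) := by
    simpa only [mul_assoc] using
      (p.symm.comp (Cj.of' (t := m 17 0) (y := tau * (z * m 12 0)) (by decide))).comp (p.mul (zz.mul q))
  have hz := nf_z s hh
  rcases hU y yF (hA y yF hy e') with rfl | rfl | rfl | rfl | rfl | rfl | rfl | rfl
  · exact absurd (s.left p (Cj.one g)) (by decide)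
  · exact absurd (s.left p q) (by decide)
  · exact absurd (s.left p zz) (by decide)
  · exact absurd (s.left p ((zz.mul q).congr rfl (by decide))) (by decide)
  · exact ⟨_, hh, a.congr rfl (by decide)⟩
  · exact ⟨_, inv_mem hh, a.symm.congr (by decide) rfl⟩
  · exact ⟨_, inv_mem hh, (a.mul hz).symm.congr (by decide) (by decide)⟩
  · exact ⟨_, hh, (a.mul hz).congr (by decide) (by decide)⟩

theorem fuse (s : Sy ι) (n2 : N2 G) : ∃ h ∈ NF ι, Cj ι h (m 3 0) z2 := by
  obtain ⟨g, y, hy, p, -, o⟩ := s.thompson n2 (sgn R1 fun x y => (by decide +kernel :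
    ∀ σ τ : P, bt (σ * τ).n 2 = 0 ↔ (bt σ.n 2 = 0 ↔ bt τ.n 2 = 0)) x.s y.s) (y := tau) (by decide)
  replace hy : y ∈ R1 := sgn_eq_one.1 hy
  have hg : g ∈ NF ι := wcF s fun x hx => o x (WCFh.comF hx (by decide))
  obtain ⟨r, t⟩ := o (m 4 0) (by decide)
  obtain ⟨u, hu, q⟩ := img hg (x := m 12 0) (by decide)
  have tv : WCFh.Tv FF r u := fun x hx => by
    obtain ⟨x', hx', f⟩ := img (inv_mem hg) hx
    have f : Cj ι g x' x := by simpa using f.symm
    have b := (t.mul f).mul t.inv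
    exact (hT x' hx').imp (fun e => s.right (e ▸ b) f) fun e => s.right (e ▸ b) (q.mul f)
  rcases WCFh.key u hu r (tv _ (by decide)) (tv _ (by decide)) (tv _ (by decide)) (tv _ (by decide))
    (fun h => absurd ((s.back hg t).2 h) (by decide)) with ⟨rfl, h⟩ | ⟨rfl, h⟩ | ⟨rfl, -⟩
  · refine axis s (mul_mem (mem_NF sg) hg) (p.comp (Cj.of sg y))
      (mul_mem (mul_mem (by decide) hy) (by decide)) (q.comp (Cj.of' (by decide))) (t.comp (Cj.of sg r)) ?_
    rw [show m 4 0 = sg * m 1 0 * sg⁻¹ by decide, conj_mul]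
    exact Normal.conj_mem inferInstance _ h _
  · exact axis s hg p hy q t h
  · exact ⟨_, mul_mem hg (mem_NF sg), (Cj.of' (by decide)).comp q⟩

theorem fin (he : g ∈ NE ι) (hf : g ∈ NF ι) (a : Cj ι g (dd 0 1) (dd 2 3)) (b : Cj ι g (dd 2 3) (dd 4 5))
    (d : Cj ι g (dd 4 5) (dd 0 1)) : ∃ g, X2 ι g := by
  obtain ⟨n, hn⟩ := exists_odd_pow g
  exact ⟨_, hn, pow_mem he _, pow_mem hf _, a.pow4 b d n, b.pow4 d a n, d.pow4 a b n⟩

end X2h

open X2h

theorem x2 (s : Sy ι) (n2 : N2 G) : ∃ g, X2 ι g := by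
  obtain ⟨h, hh, p⟩ := fuse s n2
  obtain ⟨k, hf, p, o⟩ := s.extZ (Y := NF ι) (by rintro _ ⟨x, rfl⟩; exact mem_NF x) z2_comm hh p
  have he : k ∈ NE ι := wcE s fun x hx => o x (by
    rw [eq_a hx]; exact (a_add _ _).symm.trans ((congrArg a (add_comm _ _)).trans (a_add _ _)))
  obtain ⟨y, hy, q⟩ := img hf (x := m 12 0) (by decide)
  have zz := nf_z s hf
  have f : Fu ι z2 y := (Fu.symm ⟨_, p⟩).trans ((Fu.of sg (by decide)).trans ⟨_, q⟩)
  have f' : Fu ι (m 60 0) z4 := ⟨_, (p.mul zz).congr (by decide) (by decide)⟩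
  have r := (p.mul q).mul zz
  rcases hU y hy ((s.back he q).1 (by decide)) with rfl | rfl | rfl | rfl | rfl | rfl | rfl | rfl
  · exact absurd (s.left q (Cj.one k)) (by decide)
  · exact fin (mul_mem he (mem_NE sg)) (mul_mem hf (mem_NF sg))
      ((Cj.of' (by decide)).comp (q.congr rfl (by decide))) ((Cj.of' (by decide)).comp (p.congr rfl (by decide)))
      ((Cj.of' (by decide)).comp (r.congr rfl (by decide)))
  · exact absurd f (nf2 s)
  · exact absurd (f.trans ((Fu.of sg (by decide)).trans f')) (nf24 s)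
  · exact fin (inv_mem he) (inv_mem hf) (q.symm.congr (by decide) (by decide)) (r.symm.congr (by decide) (by decide))
      (p.symm.congr (by decide) (by decide))
  · exact absurd (s.left p q) (by decide)
  · exact absurd f (nf24 s)
  · exact absurd (f.trans f') (nf24 s)

end H24.T12
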